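/-
Alternating and Hermitian forms at once: orthogonals, nondegenerate and totally isotropic subspaces.
-/
import Cfsg.Agent.Lib.Classical.Symplectic.Geometry
import Cfsg.Agent.Lib.Classical.Unitary.Form

set_option autoImplicit false
set_option maxHeartbeats 400000
set_option linter.unusedSectionVars false

namespace CfsgLib.Geo.Refl

open Module CfsgLib.Classical CfsgLib.Classical.Herm

variable {F : Type*} [Field F] {V : Type*} [AddCommGroup V] [Module F V] {σ : F →+* F}

/-- An alternating or Hermitian nondegenerate form. -/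
structure IsRefl (B : V →ₛₗ[σ] V →ₗ[F] F) : Prop where
  kind : (σ = RingHom.id F ∧ ∀ x, B x x = 0) ∨ (IsInvol σ ∧ ∀ u v, σ (B u v) = B v u)
  nondeg : ∀ x, (∀ y, B x y = 0) → x = 0

/-- A nondegenerate subspace. -/
def ND (B : V →ₛₗ[σ] V →ₗ[F] F) (W : Submodule F V) : Prop :=
  ∀ x ∈ W, (∀ y ∈ W, B x y = 0) → x = 0

/-- A totally isotropic subspace. -/
def TI (B : V →ₛₗ[σ] V →ₗ[F] F) (W : Submodule F V) : Prop := ∀ x ∈ W, ∀ y ∈ W, B x y = 0

/-- The orthogonal subspace. -/
def orth (B : V →ₛₗ[σ] V →ₗ[F] F) (W : Submodule F V) : Submodule F V := ⨅ w : W, LinearMap.ker (B (w : V))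

/-- Dimensions allowed for nondegenerate subspaces. -/
def Par (σ : F →+* F) (d : ℕ) : Prop := σ = RingHom.id F → Even d

variable {B : V →ₛₗ[σ] V →ₗ[F] F}

theorem mem_orth {W : Submodule F V} {z : V} : z ∈ orth B W ↔ ∀ w ∈ W, B w z = 0 := by
  simp [orth]

theorem orth_anti {U W : Submodule F V} (h : U ≤ W) : orth B W ≤ orth B U := fun _ hz =>
  mem_orth.2 fun w hw => mem_orth.1 hz w (h hw)

theorem nd_bot : ND B (⊥ : Submodule F V) := fun _ hx _ => (Submodule.mem_bot F).1 hx

theorem ti_bot : TI B (⊥ : Submodule F V) := fun x hx y _ => by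
  rw [(Submodule.mem_bot F).1 hx, map_zero, LinearMap.zero_apply]

theorem TI.mono {U W : Submodule F V} (h : TI B W) (hU : U ≤ W) : TI B U := fun x hx y hy =>
  h x (hU hx) y (hU hy)

theorem TI.sup {U W : Submodule F V} (hU : TI B U) (hW : TI B W) (h1 : ∀ a ∈ U, ∀ b ∈ W, B a b = 0)
    (h2 : ∀ a ∈ U, ∀ b ∈ W, B b a = 0) : TI B (U ⊔ W) := by
  intro x hx y hy
  obtain ⟨a, ha, b, hb, rfl⟩ := Submodule.mem_sup.1 hx
  obtain ⟨c, hc, d, hd, rfl⟩ := Submodule.mem_sup.1 hy
  simp only [map_add, LinearMap.add_apply, hU a ha c hc, hW b hb d hd, h1 a ha d hd, h2 c hc b hb, add_zero]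

theorem ti_iff_le_orth {W : Submodule F V} : TI B W ↔ W ≤ orth B W :=
  ⟨fun h _ hx => mem_orth.2 fun w hw => h w hw _ hx, fun h x hx y hy => mem_orth.1 (h hy) x hx⟩

namespace IsRefl

variable (h : IsRefl B)
include h

theorem invol (a : F) : σ (σ a) = a := by
  rcases h.kind with ⟨rfl, -⟩ | ⟨hσ, -⟩
  · rfl
  · exact hσ.invol a

/-- Reflexivity with a sign. -/
theorem exists_sign : ∃ ε : F, ε * ε = 1 ∧ ∀ u v, B v u = ε * σ (B u v) := by
  rcases h.kind with ⟨rfl, hA⟩ | ⟨-, hs⟩
  · refine ⟨-1, by ring, fun u v => ?_⟩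
    have h1 := hA (u + v)
    simp only [map_add, LinearMap.add_apply, hA, zero_add, add_zero] at h1
    rw [RingHom.id_apply]
    linear_combination h1
  · exact ⟨1, one_mul 1, fun u v => by rw [one_mul, hs]⟩

theorem eq_zero_symm {x y : V} (hxy : B x y = 0) : B y x = 0 := by
  obtain ⟨ε, -, hs⟩ := h.exists_sign
  rw [hs, hxy, map_zero, mul_zero]

theorem orth_symm {W : Submodule F V} {z : V} (hz : z ∈ orth B W) : ∀ w ∈ W, B z w = 0 :=
  fun w hw => h.eq_zero_symm (mem_orth.1 hz w hw)

theorem nd_top : ND B (⊤ : Submodule F V) := fun x _ hall => h.nondeg x fun _ => hall _ Submodule.mem_top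

theorem finrank_orth [FiniteDimensional F V] (W : Submodule F V) :
    finrank F W + finrank F (orth B W) = finrank F V := by
  let b := Module.finBasis F W
  let Ψ : V →ₗ[F] (Fin (finrank F W) → F) := LinearMap.pi fun i => B (b i : V)
  have hker : LinearMap.ker Ψ = orth B W := by
    ext z
    rw [LinearMap.mem_ker, mem_orth]
    constructor
    · intro hz w hw
      have hw' : w = ∑ i, b.repr ⟨w, hw⟩ i • (b i : V) := by
        have h2 := congrArg Subtype.val (b.sum_repr ⟨w, hw⟩).symm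
        rw [Submodule.coe_sum] at h2
        exact h2
      rw [hw', map_sum, LinearMap.sum_apply]
      exact Finset.sum_eq_zero fun i _ => by
        rw [smul_left, show B (b i : V) z = 0 from congrFun hz i, mul_zero]
    · exact fun hz => funext fun i => hz _ (b i).2
  have hsurj : LinearMap.range Ψ = ⊤ := by
    by_contra hne
    obtain ⟨f, hf0, hf⟩ := Submodule.exists_le_ker_of_lt_top _ (Ne.lt_top hne)
    set c : Fin (finrank F W) → F := fun i => f (Pi.single i 1) with hc
    have hz : ∀ z, ∑ i, c i * B (b i : V) z = 0 := fun z => by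
      have h1 : f (Ψ z) = 0 := hf ⟨z, rfl⟩
      rw [pi_eq_sum_univ (Ψ z), map_sum] at h1
      rw [← h1]
      refine Finset.sum_congr rfl fun i _ => ?_
      rw [map_smul, smul_eq_mul, mul_comm]
      show Ψ z i * c i = Ψ z i * _
      rw [hc]
      congr 1
      dsimp only
      congr 1
      funext j
      simp [Pi.single_apply, eq_comm]
    have h0 : ∑ i, σ (c i) • (b i : V) = 0 := h.nondeg _ fun z => by
      rw [map_sum, LinearMap.sum_apply, ← hz z]
      exact Finset.sum_congr rfl fun i _ => by rw [smul_left, h.invol]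
    have hli : LinearIndependent F fun i => (b i : V) :=
      b.linearIndependent.map' W.subtype W.ker_subtype
    refine hf0 (LinearMap.pi_ext' fun i => LinearMap.ext_ring ?_)
    have h1 := Fintype.linearIndependent_iff.1 hli (fun i => σ (c i)) h0 i
    simpa [hc] using h1
  have h2 := LinearMap.finrank_range_add_finrank_ker Ψ
  rw [hsurj, finrank_top, hker, finrank_fin_fun] at h2
  exact h2

theorem isCompl_orth [FiniteDimensional F V] {W : Submodule F V} (hW : ND B W) :
    IsCompl W (orth B W) := by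
  refine (Submodule.isCompl_iff_disjoint _ _ ?_).2 (Submodule.disjoint_def.2 fun x hx hx' => ?_)
  · exact (h.finrank_orth W).ge
  · exact hW x hx fun y hy => h.orth_symm hx' y hy

theorem nd_orth [FiniteDimensional F V] {W : Submodule F V} (hW : ND B W) : ND B (orth B W) := by
  intro x hx hall
  refine h.nondeg x fun z => ?_
  obtain ⟨a, b, ha, hb, rfl⟩ := Submodule.codisjoint_iff_exists_add_eq.1 (h.isCompl_orth hW).codisjoint z
  rw [map_add, h.orth_symm hx a ha, hall b hb, add_zero]

theorem nd_sup {U W : Submodule F V} (hU : ND B U) (hW : ND B W)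
    (horth : ∀ a ∈ U, ∀ b ∈ W, B a b = 0) : ND B (U ⊔ W) := by
  intro x hx hall
  obtain ⟨a, ha, b, hb, rfl⟩ := Submodule.mem_sup.1 hx
  have h1 : a = 0 := hU a ha fun y hy => by
    have h2 := hall y (Submodule.mem_sup_left hy)
    rwa [add_left, h.eq_zero_symm (horth y hy b hb), add_zero] at h2
  have h3 : b = 0 := hW b hb fun y hy => by
    have h2 := hall y (Submodule.mem_sup_right hy)
    rwa [add_left, horth a ha y hy, zero_add] at h2
  rw [h1, h3, add_zero]

theorem nd_left {U W : Submodule F V} (hsup : ND B (U ⊔ W)) (horth : ∀ a ∈ U, ∀ b ∈ W, B a b = 0) :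
    ND B U := by
  intro x hx hall
  refine hsup x (Submodule.mem_sup_left hx) fun y hy => ?_
  obtain ⟨a, ha, b, hb, rfl⟩ := Submodule.mem_sup.1 hy
  rw [map_add, hall a ha, horth x hx b hb, add_zero]

theorem nd_right {U W : Submodule F V} (hsup : ND B (U ⊔ W)) (horth : ∀ a ∈ U, ∀ b ∈ W, B a b = 0) :
    ND B W :=
  h.nd_left (U := W) (W := U) (by rwa [sup_comm]) fun a ha b hb => h.eq_zero_symm (horth b hb a ha)

theorem nd_disjoint {U W : Submodule F V} (hU : ND B U) (horth : ∀ a ∈ U, ∀ b ∈ W, B a b = 0) :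
    Disjoint U W :=
  Submodule.disjoint_def.2 fun x hx hx' => hU x hx fun y hy => h.eq_zero_symm (horth y hy x hx')

theorem finrank_sup_nd [FiniteDimensional F V] {U W : Submodule F V} (hU : ND B U)
    (horth : ∀ a ∈ U, ∀ b ∈ W, B a b = 0) : finrank F ↥(U ⊔ W) = finrank F U + finrank F W := by
  have h1 := Submodule.finrank_sup_add_finrank_inf_eq U W
  rw [(h.nd_disjoint hU horth).eq_bot, finrank_bot, add_zero] at h1
  exact h1

/-- The orthogonal of a nondegenerate subspace inside another one. -/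
theorem nd_inf_orth [FiniteDimensional F V] {U W : Submodule F V} (hU : ND B U) (hW : ND B W) (hUW : U ≤ W) :
    ND B (W ⊓ orth B U) ∧ U ⊔ (W ⊓ orth B U) = W ∧
      finrank F U + finrank F ↥(W ⊓ orth B U) = finrank F W := by
  have horth : ∀ a ∈ U, ∀ b ∈ W ⊓ orth B U, B a b = 0 := fun a ha b hb => mem_orth.1 hb.2 a ha
  have hsup : U ⊔ (W ⊓ orth B U) = W := by
    refine le_antisymm (sup_le hUW inf_le_left) fun w hw => ?_
    obtain ⟨a, b, ha, hb, rfl⟩ := Submodule.codisjoint_iff_exists_add_eq.1 (h.isCompl_orth hU).codisjoint w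
    exact Submodule.add_mem_sup ha ⟨by simpa using W.sub_mem hw (hUW ha), hb⟩
  refine ⟨h.nd_right (U := U) (by rw [hsup]; exact hW) horth, hsup, ?_⟩
  rw [← h.finrank_sup_nd hU horth, hsup]

theorem two_mul_le_of_ti [FiniteDimensional F V] {C S : Submodule F V} (hC : ND B C) (hSC : S ≤ C)
    (hS : TI B S) : 2 * finrank F S ≤ finrank F C := by
  have h1 : S ⊔ orth B C ≤ orth B S := sup_le (ti_iff_le_orth.1 hS) (orth_anti hSC)
  have h2 := Submodule.finrank_mono h1
  have h3 := Submodule.finrank_sup_add_finrank_inf_eq S (orth B C)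
  rw [((h.isCompl_orth hC).disjoint.mono_left hSC).eq_bot, finrank_bot, add_zero] at h3
  have h4 := h.finrank_orth S
  have h5 := h.finrank_orth C
  omega

theorem restrict_isRefl {W : Submodule F V} (hW : ND B W) :
    IsRefl (Herm.IsHerm.restrict B W) where
  kind := h.kind.imp (fun ⟨h1, h2⟩ => ⟨h1, fun x => h2 x⟩) fun ⟨h1, h2⟩ => ⟨h1, fun u v => h2 u v⟩
  nondeg x hx := Subtype.ext (hW x x.2 fun y hy => hx ⟨y, hy⟩)

omit h in
theorem bilin_nondeg {B : V →ₗ[F] V →ₗ[F] F} (h : IsRefl B) : LinearMap.BilinForm.Nondegenerate B :=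
  ⟨h.nondeg, fun y hy => h.nondeg y fun z => h.eq_zero_symm (hy z)⟩

theorem par_finrank [Finite F] [FiniteDimensional F V] : Par σ (finrank F V) := by
  rintro rfl
  rcases h.kind with ⟨-, hA⟩ | ⟨hσ, -⟩
  · obtain ⟨m, v, -, hm⟩ := Symp.exists_sympSys (B := B) hA
      h.bilin_nondeg
    exact ⟨m, by omega⟩
  · exact absurd rfl hσ.ne_id

theorem par_nd [Finite F] [FiniteDimensional F V] {W : Submodule F V} (hW : ND B W) : Par σ (finrank F W) :=
  (h.restrict_isRefl hW).par_finrank

/-- Nondegenerate spaces of equal dimension are isometric. -/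
theorem exists_isometry [Finite F] [FiniteDimensional F V] {V' : Type*} [AddCommGroup V'] [Module F V']
    [FiniteDimensional F V'] {B' : V' →ₛₗ[σ] V' →ₗ[F] F} (h' : IsRefl B')
    (hd : finrank F V = finrank F V') : ∃ e : V ≃ₗ[F] V', ∀ u v, B' (e u) (e v) = B u v := by
  rcases h.kind with ⟨rfl, hA⟩ | ⟨hσ, hs⟩
  · rcases h'.kind with ⟨-, hA'⟩ | ⟨hσ', -⟩
    · exact Symp.exists_isometry hA h.bilin_nondeg hA'
        h'.bilin_nondeg hd
    · exact absurd rfl hσ'.ne_id
  · rcases h'.kind with ⟨rfl, -⟩ | ⟨-, hs'⟩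
    · exact absurd rfl hσ.ne_id
    · exact Herm.IsHerm.exists_isometry_of_finrank_eq ⟨hσ, hs, h.nondeg⟩ ⟨hσ, hs', h'.nondeg⟩ hd

end IsRefl

end CfsgLib.Geo.Refl
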