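/-
Invariant subspaces killed by a product of irreducible polynomials of equal degree.
-/
import Cfsg.Agent.Lib.Geo.PrimeOrderAction
import Cfsg.Agent.Lib.Classical.ClassTheory.CyclotomicFactors

set_option autoImplicit false
set_option maxHeartbeats 400000
set_option linter.unusedSectionVars false

namespace CfsgLib.Geo.Refl

open Module Polynomial CfsgLib.Geo.PrimeAct CfsgLib.Classical

universe u

variable {F : Type u} [Field F] [Finite F] {V : Type*} [AddCommGroup V] [Module F V] [FiniteDimensional F V]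

/-- The subspace `W` is killed by a product of monic irreducible polynomials of degree `b`. -/
structure Killed (g : Module.End F V) (W : Submodule F V) (Φ : Finset F[X]) (b : ℕ) : Prop where
  pos : 0 < b
  inv : ∀ v ∈ W, g v ∈ W
  deg : ∀ f ∈ Φ, f.Monic ∧ Irreducible f ∧ f.natDegree = b
  kill : ∀ v ∈ W, aeval g (∏ f ∈ Φ, f) v = 0
  ss : g.IsSemisimple

theorem pow_apply_mem {g : Module.End F V} {S : Submodule F V} (hS : ∀ v ∈ S, g v ∈ S) (k : ℕ) :
    ∀ v ∈ S, (g ^ k) v ∈ S := by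
  induction k with
  | zero => exact fun _ hv => hv
  | succ k ih => exact fun v hv => by rw [pow_succ', Module.End.mul_apply]; exact hS _ (ih v hv)

theorem aeval_apply_mem {g : Module.End F V} {S : Submodule F V} (hS : ∀ v ∈ S, g v ∈ S) (p : F[X]) :
    ∀ v ∈ S, aeval g p v ∈ S := fun v hv => by
  rw [aeval_eq_sum_range, LinearMap.sum_apply]
  exact S.sum_mem fun j _ => S.smul_mem _ (pow_apply_mem hS j v hv)

theorem aeval_comm_apply (g : Module.End F V) (p : F[X]) (v : V) : aeval g p (g v) = g (aeval g p v) := by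
  have h : aeval g (p * X) = aeval g (X * p) := by rw [mul_comm]
  rw [map_mul, map_mul, aeval_X] at h
  exact LinearMap.congr_fun h v

/-- The kernel of a polynomial. -/
noncomputable def polyKer (g : Module.End F V) (f : F[X]) : Submodule F V := LinearMap.ker (aeval g f)

theorem mem_polyKer {g : Module.End F V} {f : F[X]} {v : V} : v ∈ polyKer g f ↔ aeval g f v = 0 :=
  LinearMap.mem_ker

theorem polyKer_invariant (g : Module.End F V) (f : F[X]) : ∀ v ∈ polyKer g f, g v ∈ polyKer g f :=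
  fun v hv => by rw [mem_polyKer, aeval_comm_apply, mem_polyKer.1 hv, map_zero]

/-- The cyclic subspace of a vector killed by an irreducible polynomial. -/
theorem exists_cyclic {g : Module.End F V} {f : F[X]} (hm : f.Monic) (hirr : Irreducible f) {v : V} (hv0 : v ≠ 0)
    (hv : aeval g f v = 0) :
    ∃ S : Submodule F V, v ∈ S ∧ (∀ x ∈ S, g x ∈ S) ∧ finrank F S = f.natDegree ∧ S ≤ polyKer g f ∧
      (∀ T : Submodule F V, (∀ x ∈ T, g x ∈ T) → v ∈ T → S ≤ T) ∧ ∀ x ∈ S, ∃ p : F[X], aeval g p v = x := by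
  let Θ : F[X] →ₗ[F] V := (LinearMap.applyₗ v) ∘ₗ (aeval g).toLinearMap
  have hΘ : ∀ p, Θ p = aeval g p v := fun p => rfl
  let Φ : (degreeLT F f.natDegree) →ₗ[F] V := Θ.comp (degreeLT F f.natDegree).subtype
  have hinj : Function.Injective Φ := by
    rw [injective_iff_map_eq_zero]
    intro p hp
    by_contra hp0
    have hp0' : (p : F[X]) ≠ 0 := fun h0 => hp0 (Subtype.ext h0)
    have hdeg : (p : F[X]).natDegree < f.natDegree :=
      (natDegree_lt_iff_degree_lt hp0').2 (mem_degreeLT.1 p.2)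
    obtain ⟨a, c, hac⟩ := (hirr.coprime_iff_not_dvd (n := (p : F[X]))).2 fun hdvd =>
      absurd (natDegree_le_of_dvd hdvd hp0') (Nat.not_le.2 hdeg)
    have h2 := congrArg (fun P => aeval g P v) hac
    have hp' : aeval g (p : F[X]) v = 0 := hp
    simp only [map_add, map_mul, LinearMap.add_apply, Module.End.mul_apply, hv, hp', map_zero, add_zero,
      map_one, Module.End.one_apply] at h2
    exact hv0 h2.symm
  have hrange : ∀ p : F[X], aeval g p v ∈ LinearMap.range Φ := fun p => by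
    refine ⟨⟨p %ₘ f, mem_degreeLT.2 ?_⟩, ?_⟩
    · rw [← degree_eq_natDegree hm.ne_zero]; exact degree_modByMonic_lt _ hm
    · show aeval g (p %ₘ f) v = _
      conv_rhs => rw [← modByMonic_add_div p f, map_add, LinearMap.add_apply, mul_comm, map_mul,
        Module.End.mul_apply, hv, map_zero, add_zero]
  refine ⟨LinearMap.range Φ, ?_, ?_, ?_, ?_, ?_, ?_⟩
  · simpa using hrange 1
  · rintro _ ⟨p, rfl⟩
    have h2 := hrange (X * (p : F[X]))
    rw [map_mul, aeval_X] at h2
    exact h2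
  · rw [LinearMap.finrank_range_of_inj hinj, (degreeLTEquiv F f.natDegree).finrank_eq, finrank_fin_fun]
  · rintro _ ⟨p, rfl⟩
    rw [mem_polyKer]
    show aeval g f (aeval g (p : F[X]) v) = 0
    rw [← Module.End.mul_apply, ← map_mul, mul_comm, map_mul, Module.End.mul_apply, hv, map_zero]
  · rintro T hT hvT _ ⟨p, rfl⟩
    exact aeval_apply_mem hT _ v hvT
  · rintro _ ⟨p, rfl⟩
    exact ⟨p, rfl⟩

/-- A polynomial kernel splits over pairwise coprime factors. -/
theorem finrank_ker_prod_le {M : Type*} [AddCommGroup M] [Module F M] [FiniteDimensional F M]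
    (h : Module.End F M) (Φ : Finset F[X]) (hΦ : ∀ f ∈ Φ, f.Monic ∧ Irreducible f) :
    finrank F (polyKer h (∏ f ∈ Φ, f)) ≤ ∑ f ∈ Φ, finrank F (polyKer h f) := by
  classical
  induction Φ using Finset.induction_on with
  | empty =>
    have h0 : polyKer h (∏ f ∈ (∅ : Finset F[X]), f) = ⊥ := (Submodule.eq_bot_iff _).2 fun x hx => by
      simpa [mem_polyKer] using hx
    rw [h0, finrank_bot, Finset.sum_empty]
  | @insert f Φ hf ih =>
    rw [Finset.forall_mem_insert] at hΦ
    rw [Finset.prod_insert hf, Finset.sum_insert hf]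
    have hcop : IsCoprime f (∏ g ∈ Φ, g) := IsCoprime.prod_right fun g hg => by
      refine (hΦ.1.2.coprime_iff_not_dvd).2 fun hd => hf ?_
      rwa [eq_of_monic_of_associated hΦ.1.1 (hΦ.2 g hg).1 (hΦ.1.2.associated_of_dvd (hΦ.2 g hg).2 hd)]
    have hsup : polyKer h f ⊔ polyKer h (∏ g ∈ Φ, g) = polyKer h (f * ∏ g ∈ Φ, g) :=
      Polynomial.sup_ker_aeval_eq_ker_aeval_mul_of_coprime h hcop
    rw [← hsup]
    have h2 := Submodule.finrank_sup_add_finrank_inf_eq (polyKer h f) (polyKer h (∏ g ∈ Φ, g))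
    have h3 := ih hΦ.2
    omega

namespace Killed

variable {g : Module.End F V} {W : Submodule F V} {Φ : Finset F[X]} {b : ℕ} (hK : Killed g W Φ b)
include hK

theorem mono {U : Submodule F V} (hUW : U ≤ W) (hU : ∀ v ∈ U, g v ∈ U) : Killed g U Φ b :=
  ⟨hK.pos, hU, hK.deg, fun v hv => hK.kill v (hUW hv), hK.ss⟩

/-- A nonzero invariant subspace contains an invariant one of dimension `b`. -/
theorem exists_min {U : Submodule F V} (hUW : U ≤ W) (hU : ∀ v ∈ U, g v ∈ U) (hne : U ≠ ⊥) :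
    ∃ f ∈ Φ, ∃ S ≤ U, (∀ v ∈ S, g v ∈ S) ∧ finrank F S = b ∧ S ≤ polyKer g f := by
  obtain ⟨f, hf, hne'⟩ : ∃ f ∈ Φ, polyKer (g.restrict hU) f ≠ ⊥ := by
    by_contra! hc
    have h1 := finrank_ker_prod_le (g.restrict hU) Φ fun f hf => ⟨(hK.deg f hf).1, (hK.deg f hf).2.1⟩
    rw [Finset.sum_eq_zero fun f hf => by rw [hc f hf, finrank_bot]] at h1
    have h2 : polyKer (g.restrict hU) (∏ f ∈ Φ, f) = ⊤ := eq_top_iff.2 fun v _ => by
      rw [mem_polyKer]
      refine Subtype.ext ?_
      have h3 := hK.kill v (hUW v.2)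
      rw [aeval_eq_sum_range, LinearMap.sum_apply] at h3 ⊢
      simp only [LinearMap.smul_apply] at h3 ⊢
      rw [Submodule.coe_sum]
      simp only [Submodule.coe_smul, restrict_pow_apply, Submodule.coe_zero]
      exact h3
    rw [h2, finrank_top] at h1
    exact hne (Submodule.finrank_eq_zero.1 (Nat.le_zero.1 h1))
  obtain ⟨v, hv, hv0⟩ := Submodule.exists_mem_ne_zero_of_ne_bot hne'
  have hv' : aeval g f (v : V) = 0 := by
    have h3 := congrArg Subtype.val (mem_polyKer.1 hv)
    rw [aeval_eq_sum_range, LinearMap.sum_apply] at h3 ⊢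
    simp only [LinearMap.smul_apply] at h3 ⊢
    rw [Submodule.coe_sum] at h3
    simpa only [Submodule.coe_smul, restrict_pow_apply, Submodule.coe_zero] using h3
  obtain ⟨S, -, hS, hSd, hSk, hSmin, -⟩ := exists_cyclic (hK.deg f hf).1 (hK.deg f hf).2.1
    (fun h0 => hv0 (Subtype.ext h0)) hv'
  exact ⟨f, hf, S, hSmin U hU v.2, hS, hSd.trans (hK.deg f hf).2.2, hSk⟩

/-- Invariant complements inside invariant subspaces. -/
theorem exists_compl {P Q : Submodule F V} (hPQ : P ≤ Q) (hP : ∀ v ∈ P, g v ∈ P) (hQ : ∀ v ∈ Q, g v ∈ Q) :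
    ∃ N ≤ Q, (∀ v ∈ N, g v ∈ N) ∧ P ⊓ N = ⊥ ∧ P ⊔ N = Q := by
  obtain ⟨P', hP', hc⟩ := Module.End.isSemisimple_iff.1 hK.ss P ((Module.End.mem_invtSubmodule g).2 hP)
  refine ⟨P' ⊓ Q, inf_le_right, fun v hv => ⟨(Module.End.mem_invtSubmodule g).1 hP' hv.1, hQ v hv.2⟩, ?_, ?_⟩
  · exact le_bot_iff.1 ((inf_le_inf_left P inf_le_left).trans hc.disjoint.le_bot)
  · rw [← sup_inf_assoc_of_le _ hPQ, hc.sup_eq_top, top_inf_eq]

theorem dvd_finrank (n : ℕ) : ∀ {U : Submodule F V}, finrank F U = n → U ≤ W → (∀ v ∈ U, g v ∈ U) → b ∣ n := by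
  induction n using Nat.strong_induction_on with
  | h n ih =>
    intro U hUn hUW hU
    rcases Nat.eq_zero_or_pos n with rfl | hn
    · exact dvd_zero b
    obtain ⟨f, -, S, hSU, hS, hSd, -⟩ := hK.exists_min hUW hU fun h => by
      rw [h, finrank_bot] at hUn; omega
    obtain ⟨N, hNU, hN, hinf, hsup⟩ := hK.exists_compl hSU hS hU
    have h1 := Submodule.finrank_sup_add_finrank_inf_eq S N
    rw [hinf, hsup, finrank_bot, hUn, hSd] at h1
    have h2 := ih (finrank F N) (by have := hK.pos; omega) rfl (hNU.trans hUW) hN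
    rw [show n = b + finrank F N by omega]
    exact dvd_add (dvd_refl b) h2

theorem dvd {U : Submodule F V} (hUW : U ≤ W) (hU : ∀ v ∈ U, g v ∈ U) : b ∣ finrank F U :=
  hK.dvd_finrank _ rfl hUW hU

theorem le_sum {S : Submodule F V} (hSW : S ≤ W) (hS : ∀ v ∈ S, g v ∈ S) :
    finrank F S ≤ ∑ f ∈ Φ, finrank F ↥(S ⊓ polyKer g f) := by
  have h1 := finrank_ker_prod_le (g.restrict hS) Φ fun f hf => ⟨(hK.deg f hf).1, (hK.deg f hf).2.1⟩
  have key : ∀ (p : F[X]) (v : S), v ∈ polyKer (g.restrict hS) p ↔ (v : V) ∈ polyKer g p := fun p v => by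
    rw [mem_polyKer, mem_polyKer, aeval_eq_sum_range, aeval_eq_sum_range, LinearMap.sum_apply,
      LinearMap.sum_apply, ← Subtype.coe_injective.eq_iff, Submodule.coe_sum, Submodule.coe_zero]
    simp only [LinearMap.smul_apply, Submodule.coe_smul, restrict_pow_apply]
  have h2 : ∀ p, (polyKer (g.restrict hS) p).map S.subtype = S ⊓ polyKer g p := fun p => by
    ext v
    constructor
    · rintro ⟨x, hx, rfl⟩; exact ⟨x.2, (key p x).1 hx⟩
    · exact fun hv => ⟨⟨v, hv.1⟩, (key p ⟨v, hv.1⟩).2 hv.2, rfl⟩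
  have htop : polyKer (g.restrict hS) (∏ f ∈ Φ, f) = ⊤ := eq_top_iff.2 fun v _ => (key _ v).2 (hK.kill v (hSW v.2))
  rw [htop, finrank_top] at h1
  refine h1.trans (Finset.sum_le_sum fun f _ => le_of_eq ?_)
  rw [← h2, Submodule.finrank_map_subtype_eq]

end Killed

theorem semisimple_of_pow {g : Module.End F V} {r : ℕ} (hrF : (r : F) ≠ 0) {z : F} (hz : z ≠ 0)
    (hg : g ^ r = z • (1 : Module.End F V)) : g.IsSemisimple :=
  Module.End.isSemisimple_of_squarefree_aeval_eq_zero (p := X ^ r - C z)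
    ((separable_X_pow_sub_C z hrF hz).squarefree) (by simp [hg, Algebra.algebraMap_eq_smul_one])

theorem ord_facts {r : ℕ} [Fact r.Prime] (hrF : (r : F) ≠ 0) :
    0 < orderOf (Nat.card F : ZMod r) ∧ (∀ f ∈ ClassTheory.cycFactors F r, f.natDegree = orderOf (Nat.card F : ZMod r)) ∧
      (ClassTheory.cycFactors F r).card * orderOf (Nat.card F : ZMod r) = r - 1 := by
  haveI := Fintype.ofFinite F
  obtain ⟨p, hp⟩ := CharP.exists F
  obtain ⟨k, hpp, hk⟩ := FiniteField.card F p
  haveI : Fact p.Prime := ⟨hpp⟩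
  have hrp : r ≠ p := fun e => hrF ((CharP.cast_eq_zero_iff F p r).2 (e ▸ dvd_rfl))
  have hq0 : (Nat.card F : ZMod r) ≠ 0 := fun h => by
    rw [Nat.card_eq_fintype_card, hk, ZMod.natCast_eq_zero_iff] at h
    exact hrp ((Nat.prime_dvd_prime_iff_eq Fact.out hpp).1 ((Fact.out : r.Prime).dvd_of_dvd_pow h))
  have hdvd := ZMod.orderOf_dvd_card_sub_one hq0
  obtain ⟨h1, h2, h3⟩ := ClassTheory.cycFactors_facts (F := F) (p := p) (Fact.out : r.Prime) hrp
    (i := orderOf (Nat.card F : ZMod r)) (t := (r - 1) / orderOf (Nat.card F : ZMod r))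
    (by rw [Nat.card_eq_fintype_card]) (Nat.div_mul_cancel hdvd)
  exact ⟨h3, h1, by rw [h2, Nat.div_mul_cancel hdvd]⟩

/-- The moving part of a map of prime order. -/
theorem killed_rest {g : Module.End F V} {r : ℕ} [Fact r.Prime] (hrF : (r : F) ≠ 0) (hr : g ^ r = 1) :
    Killed g (restSp r g) (ClassTheory.cycFactors F r) (orderOf (Nat.card F : ZMod r)) := by
  classical
  refine ⟨(ord_facts hrF).1, restSp_invariant hr, fun f hf => ⟨(ClassTheory.mem_cycFactors_irreducible hf).2,
    (ClassTheory.mem_cycFactors_irreducible hf).1, (ord_facts hrF).2.1 f hf⟩, fun v hv => ?_,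
    semisimple_of_pow hrF one_ne_zero (by rw [one_smul, hr])⟩
  have hsq : Squarefree (cyclotomic r F) := by
    haveI : NeZero (r : F) := ⟨hrF⟩
    exact (separable_cyclotomic r F).squarefree
  have hdvd : cyclotomic r F ∣ ∏ f ∈ ClassTheory.cycFactors F r, f := by
    rw [ClassTheory.cycFactors, Finset.prod_eq_multiset_prod, Multiset.toFinset_val,
      Multiset.dedup_eq_self.2 ((UniqueFactorizationMonoid.squarefree_iff_nodup_normalizedFactors
        (cyclotomic_ne_zero r F)).1 hsq), Multiset.map_id']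
    exact (UniqueFactorizationMonoid.prod_normalizedFactors (cyclotomic_ne_zero r F)).symm.dvd
  obtain ⟨c, hc⟩ := hdvd
  have h0 : aeval g (cyclotomic r F) v = 0 := by
    rw [cyclotomic_prime, map_sum]
    simpa [restSp, orbitSum, LinearMap.sum_apply] using hv
  rw [hc, mul_comm, map_mul, Module.End.mul_apply, h0, map_zero]

end CfsgLib.Geo.Refl
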