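/-
Existence and transitivity for nondegenerate and totally isotropic subspaces.
-/
import Cfsg.Agent.Lib.Geo.Refl.Basic

set_option autoImplicit false
set_option maxHeartbeats 400000
set_option linter.unusedSectionVars false

namespace CfsgLib.Geo.Refl

open Module CfsgLib.Classical CfsgLib.Classical.Herm

variable {F : Type*} [Field F] [Finite F] {V : Type*} [AddCommGroup V] [Module F V] [FiniteDimensional F V]
variable {σ : F →+* F} {B : V →ₛₗ[σ] V →ₗ[F] F}

/-- An isometric endomorphism. -/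
def Pres (B : V →ₛₗ[σ] V →ₗ[F] F) (g : Module.End F V) : Prop := ∀ u v, B (g u) (g v) = B u v

theorem pres_equiv_symm {e : V ≃ₗ[F] V} (he : ∀ u v, B (e u) (e v) = B u v) (u v : V) :
    B (e.symm u) (e.symm v) = B u v := by rw [← he, e.apply_symm_apply, e.apply_symm_apply]

theorem exists_nd_line {x : V} (hx : B x x ≠ 0) :
    ND B (Submodule.span F ({x} : Set V)) ∧ finrank F (Submodule.span F ({x} : Set V)) = 1 := by
  refine ⟨fun y hy hall => ?_, finrank_span_singleton fun h0 => hx (by rw [h0, map_zero])⟩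
  obtain ⟨c, rfl⟩ := Submodule.mem_span_singleton.1 hy
  have h1 := hall x (Submodule.mem_span_singleton_self x)
  rw [smul_left, mul_eq_zero, map_eq_zero] at h1
  rw [h1.resolve_right hx, zero_smul]

namespace IsRefl

variable (h : IsRefl B)
include h

theorem exists_aniso (hσ : IsInvol σ) (hs : ∀ u v, σ (B u v) = B v u) {W : Submodule F V} (hW : ND B W)
    (h0 : 0 < finrank F W) : ∃ x ∈ W, B x x ≠ 0 := by
  haveI : Nontrivial W := Module.nontrivial_of_finrank_pos (R := F) h0
  obtain ⟨y, hy⟩ := exists_ne (0 : W)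
  have hh : Herm.IsHerm B := ⟨hσ, hs, h.nondeg⟩
  obtain ⟨x, hx⟩ := (hh.restrict_herm (U := W) hW).exists_anisotropic hy
  exact ⟨x, x.2, hx⟩

/-- Nondegenerate subspaces of every allowed dimension. -/
theorem exists_nd_sub (d : ℕ) : ∀ {W : Submodule F V}, ND B W → Par σ d → d ≤ finrank F W →
    ∃ U ≤ W, ND B U ∧ finrank F U = d := by
  induction d using Nat.strong_induction_on with
  | h d ih =>
    intro W hW hpar hle
    rcases Nat.eq_zero_or_pos d with rfl | hd
    · exact ⟨⊥, bot_le, nd_bot, finrank_bot F V⟩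
    have cont : ∀ {P : Submodule F V}, P ≤ W → ND B P → finrank F P ≤ d → 0 < finrank F P →
        Par σ (d - finrank F P) → ∃ U ≤ W, ND B U ∧ finrank F U = d := by
      intro P hPW hP hPd hP0 hpar'
      obtain ⟨hW', -, hdim⟩ := h.nd_inf_orth hP hW hPW
      obtain ⟨U, hU, hUn, hUd⟩ := ih (d - finrank F P) (by omega) hW' hpar' (by omega)
      have ho : ∀ a ∈ P, ∀ b ∈ U, B a b = 0 := fun a ha b hb => mem_orth.1 (hU hb).2 a ha
      exact ⟨P ⊔ U, sup_le hPW (hU.trans inf_le_left), h.nd_sup hP hUn ho,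
        by rw [h.finrank_sup_nd hP ho, hUd]; omega⟩
    rcases h.kind with ⟨hid, hA⟩ | ⟨hσ, hs⟩
    · obtain ⟨l, hl⟩ := hpar hid
      obtain ⟨u, hu, hu0⟩ := W.exists_mem_ne_zero_of_ne_bot fun hb => by
        rw [hb, finrank_bot] at hle; omega
      obtain ⟨w₀, hw₀, huw⟩ : ∃ w ∈ W, B u w ≠ 0 := by
        by_contra! hc
        exact hu0 (hW u hu hc)
      let w := (B u w₀)⁻¹ • w₀
      have hw : B u w = 1 := by rw [smul_right, inv_mul_cancel₀ huw]
      have hwu : B w u = -1 := by
        have h1 := hA (u + w)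
        simp only [map_add, LinearMap.add_apply, hA, hw, zero_add, add_zero] at h1
        linear_combination h1
      set P := Submodule.span F {u} ⊔ Submodule.span F {w}
      have hval : ∀ a b : F, B (a • u + b • w) u = -σ b ∧ B (a • u + b • w) w = σ a := fun a b =>
        ⟨by rw [add_left, smul_left, smul_left, hA, hwu]; ring, by rw [add_left, smul_left, smul_left, hA, hw]; ring⟩
      have hP : ND B P := by
        intro x hx hall
        obtain ⟨x₁, h1, x₂, h2, rfl⟩ := Submodule.mem_sup.1 hx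
        obtain ⟨a, rfl⟩ := Submodule.mem_span_singleton.1 h1
        obtain ⟨b, rfl⟩ := Submodule.mem_span_singleton.1 h2
        have e1 := hall u (Submodule.mem_sup_left (Submodule.mem_span_singleton_self u))
        have e2 := hall w (Submodule.mem_sup_right (Submodule.mem_span_singleton_self w))
        rw [(hval a b).1, neg_eq_zero, map_eq_zero] at e1
        rw [(hval a b).2, map_eq_zero] at e2
        rw [e1, e2, zero_smul, zero_smul, add_zero]
      have hne : ∀ {x y : V}, B x y ≠ 0 → finrank F (Submodule.span F ({x} : Set V)) = 1 ∧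
          finrank F (Submodule.span F ({y} : Set V)) = 1 := fun {x y} hxy =>
        ⟨finrank_span_singleton fun h0 => hxy (by rw [h0, map_zero, LinearMap.zero_apply]),
          finrank_span_singleton fun h0 => hxy (by rw [h0, map_zero])⟩
      have hPd : finrank F P = 2 := by
        show finrank F ↥(Submodule.span F ({u} : Set V) ⊔ Submodule.span F {w}) = 2
        have h1 := Submodule.finrank_sup_add_finrank_inf_eq (Submodule.span F ({u} : Set V))
          (Submodule.span F {w})
        have h2 : Submodule.span F ({u} : Set V) ⊓ Submodule.span F {w} = ⊥ := (Submodule.eq_bot_iff _).2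
          fun x hx => by
            obtain ⟨a, ha⟩ := Submodule.mem_span_singleton.1 hx.1
            obtain ⟨b, hb⟩ := Submodule.mem_span_singleton.1 hx.2
            have h3 : B u x = 0 := by rw [← ha, smul_right, hA, mul_zero]
            rw [← hb, smul_right, hw, mul_one] at h3
            rw [← hb, h3, zero_smul]
        rw [h2, finrank_bot] at h1
        have h3 := hne (show B u w ≠ 0 from hw ▸ one_ne_zero)
        omega
      exact cont (P := P) (sup_le ((Submodule.span_singleton_le_iff_mem _ _).2 hu)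
        ((Submodule.span_singleton_le_iff_mem _ _).2 (W.smul_mem _ hw₀))) hP (by omega) (by omega)
        fun _ => ⟨l - 1, by omega⟩
    · obtain ⟨x, hxW, hx⟩ := h.exists_aniso hσ hs hW (by omega)
      obtain ⟨h1, h2⟩ := exists_nd_line hx
      exact cont ((Submodule.span_singleton_le_iff_mem _ _).2 hxW) h1 (by omega) (by omega)
        fun hid => absurd hid hσ.ne_id

/-- A nondegenerate plane has an isotropic point. -/
theorem exists_ti_point {P : Submodule F V} (hP : ND B P) (hPd : finrank F P = 2) :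
    ∃ u ∈ P, u ≠ 0 ∧ B u u = 0 := by
  rcases h.kind with ⟨-, hA⟩ | ⟨hσ, hs⟩
  · obtain ⟨u, hu, hu0⟩ := P.exists_mem_ne_zero_of_ne_bot fun hb => by rw [hb, finrank_bot] at hPd; omega
    exact ⟨u, hu, hu0, hA u⟩
  · obtain ⟨x, hxP, hx⟩ := h.exists_aniso hσ hs hP (by omega)
    obtain ⟨h1, h2⟩ := exists_nd_line hx
    obtain ⟨hP', -, hd⟩ := h.nd_inf_orth h1 hP ((Submodule.span_singleton_le_iff_mem _ _).2 hxP)
    obtain ⟨y, hyP, hy⟩ := h.exists_aniso hσ hs hP' (by omega)
    obtain ⟨a, ha⟩ := hσ.exists_norm_eq (μ := -(B y y / B x x)) (by rw [map_neg, map_div₀, hs, hs])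
    have hxy : B x y = 0 := mem_orth.1 hyP.2 x (Submodule.mem_span_singleton_self x)
    have hyx : B y x = 0 := h.eq_zero_symm hxy
    have haxx : a * σ a * B x x = -(B y y) := by rw [ha, neg_mul, div_mul_cancel₀ _ hx]
    refine ⟨a • x + y, P.add_mem (P.smul_mem _ hxP) hyP.1, fun h0 => hy ?_, ?_⟩
    · have h3 := congrArg (B y) h0
      rwa [map_add, smul_right, hyx, mul_zero, zero_add, map_zero] at h3
    · simp only [map_add, LinearMap.add_apply, smul_left, smul_right, hxy, hyx, mul_zero, add_zero]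
      linear_combination haxx

/-- Totally isotropic subspaces of every dimension up to half. -/
theorem exists_ti_sub (j : ℕ) : ∀ {W : Submodule F V}, ND B W → 2 * j ≤ finrank F W →
    ∃ S ≤ W, TI B S ∧ finrank F S = j := by
  induction j with
  | zero => exact fun _ _ => ⟨⊥, bot_le, ti_bot, finrank_bot F V⟩
  | succ j ih =>
    intro W hW hle
    obtain ⟨P, hPW, hP, hPd⟩ := h.exists_nd_sub 2 hW (fun _ => even_two) (by omega)
    obtain ⟨u, huP, hu0, huu⟩ := h.exists_ti_point hP hPd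
    obtain ⟨hW', -, hdim⟩ := h.nd_inf_orth hP hW hPW
    obtain ⟨S, hSW, hS, hSd⟩ := ih hW' (by omega)
    have hle' : Submodule.span F {u} ≤ P := (Submodule.span_singleton_le_iff_mem _ _).2 huP
    have ho : ∀ a ∈ Submodule.span F {u}, ∀ b ∈ S, B a b = 0 := fun a ha b hb =>
      mem_orth.1 (hSW hb).2 a (hle' ha)
    refine ⟨Submodule.span F {u} ⊔ S, sup_le (hle'.trans hPW) (hSW.trans inf_le_left), ?_, ?_⟩
    · refine TI.sup (fun a ha b hb => ?_) hS ho fun a ha b hb => h.eq_zero_symm (ho a ha b hb)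
      obtain ⟨s, rfl⟩ := Submodule.mem_span_singleton.1 ha
      obtain ⟨t, rfl⟩ := Submodule.mem_span_singleton.1 hb
      rw [smul_left, smul_right, huu, mul_zero, mul_zero]
    · have h1 := Submodule.finrank_sup_add_finrank_inf_eq (Submodule.span F ({u} : Set V)) S
      have h2 : Disjoint (Submodule.span F ({u} : Set V)) S :=
        (h.nd_disjoint hP (W := W ⊓ orth B P) fun a ha b hb => mem_orth.1 hb.2 a ha).mono hle' hSW
      rw [h2.eq_bot, finrank_bot, finrank_span_singleton hu0, hSd] at h1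
      omega

/-- Glueing isometries along nondegenerate subspaces. -/
theorem exists_glue {U U' : Submodule F V} (hU : ND B U) (hU' : ND B U') (e₁ : U ≃ₗ[F] U')
    (he₁ : ∀ u v : U, B (e₁ u : V) (e₁ v) = B (u : V) v) (e₂ : orth B U ≃ₗ[F] orth B U')
    (he₂ : ∀ u v : orth B U, B (e₂ u : V) (e₂ v) = B (u : V) v) :
    ∃ g : V ≃ₗ[F] V, (∀ u v, B (g u) (g v) = B u v) ∧ (∀ u : U, g u = (e₁ u : V)) ∧
      ∀ u : orth B U, g u = (e₂ u : V) := by
  let p := Submodule.prodEquivOfIsCompl U (orth B U) (h.isCompl_orth hU)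
  let p' := Submodule.prodEquivOfIsCompl U' (orth B U') (h.isCompl_orth hU')
  let g : V ≃ₗ[F] V := p.symm.trans ((e₁.prodCongr e₂).trans p')
  have hg : ∀ (a : U) (b : orth B U), g ((a : V) + b) = (e₁ a : V) + e₂ b := fun a b => by
    have hs : p.symm ((a : V) + b) = (a, b) := by rw [LinearEquiv.symm_apply_eq]; rfl
    simp only [g, LinearEquiv.trans_apply, hs]
    rfl
  refine ⟨g, fun u v => ?_, fun u => by simpa using hg u 0, fun u => by simpa using hg 0 u⟩
  obtain ⟨a, b, ha, hb, rfl⟩ := Submodule.codisjoint_iff_exists_add_eq.1 (h.isCompl_orth hU).codisjoint u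
  obtain ⟨c, d, hc, hd, rfl⟩ := Submodule.codisjoint_iff_exists_add_eq.1 (h.isCompl_orth hU).codisjoint v
  rw [hg ⟨a, ha⟩ ⟨b, hb⟩, hg ⟨c, hc⟩ ⟨d, hd⟩]
  simp only [map_add, LinearMap.add_apply]
  rw [he₁, he₂, mem_orth.1 (e₂ ⟨d, hd⟩).2 _ (e₁ ⟨a, ha⟩).2, h.orth_symm (e₂ ⟨b, hb⟩).2 _ (e₁ ⟨c, hc⟩).2,
    mem_orth.1 hd a ha, h.orth_symm hb c hc]

/-- Transitivity on nondegenerate subspaces of equal dimension. -/
theorem exists_map_nd {U U' : Submodule F V} (hU : ND B U) (hU' : ND B U') (hd : finrank F U = finrank F U') :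
    ∃ g : V ≃ₗ[F] V, (∀ u v, B (g u) (g v) = B u v) ∧ U.map (g : V →ₗ[F] V) = U' := by
  obtain ⟨e₁, he₁⟩ := (h.restrict_isRefl hU).exists_isometry (h.restrict_isRefl hU') hd
  obtain ⟨e₂, he₂⟩ := (h.restrict_isRefl (h.nd_orth hU)).exists_isometry (h.restrict_isRefl (h.nd_orth hU'))
    (by have := h.finrank_orth U; have := h.finrank_orth U'; omega)
  obtain ⟨g, hg, hgU, -⟩ := h.exists_glue hU hU' e₁ he₁ e₂ he₂
  refine ⟨g, hg, Submodule.eq_of_le_of_finrank_eq ?_ (by rw [LinearEquiv.finrank_map_eq, hd])⟩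
  rintro _ ⟨x, hx, rfl⟩
  rw [LinearEquiv.coe_coe, hgU ⟨x, hx⟩]
  exact (e₁ ⟨x, hx⟩).2

/-- Transitivity on totally isotropic subspaces of equal dimension. -/
theorem exists_map_ti {U U' : Submodule F V} (hU : TI B U) (hU' : TI B U') (hd : finrank F U = finrank F U') :
    ∃ g : V ≃ₗ[F] V, (∀ u v, B (g u) (g v) = B u v) ∧ U.map (g : V →ₗ[F] V) = U' := by
  let e : U ≃ₗ[F] U' := LinearEquiv.ofFinrankEq _ _ hd
  obtain ⟨g, hg, hgU⟩ : ∃ g : V ≃ₗ[F] V, (∀ u v, B (g u) (g v) = B u v) ∧ ∀ x : U, g x = (e x : V) := by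
    have hφ : ∀ a b : U, B (e a : V) (e b) = B (a : V) b := fun a b => by
      rw [hU' _ (e a).2 _ (e b).2, hU _ a.2 _ b.2]
    rcases h.kind with ⟨rfl, hA⟩ | ⟨hσ, hs⟩
    · exact Bilin.witt_alt h.bilin_nondeg hA U (U'.subtype ∘ₗ e.toLinearMap)
        (U'.injective_subtype.comp e.injective) hφ
    · obtain ⟨g, hg⟩ := Herm.IsHerm.exists_extension ⟨hσ, hs, h.nondeg⟩ U (U'.subtype ∘ₗ e.toLinearMap)
        (U'.injective_subtype.comp e.injective) hφ
      exact ⟨(g : V ≃ₗ[F] V), g.2, hg⟩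
  refine ⟨g, hg, Submodule.eq_of_le_of_finrank_eq ?_ (by rw [LinearEquiv.finrank_map_eq, hd])⟩
  rintro _ ⟨x, hx, rfl⟩
  rw [LinearEquiv.coe_coe, hgU ⟨x, hx⟩]
  exact (e ⟨x, hx⟩).2

end IsRefl

end CfsgLib.Geo.Refl
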