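/-
Invariant nondegenerate blocks of semisimple isometries.
-/
import Cfsg.Agent.Lib.Geo.Refl.Subspaces
import Cfsg.Agent.Lib.Geo.Refl.Killed

set_option autoImplicit false
set_option maxHeartbeats 400000
set_option linter.unusedSectionVars false

namespace CfsgLib.Geo.Refl

open Module Polynomial CfsgLib.Classical CfsgLib.Classical.Herm CfsgLib.Geo.PrimeAct

universe u

variable {F : Type u} [Field F] [Finite F] {V : Type*} [AddCommGroup V] [Module F V] [FiniteDimensional F V]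
variable {σ : F →+* F} {B : V →ₛₗ[σ] V →ₗ[F] F} {g : Module.End F V}

/-- The inverse of `g` is a power fitting the automorphism of the form. -/
def SelfDual (σ : F →+* F) (g : Module.End F V) : Prop :=
  ∃ M, 0 < M ∧ g ^ (M + 1) = 1 ∧ ∀ f : F[X], expand F M (f.map σ) = f ^ M

/-- Every nonzero invariant nondegenerate subspace of `W` contains one of dimension `c`. -/
def HasBlocks (B : V →ₛₗ[σ] V →ₗ[F] F) (g : Module.End F V) (W : Submodule F V) (c : ℕ) : Prop :=
  ∀ W' ≤ W, ND B W' → (∀ v ∈ W', g v ∈ W') → W' ≠ ⊥ →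
    ∃ U ≤ W', ND B U ∧ (∀ v ∈ U, g v ∈ U) ∧ finrank F U = c

theorem Pres.pow (hg : Pres B g) (k : ℕ) : Pres B (g ^ k) := by
  induction k with
  | zero => exact fun u v => rfl
  | succ k ih => exact fun u v => by rw [pow_succ', Module.End.mul_apply, Module.End.mul_apply, hg, ih]

namespace IsRefl

variable (h : IsRefl B) (hg : Pres B g)
include h hg

theorem injective_of_pres : Function.Injective g :=
  (injective_iff_map_eq_zero _).2 fun x hx => h.nondeg x fun y => by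
    rw [← hg, hx, map_zero, LinearMap.zero_apply]

theorem exists_preimage {U : Submodule F V} (hU : ∀ v ∈ U, g v ∈ U) : ∀ w ∈ U, ∃ v ∈ U, g v = w := fun w hw => by
  have hinj : Function.Injective (g.restrict hU) := fun a b hab =>
    Subtype.ext (h.injective_of_pres hg (congrArg Subtype.val hab))
  obtain ⟨v, hv⟩ := LinearMap.injective_iff_surjective.1 hinj ⟨w, hw⟩
  exact ⟨v, v.2, congrArg Subtype.val hv⟩

theorem orth_invariant {U : Submodule F V} (hU : ∀ v ∈ U, g v ∈ U) : ∀ v ∈ orth B U, g v ∈ orth B U :=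
  fun v hv => mem_orth.2 fun w hw => by
    obtain ⟨x, hx, rfl⟩ := h.exists_preimage hg hU w hw
    rw [hg, mem_orth.1 hv x hx]

theorem adjoint (hsd : SelfDual σ g) {f : F[X]} {u : V} (hu : aeval g f u = 0) (w : V) :
    B u (aeval g f w) = 0 := by
  obtain ⟨M, hM, hgM, hexp⟩ := hsd
  have key : ∀ j : ℕ, B u ((g ^ j) w) = B (((g ^ M) ^ j) u) w := fun j => by
    rw [← hg.pow j (((g ^ M) ^ j) u) w, ← Module.End.mul_apply, ← pow_mul, ← pow_add,
      show j + M * j = (M + 1) * j by ring, pow_mul, hgM, one_pow, Module.End.one_apply]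
  have h1 : B u (aeval g f w) = B (aeval (g ^ M) (f.map σ) u) w := by
    rw [aeval_eq_sum_range, aeval_eq_sum_range, natDegree_map, LinearMap.sum_apply, LinearMap.sum_apply,
      map_sum, map_sum, LinearMap.sum_apply]
    refine Finset.sum_congr rfl fun j _ => ?_
    rw [LinearMap.smul_apply, LinearMap.smul_apply, smul_right, smul_left, coeff_map, h.invol, key]
  rw [h1, ← expand_aeval, hexp, map_pow]
  obtain ⟨M', rfl⟩ := Nat.exists_eq_succ_of_ne_zero hM.ne'
  rw [pow_succ, Module.End.mul_apply, hu, map_zero, map_zero, LinearMap.zero_apply]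

theorem orth_kers (hsd : SelfDual σ g) {f f' : F[X]} (hcop : IsCoprime f f') :
    ∀ a ∈ polyKer g f, ∀ b ∈ polyKer g f', B a b = 0 := fun a ha b hb => by
  obtain ⟨x, y, hxy⟩ := hcop
  have h2 := congrArg (fun P => aeval g P b) hxy
  simp only [map_add, map_one, LinearMap.add_apply, Module.End.one_apply] at h2
  rw [map_mul (aeval g) y, Module.End.mul_apply, mem_polyKer.1 hb, map_zero, add_zero, mul_comm x, map_mul,
    Module.End.mul_apply] at h2
  rw [← h2]
  exact h.adjoint hg hsd (mem_polyKer.1 ha) _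

variable {W : Submodule F V} {Φ : Finset F[X]} {b : ℕ} (hK : Killed g W Φ b)
include hK

theorem nd_or_ti {U : Submodule F V} (hUW : U ≤ W) (hU : ∀ v ∈ U, g v ∈ U) (hd : finrank F U = b) :
    ND B U ∨ TI B U := by
  rcases eq_or_ne (U ⊓ orth B U) ⊥ with h1 | h1
  · refine Or.inl fun x hx hall => ?_
    have h2 : x ∈ U ⊓ orth B U := ⟨hx, mem_orth.2 fun w hw => h.eq_zero_symm (hall w hw)⟩
    rwa [h1, Submodule.mem_bot] at h2
  · refine Or.inr (ti_iff_le_orth.2 ?_)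
    have hinv : ∀ v ∈ U ⊓ orth B U, g v ∈ U ⊓ orth B U := fun v hv => ⟨hU v hv.1, h.orth_invariant hg hU v hv.2⟩
    have hdvd := hK.dvd (inf_le_left.trans hUW) hinv
    have hpos : 0 < finrank F ↥(U ⊓ orth B U) := Nat.pos_of_ne_zero fun h0 => h1 (Submodule.finrank_eq_zero.1 h0)
    exact (Submodule.eq_of_le_of_finrank_le inf_le_left (hd ▸ Nat.le_of_dvd hpos hdvd)).symm.le.trans inf_le_right

/-- A totally isotropic minimal subspace has a hyperbolic partner. -/
theorem exists_hyp (hW : ND B W) {U : Submodule F V} (hUW : U ≤ W) (hU : ∀ v ∈ U, g v ∈ U)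
    (hd : finrank F U = b) (hUt : TI B U) :
    ∃ N ≤ W, (∀ v ∈ N, g v ∈ N) ∧ (∀ w ∈ N, (∀ u ∈ U, B u w = 0) → w = 0) ∧ U ⊓ N = ⊥ ∧
      ND B (U ⊔ N) ∧ finrank F ↥(U ⊔ N) = 2 * b := by
  set P := W ⊓ orth B U with hP
  have hPi : ∀ v ∈ P, g v ∈ P := fun v hv => ⟨hK.inv v hv.1, h.orth_invariant hg hU v hv.2⟩
  obtain ⟨N, hNW, hN, hinf, hsup⟩ := hK.exists_compl (inf_le_left : P ≤ W) hPi hK.inv
  have hUP : U ≤ P := le_inf hUW (ti_iff_le_orth.1 hUt)
  have hUN : U ⊓ N = ⊥ := le_bot_iff.1 ((inf_le_inf_right N hUP).trans hinf.le)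
  have hsep : ∀ w ∈ N, (∀ u ∈ U, B u w = 0) → w = 0 := fun w hw hw' => by
    have h2 : w ∈ P ⊓ N := ⟨⟨hNW hw, mem_orth.2 hw'⟩, hw⟩
    rwa [hinf, Submodule.mem_bot] at h2
  have hPd : finrank F P + b = finrank F W := by
    have h1 : orth B W ⊔ P = orth B U := by
      refine le_antisymm (sup_le (orth_anti hUW) inf_le_right) fun z hz => ?_
      obtain ⟨a, c, ha, hc, rfl⟩ := Submodule.codisjoint_iff_exists_add_eq.1 (h.isCompl_orth hW).codisjoint z
      refine Submodule.mem_sup.2 ⟨c, hc, a, ⟨ha, ?_⟩, add_comm c a⟩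
      have h2 := (orth B U).sub_mem hz (orth_anti hUW hc)
      rwa [add_sub_cancel_right] at h2
    have h2 := Submodule.finrank_sup_add_finrank_inf_eq (orth B W) P
    have h3 : orth B W ⊓ P = ⊥ := le_bot_iff.1 ((inf_le_inf_left _ inf_le_left).trans
      (by rw [inf_comm, (h.isCompl_orth hW).disjoint.eq_bot]))
    rw [h1, h3, finrank_bot] at h2
    have h4 := h.finrank_orth U
    have h5 := h.finrank_orth W
    omega
  refine ⟨N, hNW, hN, hsep, hUN, fun x hx hall => ?_, ?_⟩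
  · obtain ⟨a, ha, c, hc, rfl⟩ := Submodule.mem_sup.1 hx
    have hc0 : c = 0 := hsep c hc fun u hu => h.eq_zero_symm (by
      have h1 := hall u (Submodule.mem_sup_left hu)
      rwa [add_left, hUt a ha u hu, zero_add] at h1)
    subst hc0
    rw [add_zero] at hall ⊢
    refine hW a (hUW ha) fun y hy => ?_
    obtain ⟨p, hp, n', hn', rfl⟩ := Submodule.mem_sup.1 (hsup.ge hy)
    rw [map_add, mem_orth.1 hp.2 a ha, hall n' (Submodule.mem_sup_right hn'), add_zero]
  · have h1 := Submodule.finrank_sup_add_finrank_inf_eq U N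
    have h2 := Submodule.finrank_sup_add_finrank_inf_eq P N
    rw [hinf, hsup, finrank_bot] at h2
    rw [hUN, finrank_bot, hd] at h1
    omega

/-- Blocks in the self-dual case. -/
theorem hasBlocks_selfDual (hsd : SelfDual σ g)
    (hfree : σ = RingHom.id F → ∀ v ∈ W, g (g v) = v → v = 0) : HasBlocks B g W b := by
  intro W' hW'W hW' hW'i hne
  have hK' := hK.mono hW'W hW'i
  obtain ⟨f, hf, U, hUW, hU, hUd, hUk⟩ := hK'.exists_min le_rfl hW'i hne
  rcases h.nd_or_ti hg hK' hUW hU hUd with hn | ht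
  · exact ⟨U, hUW, hn, hU, hUd⟩
  obtain ⟨N, hNW, hN, hsep, -, hX, hXd⟩ := h.exists_hyp hg hK' hW' hUW hU hUd ht
  set X := U ⊔ N with hXdef
  have hXW : X ≤ W' := sup_le hUW hNW
  have hXi : ∀ v ∈ X, g v ∈ X := fun v hv => by
    obtain ⟨a, ha, c, hc, rfl⟩ := Submodule.mem_sup.1 hv
    rw [map_add]
    exact Submodule.add_mem_sup (hU a ha) (hN c hc)
  have hXk : X ≤ polyKer g f := sup_le hUk fun w hw => mem_polyKer.2
    (hsep _ (aeval_apply_mem hN f w hw) fun u hu => h.adjoint hg hsd (mem_polyKer.1 (hUk hu)) w)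
  obtain ⟨v, hv, hvB⟩ : ∃ v ∈ X, B v v ≠ 0 ∨ B v (g v) ≠ 0 := by
    rcases h.kind with ⟨hid, hA⟩ | ⟨hσ, hs⟩
    swap
    · obtain ⟨v, hv, hvv⟩ := h.exists_aniso hσ hs hX (by have := hK.pos; omega)
      exact ⟨v, hv, Or.inl hvv⟩
    by_contra! hc
    obtain ⟨x, hx, hx0⟩ := X.exists_mem_ne_zero_of_ne_bot fun hb => by
      rw [hb, finrank_bot] at hXd; have := hK.pos; omega
    refine hx0 (hfree hid x (hW'W (hXW hx)) (sub_eq_zero.1 ?_))
    refine hX _ (X.sub_mem (hXi _ (hXi _ hx)) hx) fun z hz => ?_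
    obtain ⟨y, hy, rfl⟩ := h.exists_preimage hg hXi z hz
    have h1 := (hc (x + y) (X.add_mem hx hy)).2
    simp only [map_add, LinearMap.add_apply, (hc x hx).2, (hc y hy).2, zero_add, add_zero] at h1
    have h2 := hA (y + g x)
    simp only [map_add, LinearMap.add_apply, hA, zero_add, add_zero] at h2
    rw [sub_left, hg]
    linear_combination h2 - h1
  have hv0 : v ≠ 0 := by rintro rfl; simp at hvB
  obtain ⟨hfm, hfi, hfd⟩ := hK.deg f hf
  obtain ⟨S, hvS, hS, hSd, -, hSmin, -⟩ := exists_cyclic hfm hfi hv0 (mem_polyKer.1 (hXk hv))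
  have hSW : S ≤ W' := (hSmin X hXi hv).trans hXW
  refine ⟨S, hSW, ?_, hS, hSd.trans hfd⟩
  rcases h.nd_or_ti hg hK' hSW hS (hSd.trans hfd) with hn | ht'
  · exact hn
  · exact absurd hvB (by rw [ht' v hvS v hvS, ht' v hvS _ (hS v hvS)]; simp)

/-- Blocks when no nondegenerate subspace of dimension `b` is invariant. -/
theorem hasBlocks_double (hno : ∀ U ≤ W, ND B U → (∀ v ∈ U, g v ∈ U) → finrank F U ≠ b) :
    HasBlocks B g W (2 * b) := by
  intro W' hW'W hW' hW'i hne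
  have hK' := hK.mono hW'W hW'i
  obtain ⟨f, hf, U, hUW, hU, hUd, hUk⟩ := hK'.exists_min le_rfl hW'i hne
  rcases h.nd_or_ti hg hK' hUW hU hUd with hn | ht
  · exact absurd hUd (hno U (hUW.trans hW'W) hn hU)
  obtain ⟨N, hNW, hN, -, -, hX, hXd⟩ := h.exists_hyp hg hK' hW' hUW hU hUd ht
  refine ⟨U ⊔ N, sup_le hUW hNW, hX, fun v hv => ?_, hXd⟩
  obtain ⟨a, ha, c, hc, rfl⟩ := Submodule.mem_sup.1 hv
  rw [map_add]
  exact Submodule.add_mem_sup (hU a ha) (hN c hc)

end IsRefl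

namespace HasBlocks

variable {W : Submodule F V} {c : ℕ}

theorem decomp (h : IsRefl B) (hg : Pres B g) (hB : HasBlocks B g W c) (hc : 0 < c) (n : ℕ) :
    ∀ {W' : Submodule F V}, finrank F W' = n → W' ≤ W → ND B W' → (∀ v ∈ W', g v ∈ W') →
      ∃ A, n = c * A ∧ ∃ U : Fin A → Submodule F V,
        (∀ j, U j ≤ W' ∧ ND B (U j) ∧ (∀ v ∈ U j, g v ∈ U j) ∧ finrank F (U j) = c) ∧
        ∀ j k, j ≠ k → ∀ a ∈ U j, ∀ b ∈ U k, B a b = 0 := by
  induction n using Nat.strong_induction_on with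
  | h n ih =>
    intro W' hn hle hW' hi
    rcases Nat.eq_zero_or_pos n with rfl | hpos
    · exact ⟨0, by simp, Fin.elim0, fun j => j.elim0, fun j => j.elim0⟩
    obtain ⟨U₁, hU₁W, hU₁n, hU₁i, hU₁d⟩ := hB W' hle hW' hi fun hb => by rw [hb, finrank_bot] at hn; omega
    obtain ⟨hW'', -, hd⟩ := h.nd_inf_orth hU₁n hW' hU₁W
    obtain ⟨A, hA, U, hU, hUo⟩ := ih (finrank F ↥(W' ⊓ orth B U₁)) (by omega) rfl (inf_le_left.trans hle) hW''
      fun v hv => ⟨hi v hv.1, h.orth_invariant hg hU₁i v hv.2⟩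
    refine ⟨A + 1, by rw [mul_add, mul_one]; omega, Fin.cons U₁ U, fun j => ?_, fun j k hjk => ?_⟩
    · refine Fin.cases ?_ (fun j => ?_) j
      · rw [Fin.cons_zero]; exact ⟨hU₁W, hU₁n, hU₁i, hU₁d⟩
      · rw [Fin.cons_succ]; exact ⟨(hU j).1.trans inf_le_left, (hU j).2⟩
    · revert hjk
      refine Fin.cases ?_ (fun j => ?_) j <;> refine Fin.cases ?_ (fun k => ?_) k <;> intro hjk
      · exact absurd rfl hjk
      · rw [Fin.cons_zero, Fin.cons_succ]
        exact fun a ha b hb => mem_orth.1 ((hU k).1 hb).2 a ha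
      · rw [Fin.cons_zero, Fin.cons_succ]
        exact fun a ha b hb => h.eq_zero_symm (mem_orth.1 ((hU j).1 ha).2 b hb)
      · rw [Fin.cons_succ, Fin.cons_succ]
        exact hUo j k fun e => hjk (congrArg Fin.succ e)

theorem dvd (h : IsRefl B) (hg : Pres B g) (hB : HasBlocks B g W c) (hc : 0 < c) {W' : Submodule F V}
    (hle : W' ≤ W) (hW' : ND B W') (hi : ∀ v ∈ W', g v ∈ W') : c ∣ finrank F W' :=
  let ⟨A, hA, _⟩ := hB.decomp h hg hc _ rfl hle hW' hi
  ⟨A, hA⟩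

theorem exists_sub (h : IsRefl B) (hg : Pres B g) (hB : HasBlocks B g W c) (hc : 0 < c) (j : ℕ) :
    ∀ {W' : Submodule F V}, W' ≤ W → ND B W' → (∀ v ∈ W', g v ∈ W') → c * j ≤ finrank F W' →
      ∃ U ≤ W', ND B U ∧ (∀ v ∈ U, g v ∈ U) ∧ finrank F U = c * j := by
  induction j with
  | zero =>
    intro W' _ _ _ _
    exact ⟨⊥, bot_le, nd_bot, fun v hv => by rw [(Submodule.mem_bot F).1 hv, map_zero]; exact zero_mem _, by simp⟩
  | succ j ih =>
    intro W' hle hW' hi hsize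
    rw [mul_add, mul_one] at hsize
    obtain ⟨U₁, hU₁W, hU₁n, hU₁i, hU₁d⟩ := hB W' hle hW' hi fun hb => by rw [hb, finrank_bot] at hsize; omega
    obtain ⟨hW'', -, hd⟩ := h.nd_inf_orth hU₁n hW' hU₁W
    obtain ⟨U, hUW, hUn, hUi, hUd⟩ := ih (inf_le_left.trans hle) hW''
      (fun v hv => ⟨hi v hv.1, h.orth_invariant hg hU₁i v hv.2⟩) (by omega)
    have ho : ∀ a ∈ U₁, ∀ b ∈ U, B a b = 0 := fun a ha b hb => mem_orth.1 (hUW hb).2 a ha
    refine ⟨U₁ ⊔ U, sup_le hU₁W (hUW.trans inf_le_left), h.nd_sup hU₁n hUn ho, fun v hv => ?_, ?_⟩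
    · obtain ⟨a, ha, b, hb, rfl⟩ := Submodule.mem_sup.1 hv
      rw [map_add]
      exact Submodule.add_mem_sup (hU₁i a ha) (hUi b hb)
    · rw [h.finrank_sup_nd hU₁n ho, hU₁d, hUd, mul_add, mul_one, add_comm]

end HasBlocks

end CfsgLib.Geo.Refl
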