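/-
Isometric intertwiners and totally isotropic invariant subspaces from pairs of blocks.
-/
import Cfsg.Agent.Lib.Geo.Refl.Blocks
import Cfsg.Agent.Lib.Classical.ClassTheory.NormRing

set_option autoImplicit false
set_option maxHeartbeats 400000
set_option linter.unusedSectionVars false

namespace CfsgLib.Geo.Refl

open Module Polynomial CfsgLib.Classical CfsgLib.Classical.Herm

universe u

variable {F : Type u} [Field F] [Finite F] {σ : F →+* F}

/-- An isometric intertwiner from a linear one, for maps without fixed vectors of their square. -/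
theorem exists_isometric {M N : Type*} [AddCommGroup M] [Module F M] [FiniteDimensional F M] [AddCommGroup N]
    [Module F N] [FiniteDimensional F N] {B₁ : M →ₛₗ[σ] M →ₗ[F] F} {B₂ : N →ₛₗ[σ] N →ₗ[F] F}
    (hσ : ∀ a, σ (σ a) = a) {ε : F} (hε : ε * ε = 1)
    (h1 : ∀ x, (∀ y, B₁ x y = 0) → x = 0) (h2 : ∀ x, (∀ y, B₂ x y = 0) → x = 0)
    (hs1 : ∀ u v, B₁ v u = ε * σ (B₁ u v)) (hs2 : ∀ u v, B₂ v u = ε * σ (B₂ u v))
    (a : M ≃ₗ[F] M) (ha : ∀ u v, B₁ (a u) (a v) = B₁ u v) (a' : N ≃ₗ[F] N)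
    (ha' : ∀ u v, B₂ (a' u) (a' v) = B₂ u v) (e : M ≃ₗ[F] N) (he : ∀ v, e (a v) = a' (e v))
    (hfpf : ∀ v, a (a v) = v → v = 0) :
    ∃ f : M ≃ₗ[F] N, (∀ v, f (a v) = a' (f v)) ∧ ∀ u v, B₂ (f u) (f v) = B₁ u v := by
  classical
  haveI : Finite M := Module.finite_of_finite F
  haveI : Finite (Module.End F M) := Module.finite_of_finite F
  haveI : Finite (Module.Dual F M) := Module.finite_of_finite F
  have hext : ∀ {x y : M}, (∀ z, B₁ x z = B₁ y z) → x = y := fun {x y} hxy =>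
    sub_eq_zero.1 (h1 _ fun z => by rw [map_sub, LinearMap.sub_apply, hxy, sub_self])
  have hbij : Function.Bijective (fun x => B₁ x : M → Module.Dual F M) := by
    have hinj : Function.Injective (fun x => B₁ x : M → Module.Dual F M) := fun x y hxy =>
      hext fun z => LinearMap.congr_fun hxy z
    refine hinj.bijective_of_nat_card_le (le_of_eq ?_)
    rw [Module.natCard_eq_pow_finrank (K := F) (V := Module.Dual F M),
      Module.natCard_eq_pow_finrank (K := F) (V := M), Subspace.dual_finrank_eq]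
  have hdual : ∀ φ : Module.Dual F M, ∃ x, B₁ x = φ := fun φ => hbij.2 φ
  choose D hD using hdual
  let adj : Module.End F M → Module.End F M := fun φ =>
    { toFun := fun x => D ((B₁ x).comp φ)
      map_add' := fun x y => hext fun z => by simp [hD]
      map_smul' := fun c x => hext fun z => by simp [hD] }
  have hadj : ∀ φ x y, B₁ (adj φ x) y = B₁ x (φ y) := fun φ x y => LinearMap.congr_fun (hD _) y
  have hEnd : ∀ φ ψ : Module.End F M, (∀ x y, B₁ (φ x) y = B₁ (ψ x) y) → φ = ψ := fun φ ψ h =>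
    LinearMap.ext fun x => hext (h x)
  have hadd : ∀ φ ψ, adj (φ + ψ) = adj φ + adj ψ := fun φ ψ => hEnd _ _ fun x y => by
    rw [LinearMap.add_apply, map_add, LinearMap.add_apply, hadj, hadj, hadj, LinearMap.add_apply, map_add]
  have hmul : ∀ φ ψ, adj (φ * ψ) = adj ψ * adj φ := fun φ ψ => hEnd _ _ fun x y => by
    rw [Module.End.mul_apply, hadj, hadj, hadj, Module.End.mul_apply]
  have hone : adj 1 = 1 := hEnd _ _ fun x y => by rw [hadj]; rfl
  have hinv : ∀ φ, adj (adj φ) = φ := fun φ => hEnd _ _ fun x y => by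
    rw [hadj, hs1 (adj φ y) x, hadj, ← hs1 y (φ x)]
  let θ : Module.End F M := (a : M →ₗ[F] M)
  let θ' : Module.End F M := (a.symm : M →ₗ[F] M)
  have hθθ' : adj θ = θ' := hEnd _ _ fun x y => by
    rw [hadj]
    conv_lhs => rw [show x = a (a.symm x) from (a.apply_symm_apply x).symm]
    exact ha _ _
  let C : Module.End F M :=
    { toFun := fun x => D ((B₂ (e x)).comp (e : M →ₗ[F] N))
      map_add' := fun x y => hext fun z => by simp [hD]
      map_smul' := fun c x => hext fun z => by simp [hD] }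
  have hC : ∀ x y, B₁ (C x) y = B₂ (e x) (e y) := fun x y => LinearMap.congr_fun (hD _) y
  have hCsym : adj C = C := hEnd _ _ fun x y => by
    rw [hadj, hs1 (C y) x, hC, hC, ← hs2 (e y) (e x)]
  have hCu : IsUnit C := by
    rw [Module.End.isUnit_iff]
    have hinj : Function.Injective C := (injective_iff_map_eq_zero _).2 fun x hx => by
      refine e.map_eq_zero_iff.1 (h2 _ fun w => ?_)
      obtain ⟨y, rfl⟩ := e.surjective w
      rw [← hC, hx, map_zero, LinearMap.zero_apply]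
    exact ⟨hinj, LinearMap.injective_iff_surjective.1 hinj⟩
  have hCθ : Commute C θ := hEnd _ _ fun x y => by
    show B₁ (C (a x)) y = B₁ (a (C x)) y
    obtain ⟨z, rfl⟩ := a.surjective y
    rw [ha, hC, he, he, ha', hC]
  have hθu : IsUnit (θ - adj θ) := by
    rw [hθθ', Module.End.isUnit_iff]
    have hinj : Function.Injective (θ - θ' : Module.End F M) := (injective_iff_map_eq_zero _).2 fun x hx => by
      refine hfpf x ?_
      have h3 : a x = a.symm x := sub_eq_zero.1 hx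
      rw [h3, a.apply_symm_apply]
    exact ⟨hinj, LinearMap.injective_iff_surjective.1 hinj⟩
  have hθc : Commute θ (adj θ) := by
    rw [hθθ']
    exact LinearMap.ext fun x => (a.apply_symm_apply x).trans (a.symm_apply_apply x).symm
  obtain ⟨T, hT, hTC, hTc⟩ :=
    ClassTheory.exists_star_mul_self adj hadd hmul hone hinv hCsym hCu hCθ hθc hθu
  have hTa : Commute T θ := hTc θ hCθ (Commute.refl _) hθc.symm
  let Te : M ≃ₗ[F] M := LinearEquiv.ofBijective T ((Module.End.isUnit_iff T).1 hT)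
  have hTe : ∀ x, Te x = T x := fun x => rfl
  refine ⟨Te.symm.trans e, fun v => ?_, fun u v => ?_⟩
  · obtain ⟨w, rfl⟩ := Te.surjective v
    have h3 : a (Te w) = Te (a w) := (LinearMap.congr_fun hTa.eq w).symm
    rw [h3, LinearEquiv.trans_apply, LinearEquiv.trans_apply, Te.symm_apply_apply, Te.symm_apply_apply, he]
  · obtain ⟨x, rfl⟩ := Te.surjective u
    obtain ⟨y, rfl⟩ := Te.surjective v
    rw [LinearEquiv.trans_apply, LinearEquiv.trans_apply, Te.symm_apply_apply, Te.symm_apply_apply, ← hC,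
      ← hTC, Module.End.mul_apply, hadj, hTe, hTe]

variable {V : Type*} [AddCommGroup V] [Module F V] [FiniteDimensional F V]
variable {B : V →ₛₗ[σ] V →ₗ[F] F} {g : Module.End F V}

/-- Cyclic subspaces of the same irreducible polynomial are linearly equivalent. -/
theorem exists_intertwiner {f : F[X]} (hirr : Irreducible f) {U₁ U₂ : Submodule F V}
    (h1 : ∀ v ∈ U₁, g v ∈ U₁) (h2 : ∀ v ∈ U₂, g v ∈ U₂) (hk1 : U₁ ≤ polyKer g f) (hk2 : U₂ ≤ polyKer g f)
    (hm : f.Monic) (hd1 : finrank F U₁ = f.natDegree) (hd2 : finrank F U₂ = f.natDegree) :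
    ∃ e : U₁ ≃ₗ[F] U₂, ∀ v, e (g.restrict h1 v) = g.restrict h2 (e v) := by
  have key : ∀ {U : Submodule F V} (hU : ∀ v ∈ U, g v ∈ U), U ≤ polyKer g f → finrank F U = f.natDegree →
      ∃ Θ : F[X] →ₗ[F] U, Function.Surjective Θ ∧ (∀ p, Θ (X * p) = g.restrict hU (Θ p)) ∧
        ∀ p, Θ p = 0 ↔ f ∣ p := by
    intro U hU hk hd
    obtain ⟨v, hv, hv0⟩ := U.exists_mem_ne_zero_of_ne_bot fun hb => by
      rw [hb, finrank_bot] at hd; exact hirr.natDegree_pos.ne hd
    obtain ⟨S, -, hS, hSd, -, hSmin, hSp⟩ := exists_cyclic hm hirr hv0 (mem_polyKer.1 (hk hv))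
    have hSU : S = U := Submodule.eq_of_le_of_finrank_eq (hSmin U hU hv) (hSd.trans hd.symm)
    refine ⟨LinearMap.codRestrict U ((LinearMap.applyₗ v) ∘ₗ (aeval g).toLinearMap)
      (fun p => aeval_apply_mem hU p v hv), fun x => ?_, fun p => Subtype.ext ?_, fun p => ?_⟩
    · obtain ⟨p, hp⟩ := hSp (x : V) (hSU.symm ▸ x.2)
      exact ⟨p, Subtype.ext hp⟩
    · show aeval g (X * p) v = g (aeval g p v)
      rw [map_mul, aeval_X, Module.End.mul_apply]
    · rw [← Subtype.coe_injective.eq_iff]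
      show aeval g p v = 0 ↔ _
      constructor
      · intro hp
        by_contra hnd
        obtain ⟨a, c, hac⟩ := (hirr.coprime_iff_not_dvd).2 hnd
        have h3 := congrArg (fun P => aeval g P v) hac
        simp only [map_add, map_mul, LinearMap.add_apply, Module.End.mul_apply, mem_polyKer.1 (hk hv), hp,
          map_zero, add_zero, map_one, Module.End.one_apply] at h3
        exact hv0 h3.symm
      · rintro ⟨c, rfl⟩
        rw [mul_comm, map_mul, Module.End.mul_apply, mem_polyKer.1 (hk hv), map_zero]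
  obtain ⟨Θ₁, hs1, hX1, hz1⟩ := key h1 hk1 hd1
  obtain ⟨Θ₂, hs2, hX2, hz2⟩ := key h2 hk2 hd2
  let e := ((Θ₁.quotKerEquivOfSurjective hs1).symm.trans (Submodule.quotEquivOfEq _ _ (by
    ext p; rw [LinearMap.mem_ker, LinearMap.mem_ker, hz1, hz2]))).trans (Θ₂.quotKerEquivOfSurjective hs2)
  have he : ∀ p, e (Θ₁ p) = Θ₂ p := fun p => by
    have h3 : (Θ₁.quotKerEquivOfSurjective hs1).symm (Θ₁ p) = Submodule.Quotient.mk p := by
      rw [LinearEquiv.symm_apply_eq]; rfl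
    simp only [e, LinearEquiv.trans_apply, h3, Submodule.quotEquivOfEq_mk]
    rfl
  refine ⟨e, fun v => ?_⟩
  obtain ⟨p, rfl⟩ := hs1 v
  rw [← hX1, he, he, hX2]

namespace IsRefl

variable (h : IsRefl B) (hg : Pres B g)
include h hg

/-- Two orthogonal blocks of the same polynomial span an invariant totally isotropic block. -/
theorem exists_ti_of_pair {f : F[X]} (hirr : Irreducible f) (hm : f.Monic) {U₁ U₂ : Submodule F V}
    (n1 : ND B U₁) (n2 : ND B U₂) (h1 : ∀ v ∈ U₁, g v ∈ U₁) (h2 : ∀ v ∈ U₂, g v ∈ U₂)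
    (hk1 : U₁ ≤ polyKer g f) (hk2 : U₂ ≤ polyKer g f)
    (hd1 : finrank F U₁ = f.natDegree) (hd2 : finrank F U₂ = f.natDegree)
    (horth : ∀ a ∈ U₁, ∀ b ∈ U₂, B a b = 0) (hfpf : ∀ v ∈ U₁, g (g v) = v → v = 0) :
    ∃ S ≤ U₁ ⊔ U₂, (∀ v ∈ S, g v ∈ S) ∧ TI B S ∧ finrank F S = finrank F U₁ := by
  obtain ⟨ε, hε, hs⟩ := h.exists_sign
  obtain ⟨e, he⟩ := exists_intertwiner hirr h1 h2 hk1 hk2 hm hd1 hd2
  have hbij : ∀ {U : Submodule F V} (hU : ∀ v ∈ U, g v ∈ U), Function.Bijective (g.restrict hU) := fun {U} hU => by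
    have hinj : Function.Injective (g.restrict hU) := fun a c hac =>
      Subtype.ext (h.injective_of_pres hg (congrArg Subtype.val hac))
    exact ⟨hinj, LinearMap.injective_iff_surjective.1 hinj⟩
  obtain ⟨φ, hφ, hφB⟩ := exists_isometric (B₁ := Herm.IsHerm.restrict B U₁) (B₂ := -Herm.IsHerm.restrict B U₂)
    h.invol hε (h.restrict_isRefl n1).nondeg
    (fun x hx => (h.restrict_isRefl n2).nondeg x fun y => neg_eq_zero.1 (hx y))
    (fun u v => hs u v) (fun u v => by simp only [LinearMap.neg_apply, IsHerm.restrict_apply, map_neg, hs (u : V) v]; ring)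
    (LinearEquiv.ofBijective _ (hbij h1)) (fun u v => hg u v) (LinearEquiv.ofBijective _ (hbij h2))
    (fun u v => congrArg Neg.neg (hg u v)) e he fun v hv => Subtype.ext (hfpf v v.2 (congrArg Subtype.val hv))
  let ψ : U₁ →ₗ[F] V := U₁.subtype + U₂.subtype ∘ₗ φ.toLinearMap
  have hψ : ∀ u : U₁, ψ u = (u : V) + (φ u : V) := fun u => rfl
  have hinj : Function.Injective ψ := (injective_iff_map_eq_zero _).2 fun u hu => Subtype.ext (by
    refine Submodule.disjoint_def.1 (h.nd_disjoint n1 horth) _ u.2 ?_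
    rw [show (u : V) = -(φ u : V) from eq_neg_of_add_eq_zero_left hu]
    exact U₂.neg_mem (φ u).2)
  refine ⟨LinearMap.range ψ, ?_, ?_, ?_, LinearMap.finrank_range_of_inj hinj⟩
  · rintro _ ⟨u, rfl⟩
    exact Submodule.add_mem_sup u.2 (φ u).2
  · rintro _ ⟨u, rfl⟩
    refine ⟨g.restrict h1 u, ?_⟩
    rw [hψ, hψ, map_add]
    exact congrArg _ (congrArg Subtype.val (hφ u))
  · rintro _ ⟨u, rfl⟩ _ ⟨v, rfl⟩
    have h3 : -(B (φ u : V) (φ v)) = B (u : V) v := hφB u v
    simp only [hψ, map_add, LinearMap.add_apply, horth _ u.2 _ (φ v).2,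
      h.eq_zero_symm (horth _ v.2 _ (φ u).2), add_zero, zero_add, ← h3, neg_add_cancel]

/-- A double block with a totally isotropic half, in the self-dual case. -/
theorem exists_split_selfDual {W : Submodule F V} {Φ : Finset F[X]} {b : ℕ} (hK : Killed g W Φ b) (hsd : SelfDual σ g)
    (hfree : ∀ v ∈ W, g (g v) = v → v = 0) {W' : Submodule F V} (hW'W : W' ≤ W) (hW' : ND B W')
    (hi : ∀ v ∈ W', g v ∈ W') (hsize : b * (Φ.card + 1) ≤ finrank F W') :
    ∃ X S : Submodule F V, X ≤ W' ∧ ND B X ∧ (∀ v ∈ X, g v ∈ X) ∧ finrank F X = 2 * b ∧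
      S ≤ X ∧ (∀ v ∈ S, g v ∈ S) ∧ TI B S ∧ finrank F S = b := by
  classical
  have hB := h.hasBlocks_selfDual hg hK hsd fun _ => hfree
  obtain ⟨A, hA, U, hU, hUo⟩ := hB.decomp h hg hK.pos _ rfl hW'W hW' hi
  have hAcard : Φ.card + 1 ≤ A := Nat.le_of_mul_le_mul_left (hA ▸ hsize) hK.pos
  have hmin : ∀ j, ∃ f ∈ Φ, U j ≤ polyKer g f := fun j => by
    obtain ⟨f, hf, S, hSU, -, hSd, hSk⟩ := hK.exists_min ((hU j).1.trans hW'W) (hU j).2.2.1 fun hb => by
      have := (hU j).2.2.2; rw [hb, finrank_bot] at this; exact hK.pos.ne this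
    exact ⟨f, hf, (Submodule.eq_of_le_of_finrank_eq hSU (hSd.trans (hU j).2.2.2.symm)) ▸ hSk⟩
  choose φ hφ hφk using hmin
  obtain ⟨j, k, hjk, hjk'⟩ := Fintype.exists_ne_map_eq_of_card_lt (fun j => (⟨φ j, hφ j⟩ : Φ))
    (by simp only [Fintype.card_coe, Fintype.card_fin]; omega)
  have heq : φ j = φ k := congrArg Subtype.val hjk'
  obtain ⟨hjW, hjn, hji, hjd⟩ := hU j
  obtain ⟨hkW, hkn, hki, hkd⟩ := hU k
  obtain ⟨hfm, hfi, hfd⟩ := hK.deg _ (hφ j)
  obtain ⟨S, hS, hSi, hSt, hSd⟩ := h.exists_ti_of_pair hg hfi hfm hjn hkn hji hki (hφk j) (heq ▸ hφk k)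
    (hjd.trans hfd.symm) (hkd.trans hfd.symm) (hUo j k hjk) fun v hv => hfree v (hW'W (hjW hv))
  refine ⟨U j ⊔ U k, S, sup_le hjW hkW, h.nd_sup hjn hkn (hUo j k hjk), fun v hv => ?_, ?_, hS, hSi, hSt,
    hSd.trans hjd⟩
  · obtain ⟨a, ha, c, hc, rfl⟩ := Submodule.mem_sup.1 hv
    rw [map_add]
    exact Submodule.add_mem_sup (hji a ha) (hki c hc)
  · rw [h.finrank_sup_nd hjn (hUo j k hjk), hjd, hkd, two_mul]

/-- A double block with a totally isotropic half, without small nondegenerate blocks. -/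
theorem exists_split_double {W : Submodule F V} {Φ : Finset F[X]} {b : ℕ} (hK : Killed g W Φ b)
    (hno : ∀ U ≤ W, ND B U → (∀ v ∈ U, g v ∈ U) → finrank F U ≠ b) {W' : Submodule F V} (hW'W : W' ≤ W)
    (hW' : ND B W') (hi : ∀ v ∈ W', g v ∈ W') (hne : W' ≠ ⊥) :
    ∃ X S : Submodule F V, X ≤ W' ∧ ND B X ∧ (∀ v ∈ X, g v ∈ X) ∧ finrank F X = 2 * b ∧
      S ≤ X ∧ (∀ v ∈ S, g v ∈ S) ∧ TI B S ∧ finrank F S = b := by
  have hK' := hK.mono hW'W hi
  obtain ⟨f, hf, U, hUW, hU, hUd, hUk⟩ := hK'.exists_min le_rfl hi hne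
  rcases h.nd_or_ti hg hK' hUW hU hUd with hn | ht
  · exact absurd hUd (hno U (hUW.trans hW'W) hn hU)
  obtain ⟨N, hNW, hN, -, -, hX, hXd⟩ := h.exists_hyp hg hK' hW' hUW hU hUd ht
  refine ⟨U ⊔ N, U, sup_le hUW hNW, hX, fun v hv => ?_, hXd, le_sup_left, hU, ht, hUd⟩
  obtain ⟨a, ha, c, hc, rfl⟩ := Submodule.mem_sup.1 hv
  rw [map_add]
  exact Submodule.add_mem_sup (hU a ha) (hN c hc)

/-- Iterating splittings: a large totally isotropic invariant subspace. -/
theorem exists_ti_iterate {W : Submodule F V} {b : ℕ} (t : ℕ)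
    (hsplit : ∀ W' ≤ W, ND B W' → (∀ v ∈ W', g v ∈ W') → b * t ≤ finrank F W' →
      ∃ X S : Submodule F V, X ≤ W' ∧ ND B X ∧ (∀ v ∈ X, g v ∈ X) ∧ finrank F X = 2 * b ∧
        S ≤ X ∧ (∀ v ∈ S, g v ∈ S) ∧ TI B S ∧ finrank F S = b) (j : ℕ) :
    ∀ {W' : Submodule F V}, W' ≤ W → ND B W' → (∀ v ∈ W', g v ∈ W') →
      (j = 0 ∨ b * t + 2 * b * j ≤ finrank F W' + 2 * b) →
      ∃ S ≤ W', (∀ v ∈ S, g v ∈ S) ∧ TI B S ∧ finrank F S = b * j := by
  induction j with
  | zero =>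
    intro W' _ _ _ _
    exact ⟨⊥, bot_le, fun v hv => by rw [(Submodule.mem_bot F).1 hv, map_zero]; exact zero_mem _, ti_bot, by simp⟩
  | succ j ih =>
    intro W' hle hW' hi hsize
    have hsize' := hsize.resolve_left (Nat.succ_ne_zero j)
    rw [mul_add, mul_one] at hsize'
    obtain ⟨X, S₁, hXW, hX, hXi, hXd, hS₁, hS₁i, hS₁t, hS₁d⟩ := hsplit W' hle hW' hi (by omega)
    obtain ⟨hW'', -, hd⟩ := h.nd_inf_orth hX hW' hXW
    obtain ⟨S, hS, hSi, hSt, hSd⟩ := ih (inf_le_left.trans hle) hW''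
      (fun v hv => ⟨hi v hv.1, h.orth_invariant hg hXi v hv.2⟩) (Or.inr (by omega))
    have ho : ∀ a ∈ S₁, ∀ c ∈ S, B a c = 0 := fun a ha c hc => mem_orth.1 (hS hc).2 a (hS₁ ha)
    refine ⟨S₁ ⊔ S, sup_le (hS₁.trans hXW) (hS.trans inf_le_left), fun v hv => ?_,
      hS₁t.sup hSt ho fun a ha c hc => h.eq_zero_symm (ho a ha c hc), ?_⟩
    · obtain ⟨a, ha, c, hc, rfl⟩ := Submodule.mem_sup.1 hv
      rw [map_add]
      exact Submodule.add_mem_sup (hS₁i a ha) (hSi c hc)
    · have h3 := Submodule.finrank_sup_add_finrank_inf_eq S₁ S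
      have h4 : Disjoint S₁ S := (h.nd_disjoint hX (W := W' ⊓ orth B X)
        fun a ha c hc => mem_orth.1 hc.2 a ha).mono hS₁ hS
      rw [h4.eq_bot, finrank_bot, hS₁d, hSd] at h3
      rw [mul_add, mul_one]
      omega

end IsRefl

end CfsgLib.Geo.Refl
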