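/-
Isometries of prime order with prescribed blocks, and the missing small blocks otherwise.
-/
import Cfsg.Agent.Lib.Geo.Refl.Pairs
import Cfsg.Agent.Lib.Geo.UnitFormDerange

set_option autoImplicit false
set_option maxHeartbeats 400000
set_option linter.unusedSectionVars false

namespace CfsgLib.Geo.Refl

open Module Polynomial CfsgLib.Classical CfsgLib.Classical.Herm CfsgLib.Geo.PrimeAct

universe u

variable {F : Type u} [Field F] [Finite F] {V : Type*} [AddCommGroup V] [Module F V] [FiniteDimensional F V]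
variable {σ : F →+* F} {B : V →ₛₗ[σ] V →ₗ[F] F} {g : Module.End F V} {r : ℕ} [Fact r.Prime]

theorem pow_apply_restrict {U : Submodule F V} (e : U ≃ₗ[F] U) {G : Module.End F V}
    (hG : ∀ u : U, G u = (e u : V)) (k : ℕ) (u : U) : (G ^ k) (u : V) = ((((e : U →ₗ[F] U)) ^ k) u : V) := by
  induction k with
  | zero => rfl
  | succ k ih => rw [pow_succ', pow_succ', Module.End.mul_apply, Module.End.mul_apply, ih, hG]; rfl

theorem aeval_apply_restrict {U : Submodule F V} (e : U ≃ₗ[F] U) {G : Module.End F V}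
    (hG : ∀ u : U, G u = (e u : V)) (p : F[X]) (u : U) :
    aeval G p (u : V) = ((aeval (e : U →ₗ[F] U) p) u : V) := by
  rw [aeval_eq_sum_range, aeval_eq_sum_range, LinearMap.sum_apply, LinearMap.sum_apply, Submodule.coe_sum]
  refine Finset.sum_congr rfl fun k _ => ?_
  rw [LinearMap.smul_apply, LinearMap.smul_apply, Submodule.coe_smul, pow_apply_restrict e hG]

/-- A nondegenerate space of dimension `c` has an isometry killed by `p`. -/
def HasModel (B : V →ₛₗ[σ] V →ₗ[F] F) (c : ℕ) (p : F[X]) : Prop :=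
  ∀ U : Submodule F V, ND B U → finrank F U = c →
    ∃ e : U ≃ₗ[F] U, (∀ u v : U, B (e u : V) (e v) = B (u : V) v) ∧ aeval (e : U →ₗ[F] U) p = 0

theorem hasModel_of_space (h : IsRefl B) {M : Type*} [AddCommGroup M] [Module F M] [FiniteDimensional F M]
    {B' : M →ₛₗ[σ] M →ₗ[F] F} (h' : IsRefl B') {W : Submodule F M} (hW : ND B' W) (k : Module.End F M)
    (hk : Pres B' k) (hi : ∀ v ∈ W, k v ∈ W) {p : F[X]} (hp : W ≤ polyKer k p) :
    HasModel B (finrank F W) p := by
  intro U hU hUd
  obtain ⟨φ, hφ⟩ := (h'.restrict_isRefl hW).exists_isometry (h.restrict_isRefl hU) hUd.symm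
  have hinj : Function.Injective (k.restrict hi) := fun a b hab =>
    Subtype.ext (h'.injective_of_pres hk (congrArg Subtype.val hab))
  let k' : W ≃ₗ[F] W := LinearEquiv.ofBijective _ ⟨hinj, LinearMap.injective_iff_surjective.1 hinj⟩
  refine ⟨(φ.symm.trans k').trans φ, fun u v => ?_, LinearMap.ext fun u => ?_⟩
  · obtain ⟨a, rfl⟩ := φ.surjective u
    obtain ⟨b, rfl⟩ := φ.surjective v
    simp only [LinearEquiv.trans_apply, LinearEquiv.symm_apply_apply]
    exact ((hφ (k' a) (k' b)).trans (hk _ _)).trans (hφ a b).symm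
  · obtain ⟨a, rfl⟩ := φ.surjective u
    rw [show (((φ.symm.trans k').trans φ : U ≃ₗ[F] U) : U →ₗ[F] U) = LinearEquiv.conjAlgEquiv F φ (k' : W →ₗ[F] W)
      from rfl, aeval_algEquiv, AlgHom.comp_apply]
    show φ (aeval (k' : W →ₗ[F] W) p (φ.symm (φ a))) = 0
    rw [φ.symm_apply_apply, map_eq_zero_iff _ φ.injective]
    refine Subtype.ext ?_
    rw [← aeval_apply_restrict k' (G := k) fun w => rfl]
    exact mem_polyKer.1 (hp a.2)

/-- Gluing models to an isometry. -/
theorem exists_element (h : IsRefl B) {c : ℕ} (hpar : Par σ c) : ∀ (A : ℕ) (p : Fin A → F[X]),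
    (∀ j, HasModel B c (p j)) → c * A ≤ finrank F V →
    ∃ (G : Module.End F V) (Y : Submodule F V), Pres B G ∧ ND B Y ∧ finrank F Y = c * A ∧
      (∀ v ∈ Y, G v ∈ Y) ∧ (∀ v ∈ orth B Y, G v = v) ∧ (∀ q : F[X], (∀ j, p j ∣ q) → Y ≤ polyKer G q) ∧
      ((∀ j, (p j).Monic ∧ Irreducible (p j)) → ∀ f : F[X], f.Monic → Irreducible f →
        ND B (Y ⊓ polyKer G f) ∧ finrank F ↥(Y ⊓ polyKer G f) = c * Nat.card {j // p j = f}) := by
  classical
  intro A
  induction A with
  | zero =>
    intro p _ _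
    refine ⟨1, ⊥, fun u v => rfl, nd_bot, by simp, fun v hv => hv, fun v _ => rfl, fun q _ => bot_le,
      fun _ f _ _ => ⟨by simpa using nd_bot, by simp⟩⟩
  | succ A ih =>
    intro p hp hle
    rw [mul_add, mul_one] at hle
    obtain ⟨G, Y, hG, hY, hYd, hYi, hfix, hkill, hcnt⟩ := ih (fun j => p j.succ) (fun j => hp _) (by omega)
    have h0 := h.finrank_orth Y
    obtain ⟨U, hUY, hU, hUd⟩ := h.exists_nd_sub c (h.nd_orth hY) hpar (by omega)
    obtain ⟨e, he, hep⟩ := hp 0 U hU hUd
    -- extend by the identity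
    obtain ⟨g', hg', hg'U, hg'o⟩ := h.exists_glue hU hU e he (LinearEquiv.refl F _) fun u v => rfl
    set G' : Module.End F V := (g' : V →ₗ[F] V) * G with hG'
    have horth : ∀ a ∈ U, ∀ b ∈ Y, B a b = 0 := fun a ha b hb => h.eq_zero_symm (mem_orth.1 (hUY ha) b hb)
    have hYo : Y ≤ orth B U := fun y hy => mem_orth.2 fun w hw => horth w hw y hy
    have hGY : ∀ v ∈ Y, G' v = G v := fun v hv => hg'o ⟨G v, hYo (hYi v hv)⟩
    have hGU : ∀ u : U, G' u = (e u : V) := fun u => by
      rw [hG', Module.End.mul_apply, hfix u (hUY u.2)]; exact hg'U u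
    have hinvY : ∀ v ∈ Y, G' v ∈ Y := fun v hv => hGY v hv ▸ hYi v hv
    have hinvU : ∀ v ∈ U, G' v ∈ U := fun v hv => hGU ⟨v, hv⟩ ▸ (e _).2
    have hkY : ∀ (q : F[X]) (v : V), v ∈ Y → aeval G' q v = aeval G q v := fun q v hv => by
      have hk : ∀ k : ℕ, (G' ^ k) v = (G ^ k) v := fun k => by
        induction k with
        | zero => rfl
        | succ k ih =>
          rw [pow_succ', pow_succ']
          exact (congrArg G' ih).trans (hGY _ (pow_apply_mem hYi k v hv))
      rw [aeval_eq_sum_range, aeval_eq_sum_range, LinearMap.sum_apply, LinearMap.sum_apply]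
      exact Finset.sum_congr rfl fun k _ => by rw [LinearMap.smul_apply, LinearMap.smul_apply, hk]
    have hkU : U ≤ polyKer G' (p 0) := fun u hu => by
      rw [mem_polyKer, aeval_apply_restrict e hGU (p 0) ⟨u, hu⟩, hep]; rfl
    refine ⟨G', U ⊔ Y, fun u v => ?_, h.nd_sup hU hY horth, ?_, ?_, ?_, ?_, ?_⟩
    · rw [hG', Module.End.mul_apply, Module.End.mul_apply]
      exact (hg' _ _).trans (hG u v)
    · rw [h.finrank_sup_nd hU horth, hUd, hYd, mul_add, mul_one, add_comm]
    · intro v hv
      obtain ⟨a, ha, b, hb, rfl⟩ := Submodule.mem_sup.1 hv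
      rw [map_add]
      exact Submodule.add_mem_sup (hinvU a ha) (hinvY b hb)
    · intro v hv
      rw [hG', Module.End.mul_apply, hfix v (orth_anti le_sup_right hv)]
      exact hg'o ⟨v, orth_anti le_sup_left hv⟩
    · intro q hq
      refine sup_le ?_ fun v hv => ?_
      · obtain ⟨d, hd⟩ := hq 0
        exact fun u hu => mem_polyKer.2 (by
          rw [hd, mul_comm, map_mul, Module.End.mul_apply, mem_polyKer.1 (hkU hu), map_zero])
      · exact mem_polyKer.2 (by rw [hkY q v hv]; exact mem_polyKer.1 (hkill q (fun j => hq _) hv))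
    · intro hirr f hfm hfi
      obtain ⟨hn, hd⟩ := hcnt (fun j => hirr _) f hfm hfi
      have hYk : Y ⊓ polyKer G' f = Y ⊓ polyKer G f := by
        ext v
        constructor <;> rintro ⟨h1, h2⟩ <;> refine ⟨h1, mem_polyKer.2 ?_⟩
        · rw [← hkY f v h1]; exact mem_polyKer.1 h2
        · rw [hkY f v h1]; exact mem_polyKer.1 h2
      have hsplit : ∀ v ∈ (U ⊔ Y) ⊓ polyKer G' f, ∃ a ∈ U ⊓ polyKer G' f, ∃ b ∈ Y ⊓ polyKer G' f, a + b = v := by
        rintro v ⟨hv, hvk⟩
        obtain ⟨a, ha, b, hb, rfl⟩ := Submodule.mem_sup.1 hv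
        have hsum : aeval G' f a + aeval G' f b = 0 := by rw [← map_add]; exact mem_polyKer.1 hvk
        have hz : aeval G' f a = 0 := Submodule.disjoint_def.1 (h.nd_disjoint hU horth) _
          (aeval_apply_mem hinvU f a ha)
          (by rw [eq_neg_of_add_eq_zero_left hsum]; exact Y.neg_mem (aeval_apply_mem hinvY f b hb))
        rw [hz, zero_add] at hsum
        exact ⟨a, ⟨ha, hz⟩, b, ⟨hb, hsum⟩, rfl⟩
      have hcard : Nat.card {j // p j = f} = (if p 0 = f then 1 else 0) + Nat.card {j : Fin A // p j.succ = f} := by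
        rw [Nat.card_eq_fintype_card, Nat.card_eq_fintype_card, Fintype.card_subtype, Fintype.card_subtype,
          Fin.card_filter_univ_succ']
      by_cases hf : p 0 = f
      · have heq : (U ⊔ Y) ⊓ polyKer G' f = U ⊔ (Y ⊓ polyKer G f) := by
          rw [← hYk]
          refine le_antisymm (fun v hv => ?_) (sup_le (le_inf le_sup_left (hf ▸ hkU)) (inf_le_inf_right _ le_sup_right))
          obtain ⟨a, ha, b, hb, rfl⟩ := hsplit v hv
          exact Submodule.add_mem_sup ha.1 hb
        have ho : ∀ a ∈ U, ∀ b ∈ Y ⊓ polyKer G f, B a b = 0 := fun a ha b hb => horth a ha b hb.1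
        rw [heq, hcard, if_pos hf]
        exact ⟨h.nd_sup hU hn ho, by rw [h.finrank_sup_nd hU ho, hUd, hd, mul_add, mul_one]⟩
      · have hU0 : U ⊓ polyKer G' f = ⊥ := (Submodule.eq_bot_iff _).2 fun a ha => by
          obtain ⟨x, y, hxy⟩ := (hirr 0).2.coprime_iff_not_dvd.2 fun hdvd =>
            hf (eq_of_monic_of_associated (hirr 0).1 hfm ((hirr 0).2.associated_of_dvd hfi hdvd))
          have h2 := congrArg (fun P => aeval G' P a) hxy
          simp only [map_add, map_mul, LinearMap.add_apply, Module.End.mul_apply, mem_polyKer.1 (hkU ha.1),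
            mem_polyKer.1 ha.2, map_zero, add_zero, map_one, Module.End.one_apply] at h2
          exact h2.symm
        have heq : (U ⊔ Y) ⊓ polyKer G' f = Y ⊓ polyKer G f := by
          rw [← hYk]
          refine le_antisymm (fun v hv => ?_) (inf_le_inf_right _ le_sup_right)
          obtain ⟨a, ha, b, hb, rfl⟩ := hsplit v hv
          rw [hU0, Submodule.mem_bot] at ha
          rwa [ha, zero_add]
        rw [heq, hcard, if_neg hf, zero_add]
        exact ⟨hn, hd⟩

/-- No small nondegenerate blocks: alternating forms and odd dimension. -/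
theorem no_small_alt (h : IsRefl B) (hid : σ = RingHom.id F) {b : ℕ} (hb : Odd b) {U : Submodule F V}
    (hU : ND B U) : finrank F U ≠ b := fun e => Nat.not_even_iff_odd.2 hb (e ▸ h.par_nd hU hid)

/-- No small nondegenerate blocks: Hermitian forms. -/
theorem no_small_herm (h : IsRefl B) (hσ : IsInvol σ) (hs : ∀ u v, σ (B u v) = B v u) (hrF : (r : F) ≠ 0)
    (hr : g ^ r = 1) (hg : Pres B g) {b : ℕ} (hb : 0 < b)
    (hq0 : (Nat.card (fixedSub σ) : ZMod r) ≠ 0) (hne : (-(Nat.card (fixedSub σ) : ZMod r)) ^ b ≠ 1)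
    {W : Submodule F V} (hUR : W ≤ restSp r g) (hU : ND B W) (hW : ∀ v ∈ W, g v ∈ W) : finrank F W ≠ b := by
  classical
  intro hWdim
  haveI := Fintype.ofFinite F
  refine hne ?_
  have hWh : Herm.IsHerm (Herm.IsHerm.restrict B W) := Herm.IsHerm.restrict_herm ⟨hσ, hs, h.nondeg⟩ hU
  haveI : Finite V := Module.finite_of_finite F
  let S := {v : W // Herm.IsHerm.restrict B W v v = 1}
  haveI : Fintype S := Fintype.ofFinite S
  let φ : S → S := fun v => ⟨⟨g v.1.1, hW _ v.1.2⟩, (hg _ _).trans v.2⟩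
  have hφinj : Function.Injective φ := fun v v' hvv =>
    Subtype.ext (Subtype.ext (h.injective_of_pres hg (congrArg (fun s : S => s.1.1) hvv)))
  let π : Equiv.Perm S := Equiv.ofBijective φ (Finite.injective_iff_bijective.1 hφinj)
  have hπk : ∀ (j : ℕ) (v : S), ((π ^ j) v).1.1 = (g ^ j) v.1.1 := fun j => by
    induction j with
    | zero => intro v; rfl
    | succ j ih =>
      intro v
      rw [pow_succ', pow_succ', Equiv.Perm.mul_apply, Module.End.mul_apply, ← ih]
      rfl
  have hmod := Equiv.Perm.card_compl_support_modEq (p := r) (n := 1) (σ := π) (by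
    refine Equiv.ext fun v => Subtype.ext (Subtype.ext ?_)
    rw [pow_one, hπk, hr]
    rfl)
  have hnone : π.supportᶜ = ∅ := by
    refine Finset.eq_empty_of_forall_notMem fun v hv => ?_
    rw [Finset.mem_compl, Equiv.Perm.notMem_support] at hv
    have h0 : v.1.1 = 0 := free_of_le_rest hrF (hUR v.1.2) (congrArg (fun s : S => s.1.1) hv)
    have h1 := v.2
    rw [IsHerm.restrict_apply, h0, map_zero] at h1
    exact zero_ne_one h1
  rw [hnone, Finset.card_empty, ← Nat.card_eq_fintype_card,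
    show Nat.card S = normCount σ b 1 from hWh.card_norm_eq_count hWdim 1] at hmod
  have hN : (normCount σ b 1 : ZMod r) = 0 := by
    rw [ZMod.natCast_eq_zero_iff]
    exact (Nat.modEq_zero_iff_dvd).1 hmod.symm
  have hform := congrArg (fun a : ℤ => (a : ZMod r)) (normCount_one_formula hσ b)
  push_cast at hform
  rw [hN, mul_zero] at hform
  set Q : ZMod r := (Nat.card (fixedSub σ) : ZMod r)
  have hQi : Q ^ b = (-1) ^ b := mul_right_cancel₀ (pow_ne_zero b hq0) (by linear_combination -hform)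
  rw [neg_pow, hQi, ← mul_pow, neg_one_mul, neg_neg, one_pow]

end CfsgLib.Geo.Refl
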