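/-
The hyperbolic model: a map and its inverse conjugate transpose.
-/
import Cfsg.Agent.Lib.Geo.Refl.Models

set_option autoImplicit false
set_option maxHeartbeats 400000
set_option linter.unusedSectionVars false

namespace CfsgLib.Geo.Refl

open Module Polynomial Matrix CfsgLib.Classical CfsgLib.Classical.Herm CfsgLib.Geo.PrimeAct

universe u

variable {F : Type u} [Field F] {σ : F →+* F} {ι : Type*} [Fintype ι] [DecidableEq ι]

/-- The conjugate dot product form on pairs. -/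
def pairForm (σ : F →+* F) (ε : F) (ι : Type*) [Fintype ι] :
    ((ι → F) × (ι → F)) →ₛₗ[σ] ((ι → F) × (ι → F)) →ₗ[F] F :=
  LinearMap.mk₂'ₛₗ σ (RingHom.id F)
    (fun u v => ∑ i, σ (u.1 i) * v.2 i + ε * ∑ i, σ (u.2 i) * v.1 i)
    (fun u u' v => by simp [add_mul, Finset.sum_add_distrib, mul_add]; abel)
    (fun c u v => by simp [Finset.mul_sum, mul_add]; congr 1 <;> (refine Finset.sum_congr rfl fun i _ => ?_; ring))
    (fun u v v' => by simp [Finset.sum_add_distrib, mul_add]; abel)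
    (fun c u v => by simp [Finset.mul_sum, mul_add]; congr 1 <;> (refine Finset.sum_congr rfl fun i _ => ?_; ring))

theorem pairForm_apply (ε : F) (u v : (ι → F) × (ι → F)) :
    pairForm σ ε ι u v = ∑ i, σ (u.1 i) * v.2 i + ε * ∑ i, σ (u.2 i) * v.1 i := rfl

theorem pairForm_isRefl [Finite F] (ε : F) (hε : ε ≠ 0)
    (hkind : (σ = RingHom.id F ∧ ε = -1) ∨ (IsInvol σ ∧ ε = 1)) : IsRefl (pairForm σ ε ι) where
  kind := by
    rcases hkind with ⟨hid, rfl⟩ | ⟨hσ, rfl⟩
    · refine Or.inl ⟨hid, fun x => ?_⟩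
      subst hid
      rw [pairForm_apply, neg_one_mul, ← sub_eq_add_neg, sub_eq_zero]
      exact Finset.sum_congr rfl fun i _ => mul_comm _ _
    · refine Or.inr ⟨hσ, fun u v => ?_⟩
      simp only [pairForm_apply, one_mul, map_add, map_sum, map_mul, hσ.invol]
      rw [add_comm]
      congr 1 <;> exact Finset.sum_congr rfl fun i _ => mul_comm _ _
  nondeg u hu := by
    classical
    refine Prod.ext (funext fun j => ?_) (funext fun j => ?_)
    · have h1 := hu (0, Pi.single j 1)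
      simpa [pairForm_apply, Pi.single_apply, hε] using h1
    · have h1 := hu (Pi.single j 1, 0)
      simpa [pairForm_apply, Pi.single_apply, hε] using h1

/-- The map acting by `H` and by the inverse of its conjugate transpose. -/
noncomputable def pairMap (σ : F →+* F) (H : Matrix ι ι F) : Module.End F ((ι → F) × (ι → F)) :=
  LinearMap.prodMap (Matrix.mulVecLin H) (Matrix.mulVecLin ((H.map σ)ᵀ)⁻¹)

theorem pairMap_apply (H : Matrix ι ι F) (u : (ι → F) × (ι → F)) :
    pairMap σ H u = (H *ᵥ u.1, ((H.map σ)ᵀ)⁻¹ *ᵥ u.2) := rfl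

theorem isUnit_conjTranspose {H : Matrix ι ι F} (hH : IsUnit H.det) : IsUnit ((H.map σ)ᵀ).det := by
  rw [Matrix.det_transpose, ← RingHom.mapMatrix_apply, ← RingHom.map_det]
  exact hH.map σ

theorem pairMap_pres {H : Matrix ι ι F} (hH : IsUnit H.det) (hσ : ∀ a, σ (σ a) = a) (ε : F) :
    Pres (pairForm σ ε ι) (pairMap σ H) := by
  intro u v
  have hK := Matrix.mul_nonsing_inv _ (isUnit_conjTranspose (σ := σ) hH)
  have key : ∀ x y : ι → F, ∑ i, σ ((H *ᵥ x) i) * ((((H.map σ)ᵀ)⁻¹) *ᵥ y) i = ∑ i, σ (x i) * y i := fun x y => by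
    have h1 : (fun i => σ ((H *ᵥ x) i)) = (H.map σ) *ᵥ (fun i => σ (x i)) := funext fun i => by
      rw [RingHom.map_mulVec]; rfl
    calc ∑ i, σ ((H *ᵥ x) i) * ((((H.map σ)ᵀ)⁻¹) *ᵥ y) i = ((H.map σ) *ᵥ fun i => σ (x i)) ⬝ᵥ ((((H.map σ)ᵀ)⁻¹) *ᵥ y) := by rw [← h1]; rfl
      _ = (fun i => σ (x i)) ⬝ᵥ (((H.map σ)ᵀ * ((H.map σ)ᵀ)⁻¹) *ᵥ y) := by
        rw [← Matrix.mulVec_mulVec, Matrix.dotProduct_mulVec _ (H.map σ)ᵀ, Matrix.vecMul_transpose]
      _ = _ := by rw [hK, Matrix.one_mulVec]; rfl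
  have key2 : ∀ x y : ι → F, ∑ i, σ (((((H.map σ)ᵀ)⁻¹) *ᵥ y) i) * (H *ᵥ x) i = ∑ i, σ (y i) * x i := fun x y => by
    have h1 := congrArg σ (key x y)
    simp only [map_sum, map_mul, hσ] at h1
    simpa [mul_comm] using h1
  simp only [pairForm_apply, pairMap_apply, key, key2]

theorem pairMap_pow (H : Matrix ι ι F) (k : ℕ) (u : (ι → F) × (ι → F)) :
    (pairMap σ H ^ k) u = ((H ^ k) *ᵥ u.1, ((((H.map σ)ᵀ)⁻¹) ^ k) *ᵥ u.2) := by
  induction k with
  | zero => simp
  | succ k ih =>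
    rw [pow_succ', Module.End.mul_apply, ih, pairMap_apply, Matrix.mulVec_mulVec, Matrix.mulVec_mulVec, ← pow_succ',
      ← pow_succ']

theorem pairMap_pow_eq_one {H : Matrix ι ι F} {N : ℕ} (hN : H ^ N = 1) : pairMap σ H ^ N = 1 := by
  have h1 : (((H.map σ)ᵀ)⁻¹) ^ N = 1 := by
    rw [Matrix.inv_pow', ← Matrix.transpose_pow, ← RingHom.mapMatrix_apply, ← map_pow, hN, map_one,
      Matrix.transpose_one, inv_one]
  refine LinearMap.ext fun u => ?_
  rw [pairMap_pow, hN, h1, Matrix.one_mulVec, Matrix.one_mulVec]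
  rfl

theorem pairMap_free {H : Matrix ι ι F} (hH : IsUnit H.det) {k : ℕ} (hk : IsUnit (H ^ k - 1).det)
    {u : (ι → F) × (ι → F)} (hu : (pairMap σ H ^ k) u = u) : u = 0 := by
  rw [pairMap_pow, Prod.ext_iff] at hu
  obtain ⟨h1, h2⟩ := hu
  simp only at h1 h2
  refine Prod.ext ?_ ?_
  · refine Matrix.eq_zero_of_mulVec_eq_zero hk.ne_zero ?_
    rw [Matrix.sub_mulVec, h1, Matrix.one_mulVec, sub_self]
  · have hK := Matrix.mul_nonsing_inv _ (isUnit_conjTranspose (σ := σ) hH)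
    set T := (H.map σ)ᵀ with hT
    have h3 : (T ^ k) *ᵥ u.2 = u.2 := by
      have hcom : Commute T T⁻¹ := by
        rw [Commute, SemiconjBy, hK, Matrix.nonsing_inv_mul _ (isUnit_conjTranspose (σ := σ) hH)]
      conv_lhs => rw [← h2]
      rw [Matrix.mulVec_mulVec, ← hcom.mul_pow, hK, one_pow, Matrix.one_mulVec]
    refine Matrix.eq_zero_of_mulVec_eq_zero (M := T ^ k - 1) ?_ ?_
    · have h4 : T ^ k - 1 = ((H ^ k - 1).map σ)ᵀ := by
        rw [← RingHom.mapMatrix_apply, map_sub, map_pow, map_one, Matrix.transpose_sub, Matrix.transpose_pow,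
          Matrix.transpose_one, hT]
        rfl
      rw [h4]
      exact (isUnit_conjTranspose hk).ne_zero
    · rw [Matrix.sub_mulVec, h3, Matrix.one_mulVec, sub_self]

theorem exists_companion [Finite F] {f : F[X]} (hm : f.Monic) (hirr : Irreducible f) (h0 : f.coeff 0 ≠ 0) :
    ∃ H : Matrix (Fin f.natDegree) (Fin f.natDegree) F, aeval H f = 0 ∧ IsUnit H.det ∧
      ∀ p : F[X], ¬ f ∣ p → IsUnit (aeval H p).det := by
  classical
  haveI : Fact (Irreducible f) := ⟨hirr⟩
  let b := (AdjoinRoot.powerBasis hm.ne_zero).basis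
  let φ : AdjoinRoot f →ₐ[F] Matrix (Fin f.natDegree) (Fin f.natDegree) F :=
    Algebra.leftMulMatrix b
  have hφ : Function.Injective φ := Algebra.leftMulMatrix_injective b
  refine ⟨φ (AdjoinRoot.root f), ?_, ?_, fun p hp => ?_⟩
  · rw [aeval_algHom_apply, AdjoinRoot.aeval_eq, AdjoinRoot.mk_self, map_zero]
  · refine ((Matrix.isUnit_iff_isUnit_det _).1 (IsUnit.map φ (IsUnit.mk0 _ fun e => h0 ?_)))
    have h1 : AdjoinRoot.mk f X = 0 := e
    rw [AdjoinRoot.mk_eq_zero] at h1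
    have h2 := eq_of_monic_of_associated hm monic_X (hirr.associated_of_dvd irreducible_X h1)
    rw [h2, coeff_X_zero]
  · rw [aeval_algHom_apply, AdjoinRoot.aeval_eq]
    exact (Matrix.isUnit_iff_isUnit_det _).1 (IsUnit.map φ (IsUnit.mk0 _ fun e => hp (AdjoinRoot.mk_eq_zero.1 e)))

variable [Finite F] {V : Type*} [AddCommGroup V] [Module F V] [FiniteDimensional F V]
variable {B : V →ₛₗ[σ] V →ₗ[F] F}

theorem exists_pairSign (h : IsRefl B) :
    ∃ ε : F, ε ≠ 0 ∧ ((σ = RingHom.id F ∧ ε = -1) ∨ (IsInvol σ ∧ ε = 1)) := by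
  rcases h.kind with ⟨hid, -⟩ | ⟨hσ, -⟩
  · exact ⟨-1, neg_ne_zero.2 one_ne_zero, Or.inl ⟨hid, rfl⟩⟩
  · exact ⟨1, one_ne_zero, Or.inr ⟨hσ, rfl⟩⟩

/-- A self-dual irreducible polynomial has a model of its degree. -/
theorem hasModel_selfDual (h : IsRefl B) {f : F[X]} (hm : f.Monic) (hirr : Irreducible f) {M : ℕ} (hM : 0 < M)
    (hdvd : f ∣ X ^ (M + 1) - 1) (h2 : ¬ f ∣ X ^ 2 - 1) (hexp : ∀ p : F[X], expand F M (p.map σ) = p ^ M) :
    HasModel B f.natDegree f := by
  have h0 : f.coeff 0 ≠ 0 := fun e => by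
    obtain ⟨c, hc⟩ := hdvd
    have h1 := congrArg (fun p => p.coeff 0) hc
    simp [mul_coeff_zero, e, coeff_X_pow] at h1
  obtain ⟨H, hHf, hH, hHu⟩ := exists_companion hm hirr h0
  obtain ⟨ε, hε, hkind⟩ := exists_pairSign h
  have h' := pairForm_isRefl (ι := Fin f.natDegree) ε hε hkind
  set k := pairMap σ H
  have hk : Pres (pairForm σ ε (Fin f.natDegree)) k := pairMap_pres hH h.invol ε
  have hHM : H ^ (M + 1) = 1 := by
    obtain ⟨c, hc⟩ := hdvd
    have h1 := congrArg (aeval H) hc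
    rwa [map_sub, map_pow, aeval_X, map_one, map_mul, hHf, zero_mul, sub_eq_zero] at h1
  have hsd : SelfDual σ k := ⟨M, hM, pairMap_pow_eq_one hHM, hexp⟩
  have hpow : ∀ u : (Fin f.natDegree → F) × (Fin f.natDegree → F),
      aeval k f u = ((aeval H f) *ᵥ u.1, (aeval (((H.map σ)ᵀ)⁻¹) f) *ᵥ u.2) := fun u => by
    simp only [aeval_eq_sum_range, LinearMap.sum_apply, LinearMap.smul_apply, k, pairMap_pow, Prod.smul_mk,
      Matrix.sum_mulVec, Matrix.smul_mulVec]
    exact Prod.ext (by simp [Prod.fst_sum]) (by simp [Prod.snd_sum])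
  have hkill : aeval k f = 0 := by
    refine LinearMap.ext fun u => ?_
    rw [hpow, hHf, Matrix.zero_mulVec, LinearMap.zero_apply]
    refine Prod.ext rfl ?_
    refine funext fun j => ?_
    have hx : aeval k f ((Pi.single j 1, 0) : (Fin f.natDegree → F) × (Fin f.natDegree → F)) = 0 := by
      rw [hpow, hHf, Matrix.zero_mulVec, Matrix.mulVec_zero]; rfl
    have h1 := h'.adjoint hk hsd hx u
    rw [hpow, pairForm_apply] at h1
    simpa [Pi.single_apply] using h1
  have hK : Killed k ⊤ {f} f.natDegree := by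
    refine ⟨hirr.natDegree_pos, fun _ _ => trivial, fun p hp => ?_, fun v _ => ?_,
      Module.End.isSemisimple_of_squarefree_aeval_eq_zero hirr.squarefree hkill⟩
    · rw [Finset.mem_singleton.1 hp]; exact ⟨hm, hirr, rfl⟩
    · rw [Finset.prod_singleton, hkill]; rfl
  have hfree : ∀ v, k (k v) = v → v = 0 := fun v hv => by
    refine pairMap_free (σ := σ) hH (k := 2) ?_ (by rw [pow_two]; exact hv)
    have h1 := hHu _ h2
    rwa [map_sub, map_pow, aeval_X, map_one] at h1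
  have hB := h'.hasBlocks_selfDual hk hK hsd fun _ v _ => hfree v
  have htop : (⊤ : Submodule F ((Fin f.natDegree → F) × (Fin f.natDegree → F))) ≠ ⊥ := fun e => by
    have h1 := congrArg (fun S : Submodule F ((Fin f.natDegree → F) × (Fin f.natDegree → F)) => finrank F S) e
    simp only [finrank_top, Module.finrank_prod, finrank_fin_fun, finrank_bot] at h1
    have := hirr.natDegree_pos
    omega
  obtain ⟨W, -, hW, hWi, hWd⟩ := hB ⊤ le_rfl h'.nd_top (fun _ _ => trivial) htop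
  rw [← hWd]
  exact hasModel_of_space h h' hW k hk hWi fun v _ => mem_polyKer.2 (by rw [hkill]; rfl)

/-- Doubles of irreducible factors of `X ^ r - 1`. -/
theorem hasModel_double (h : IsRefl B) {r : ℕ} [Fact r.Prime] (hrF : (r : F) ≠ 0) {f : F[X]} (hm : f.Monic)
    (hirr : Irreducible f) (hdvd : f ∣ X ^ r - 1) (h1f : ¬ f ∣ X - 1) :
    HasModel B (2 * f.natDegree) (∑ j ∈ Finset.range r, X ^ j) := by
  have hr0 : r ≠ 0 := (Fact.out : r.Prime).ne_zero
  have h0 : f.coeff 0 ≠ 0 := fun e => by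
    obtain ⟨c, hc⟩ := hdvd
    have h1 := congrArg (fun p => p.coeff 0) hc
    simp [mul_coeff_zero, e, coeff_X_pow, hr0.symm] at h1
  obtain ⟨H, hHf, hH, hHu⟩ := exists_companion hm hirr h0
  obtain ⟨ε, hε, hkind⟩ := exists_pairSign h
  have h' := pairForm_isRefl (ι := Fin f.natDegree) ε hε hkind
  set k := pairMap σ H
  have hHr : H ^ r = 1 := by
    obtain ⟨c, hc⟩ := hdvd
    have h1 := congrArg (aeval H) hc
    rwa [map_sub, map_pow, aeval_X, map_one, map_mul, hHf, zero_mul, sub_eq_zero] at h1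
  have hkr : k ^ r = 1 := pairMap_pow_eq_one hHr
  have hfree : ∀ v, k v = v → v = 0 := fun v hv => by
    refine pairMap_free (σ := σ) hH (k := 1) ?_ (by rw [pow_one]; exact hv)
    have h1 := hHu _ h1f
    rwa [map_sub, aeval_X, map_one, ← pow_one H] at h1
  have hrest : restSp r k = ⊤ := by
    have h1 := finrank_split hkr hrF ⊤ fun v _ => trivial
    have h2 : fixSp k = ⊥ := (Submodule.eq_bot_iff _).2 fun v hv => hfree v (mem_fixSp.1 hv)
    rw [top_inf_eq, top_inf_eq, h2, finrank_bot, finrank_top, zero_add] at h1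
    exact Submodule.eq_top_of_finrank_eq h1
  have hd : 2 * f.natDegree =
      finrank F (⊤ : Submodule F ((Fin f.natDegree → F) × (Fin f.natDegree → F))) := by
    rw [finrank_top, Module.finrank_prod, finrank_fin_fun, two_mul]
  rw [hd]
  refine hasModel_of_space h h' h'.nd_top k (pairMap_pres hH h.invol ε) (fun _ _ => trivial) fun v hv => ?_
  rw [← hrest] at hv
  rw [mem_polyKer, map_sum]
  simpa [restSp, orbitSum, LinearMap.sum_apply] using hv

end CfsgLib.Geo.Refl
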