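/-
Counting members of a class of subspaces modulo the order of an isometry.
-/
import Cfsg.Agent.Lib.Geo.Refl.PairModel

set_option autoImplicit false
set_option maxHeartbeats 400000
set_option linter.unusedSectionVars false

namespace CfsgLib.Geo.Refl

open Module CfsgLib.Classical CfsgLib.Classical.Herm CfsgLib.Geo.PrimeAct

universe u

variable {F : Type u} [Field F] [Finite F] {V : Type*} [AddCommGroup V] [Module F V] [FiniteDimensional F V]
variable {σ : F →+* F} {B : V →ₛₗ[σ] V →ₗ[F] F}

/-- Members of a class: nondegenerate (`true`) or totally isotropic (`false`) of dimension `m`. -/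
def Member (B : V →ₛₗ[σ] V →ₗ[F] F) : Bool → ℕ → Submodule F V → Prop
  | true, m, W => finrank F W = m ∧ ND B W
  | false, m, W => finrank F W = m ∧ TI B W

theorem Member.finrank_eq {nd : Bool} {m : ℕ} {W : Submodule F V} (hW : Member B nd m W) : finrank F W = m := by
  cases nd <;> exact hW.1

theorem member_map {nd : Bool} {m : ℕ} {W : Submodule F V} (hW : Member B nd m W) (e : V ≃ₗ[F] V)
    (he : ∀ u v, B (e u) (e v) = B u v) : Member B nd m (W.map (e : V →ₗ[F] V)) := by
  cases nd
  · refine ⟨(LinearEquiv.finrank_map_eq e W).trans hW.1, ?_⟩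
    rintro _ ⟨a, ha, rfl⟩ _ ⟨b, hb, rfl⟩
    exact (he a b).trans (hW.2 a ha b hb)
  · refine ⟨(LinearEquiv.finrank_map_eq e W).trans hW.1, ?_⟩
    rintro _ ⟨a, ha, rfl⟩ hall
    rw [hW.2 a ha fun y hy => (he a y).symm.trans (hall _ ⟨y, hy, rfl⟩), map_zero]

theorem member_restrict_iff {C : Submodule F V} {nd : Bool} {m : ℕ} (W : Submodule F C) :
    Member (IsHerm.restrict B C) nd m W ↔ Member B nd m (W.map C.subtype) := by
  cases nd <;> simp only [Member, Submodule.finrank_map_subtype_eq]
  · refine and_congr_right fun _ => ⟨?_, fun h a ha b hb => h _ ⟨a, ha, rfl⟩ _ ⟨b, hb, rfl⟩⟩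
    rintro h _ ⟨a, ha, rfl⟩ _ ⟨b, hb, rfl⟩
    exact h a ha b hb
  · refine and_congr_right fun _ => ⟨?_, fun h a ha hall => Subtype.ext (h _ ⟨a, ha, rfl⟩ ?_)⟩
    · rintro h _ ⟨a, ha, rfl⟩ hall
      rw [h a ha fun y hy => hall _ ⟨y, hy, rfl⟩, map_zero]
    · rintro _ ⟨y, hy, rfl⟩
      exact hall y hy

theorem member_trans (h : IsRefl B) {nd : Bool} {m : ℕ} {W W' : Submodule F V} (hW : Member B nd m W)
    (hW' : Member B nd m W') :
    ∃ e : V ≃ₗ[F] V, (∀ u v, B (e u) (e v) = B u v) ∧ W.map (e : V →ₗ[F] V) = W' := by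
  cases nd
  · exact h.exists_map_ti hW.2 hW'.2 (hW.1.trans hW'.1.symm)
  · exact h.exists_map_nd hW.2 hW'.2 (hW.1.trans hW'.1.symm)

/-- The size of a class divides the order of the isometry group. -/
theorem card_member_dvd (h : IsRefl B) {nd : Bool} {m : ℕ} {W₁ : Submodule F V} (h₁ : Member B nd m W₁) :
    Nat.card {W : Submodule F V // Member B nd m W} ∣ Nat.card (Herm.HU B) := by
  classical
  haveI : Finite V := Module.finite_of_finite F
  haveI : Finite (V ≃ₗ[F] V) := Finite.of_injective (fun e : V ≃ₗ[F] V => (e : V → V)) DFunLike.coe_injective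
  letI : MulAction (Herm.HU B) (Submodule F V) :=
    { smul := fun g W => W.map ((g : V ≃ₗ[F] V) : V →ₗ[F] V)
      one_smul := fun W => Submodule.map_id W
      mul_smul := fun g g' W => Submodule.map_comp ((g' : V ≃ₗ[F] V) : V →ₗ[F] V) ((g : V ≃ₗ[F] V) : V →ₗ[F] V) W }
  have horb : MulAction.orbit (Herm.HU B) W₁ = {W : Submodule F V | Member B nd m W} := by
    ext W
    constructor
    · rintro ⟨g, rfl⟩
      exact member_map h₁ (g : V ≃ₗ[F] V) g.2
    · intro hW
      obtain ⟨e, he, heW⟩ := member_trans h h₁ hW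
      exact ⟨⟨e, he⟩, heW⟩
  have h1 := MulAction.index_stabilizer (Herm.HU B) W₁
  rw [horb, ← Nat.card_coe_set_eq] at h1
  exact h1 ▸ Subgroup.index_dvd_card _

theorem equiv_pow_apply (e : V ≃ₗ[F] V) (k : ℕ) (x : V) :
    (((e : V →ₗ[F] V) : Module.End F V) ^ k) x = (e ^ k) x := by
  induction k with
  | zero => rfl
  | succ k ih => rw [pow_succ', pow_succ', Module.End.mul_apply, ih]; rfl

/-- A prime dividing a class size gives an isometry of that order. -/
theorem exists_isometry_of_dvd (h : IsRefl B) {r : ℕ} [Fact r.Prime] {nd : Bool} {m : ℕ} {W₁ : Submodule F V}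
    (h₁ : Member B nd m W₁) (hdvd : r ∣ Nat.card {W : Submodule F V // Member B nd m W}) :
    ∃ k : Module.End F V, Pres B k ∧ k ^ r = 1 ∧ k ≠ 1 := by
  haveI : Finite V := Module.finite_of_finite F
  haveI : Finite (V ≃ₗ[F] V) := Finite.of_injective (fun e : V ≃ₗ[F] V => (e : V → V)) DFunLike.coe_injective
  obtain ⟨e, he⟩ := exists_prime_orderOf_dvd_card' r (hdvd.trans (card_member_dvd h h₁))
  refine ⟨((e : V ≃ₗ[F] V) : V →ₗ[F] V), e.2, LinearMap.ext fun x => ?_, fun h1 => ?_⟩
  · rw [equiv_pow_apply, ← SubgroupClass.coe_pow, ← he, pow_orderOf_eq_one]; rfl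
  · have he1 : e = 1 := Subtype.ext (LinearEquiv.ext fun x => LinearMap.congr_fun h1 x)
    rw [he1, orderOf_one] at he
    exact (Fact.out : r.Prime).ne_one he.symm

/-- No divisibility when the fixed space is too small for elements of order `r`. -/
theorem not_dvd_member {r : ℕ} [Fact r.Prime] (h : IsRefl B) {g : Module.End F V} (hg : Pres B g) (hr : g ^ r = 1)
    {nd : Bool} {m : ℕ} (hC : ND B (fixSp g))
    (hfix : ∀ W, Member B nd m W → (∀ v ∈ W, g v ∈ W) → W ≤ fixSp g)
    (hno : ∀ k : Module.End F (fixSp g), Pres (IsHerm.restrict B (fixSp g)) k → k ^ r = 1 → k = 1)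
    {W₁ : Submodule F V} (h₁ : Member B nd m W₁) (h₁i : ∀ v ∈ W₁, g v ∈ W₁) :
    ¬ r ∣ Nat.card {W : Submodule F V // Member B nd m W} := by
  classical
  intro hdvd
  haveI : Finite V := Module.finite_of_finite F
  haveI : Finite (Submodule F V) := Finite.of_injective _ SetLike.coe_injective
  haveI := Fintype.ofFinite {W : Submodule F V // Member B nd m W}
  have hinj := h.injective_of_pres hg
  let e : V ≃ₗ[F] V := LinearEquiv.ofBijective g ⟨hinj, LinearMap.injective_iff_surjective.1 hinj⟩
  let φ : Function.End {W : Submodule F V // Member B nd m W} := fun W =>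
    ⟨W.1.map g, member_map W.2 e hg⟩
  have hpow : ∀ (k : ℕ) (W : {W : Submodule F V // Member B nd m W}), ((φ ^ k) W).1 = W.1.map (g ^ k) := fun k => by
    induction k with
    | zero => intro W; exact (Submodule.map_id _).symm
    | succ k ih =>
      intro W
      rw [pow_succ', pow_succ', Module.End.mul_eq_comp, Submodule.map_comp, ← ih]
      rfl
  have hφ : φ ^ r ^ 1 = 1 := funext fun W => Subtype.ext (by
    rw [pow_one, hpow, hr]; exact Submodule.map_id _)
  have hmod := Equiv.Perm.card_fixedPoints_modEq hφ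
  rw [← Nat.card_eq_fintype_card, ← Nat.card_eq_fintype_card] at hmod
  set C := fixSp g with hCdef
  have hfp : ∀ x : {W : Submodule F V // Member B nd m W}, x ∈ Function.fixedPoints φ ↔ x.1 ≤ C := by
    intro x
    constructor
    · intro hx
      refine hfix _ x.2 fun v hv => ?_
      have h1 : x.1.map g = x.1 := congrArg Subtype.val hx
      exact h1.le ⟨v, hv, rfl⟩
    · intro hx
      refine Subtype.ext (le_antisymm ?_ fun v hv => ⟨v, hv, mem_fixSp.1 (hx hv)⟩)
      rintro _ ⟨v, hv, rfl⟩
      rwa [mem_fixSp.1 (hx hv)]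
  have hcard : Nat.card (Function.fixedPoints φ) =
      Nat.card {W : Submodule F C // Member (IsHerm.restrict B C) nd m W} := Nat.card_congr
    { toFun := fun x => ⟨x.1.1.comap C.subtype, (member_restrict_iff _).2 (by
          rw [Submodule.map_comap_subtype, inf_eq_right.2 ((hfp _).1 x.2)]; exact x.1.2)⟩
      invFun := fun W => ⟨⟨W.1.map C.subtype, (member_restrict_iff _).1 W.2⟩,
        (hfp _).2 (Submodule.map_subtype_le C W.1)⟩
      left_inv := fun x => Subtype.ext (Subtype.ext (by
        show (x.1.1.comap C.subtype).map C.subtype = x.1.1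
        rw [Submodule.map_comap_subtype, inf_eq_right.2 ((hfp _).1 x.2)]))
      right_inv := fun W => Subtype.ext (Submodule.comap_map_eq_of_injective C.injective_subtype W.1) }
  rw [hcard] at hmod
  have hW₁C := hfix _ h₁ h₁i
  obtain ⟨k, hk, hkr, hk1⟩ := exists_isometry_of_dvd (h.restrict_isRefl hC) (W₁ := W₁.comap C.subtype)
    ((member_restrict_iff _).2 (by rw [Submodule.map_comap_subtype, inf_eq_right.2 hW₁C]; exact h₁))
    (Nat.modEq_zero_iff_dvd.1 (hmod.symm.trans (Nat.modEq_zero_iff_dvd.2 hdvd)))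
  exact hk1 (hno k hk hkr)

end CfsgLib.Geo.Refl
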