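/-
The characteristic does not divide the number of totally isotropic subspaces of a given dimension.
-/
import Cfsg.Agent.Lib.Geo.Refl.Counting
import Cfsg.Agent.Lib.Classical.Unitary.Isotropic
import Cfsg.Agent.Lib.Classical.ClassTheory.SpUnipotentCount

set_option autoImplicit false
set_option maxHeartbeats 400000
set_option linter.unusedSectionVars false

namespace CfsgLib.Geo.Refl

open Module CfsgLib.Classical

universe u

variable {F : Type u} [Field F] [Finite F] {V : Type*} [AddCommGroup V] [Module F V] [FiniteDimensional F V]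
variable {σ : F →+* F} {B : V →ₛₗ[σ] V →ₗ[F] F} {p : ℕ} [Fact p.Prime]

theorem not_dvd_pow_sub_one {q i : ℕ} (hp : p ∣ q) (hi : i ≠ 0) (hq : 0 < q) : ¬ p ∣ q ^ i - 1 := by
  intro h
  have h1 : p ∣ q ^ i := hp.trans (dvd_pow_self q hi)
  have h2 := Nat.dvd_sub h1 h
  rw [Nat.sub_sub_self (Nat.one_le_pow _ _ hq)] at h2
  exact (Fact.out : p.Prime).not_dvd_one h2

theorem not_dvd_pow_add_one {q i : ℕ} (hp : p ∣ q) (hi : i ≠ 0) : ¬ p ∣ q ^ i + 1 := by
  intro h
  have h2 := (Nat.dvd_add_right (hp.trans (dvd_pow_self q hi))).1 h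
  exact (Fact.out : p.Prime).not_dvd_one h2

theorem not_dvd_prod {ι : Type*} (s : Finset ι) (f : ι → ℕ) (h : ∀ i ∈ s, ¬ p ∣ f i) : ¬ p ∣ ∏ i ∈ s, f i :=
  fun hd => let ⟨i, hi, hd'⟩ := (Nat.Prime.prime Fact.out).exists_mem_finset_dvd hd; h i hi hd'

/-- The class of totally isotropic subspaces has size prime to `p`. -/
theorem not_dvd_card_ti (h : IsRefl B) [CharP F p] {m : ℕ} (hm : 2 * m ≤ finrank F V) :
    ¬ p ∣ Nat.card {W : Submodule F V // Member B false m W} := by
  classical
  haveI := Fintype.ofFinite F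
  haveI : Finite V := Module.finite_of_finite F
  haveI : Finite (Submodule F V) := Finite.of_injective _ SetLike.coe_injective
  obtain ⟨e, -, he⟩ := FiniteField.card F p
  have hpF : p ∣ Nat.card F := by rw [Nat.card_eq_fintype_card, he]; exact dvd_pow_self p e.pos.ne'
  rcases h.kind with ⟨rfl, hA⟩ | ⟨hσ, hs⟩
  · haveI := Fintype.ofFinite (Submodule F V)
    have hBn := h.bilin_nondeg
    obtain ⟨d, v, -, hd⟩ := Symp.exists_sympSys (B := B) hA hBn
    have h1 := ClassTheory.SpUnipotentCount.card_iso_of_finrank (B := B) hA hBn hd (w := m) (by omega)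
    set N := Nat.card {W : Submodule F V // Member B false m W}
    have hN : N = (Finset.univ.filter fun W : Submodule F V =>
        (∀ x ∈ W, ∀ y ∈ W, B x y = 0) ∧ finrank F W = m).card := by
      rw [show N = Nat.card {W : Submodule F V // Member B false m W} from rfl, Nat.card_eq_fintype_card,
        Fintype.card_subtype]
      refine congrArg Finset.card (Finset.ext fun W => ?_)
      simp only [Finset.mem_filter, Finset.mem_univ, true_and]
      exact and_comm
    rw [← hN] at h1
    have hq1 : 1 ≤ Nat.card F := Nat.card_pos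
    have h2 : N * ((∏ i ∈ Finset.range m, (Nat.card F ^ (i + 1) - 1)) *
        ∏ i ∈ Finset.range (d - m), (Nat.card F ^ (2 * (i + 1)) - 1)) =
          ∏ i ∈ Finset.range d, (Nat.card F ^ (2 * (i + 1)) - 1) := by
      apply Nat.cast_injective (R := ℚ)
      push_cast [Nat.one_le_pow _ _ hq1]
      exact h1
    exact fun hd' => not_dvd_prod _ _ (fun i _ => not_dvd_pow_sub_one hpF (by omega) hq1) (h2 ▸ hd'.mul_right _)
  · have hh : Herm.IsHerm B := ⟨hσ, hs, h.nondeg⟩
    have h1 := hh.card_totallyIsotropic_mul (V := V) m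
    have h2 := hh.card_isoTuples rfl hm
    set Q := Nat.card (Herm.fixedSub σ)
    have hQF : Nat.card F = Q ^ 2 := hσ.card_sq
    have hpQ : p ∣ Q := (Fact.out : p.Prime).dvd_of_dvd_pow (hQF ▸ hpF)
    have hQ1 : 0 < Q := Nat.card_pos
    set N := Nat.card {W : Submodule F V // Member B false m W}
    have hN : Nat.card {W : Submodule F V // finrank F W = m ∧ ∀ u ∈ W, ∀ v ∈ W, B u v = 0} = N := rfl
    have hprod : ∏ i : Fin m, (Nat.card F ^ m - Nat.card F ^ (i : ℕ)) =
        Q ^ (m * (m - 1)) * ∏ i : Fin m, (Nat.card F ^ (m - (i : ℕ)) - 1) := by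
      rw [show Q ^ (m * (m - 1)) = ∏ i : Fin m, Nat.card F ^ (i : ℕ) by
        rw [Finset.prod_pow_eq_pow_sum, Fin.sum_univ_eq_sum_range (fun i => i) m, hQF, ← pow_mul, mul_comm 2,
          Finset.sum_range_id_mul_two], ← Finset.prod_mul_distrib]
      refine Finset.prod_congr rfl fun i _ => ?_
      rw [Nat.mul_sub, mul_one, ← pow_add, Nat.add_sub_cancel' i.2.le]
    rw [hN] at h1
    rw [← h1, hprod] at h2
    have h3 : N * (∏ i : Fin m, (Nat.card F ^ (m - (i : ℕ)) - 1)) * Herm.ordProd Q (finrank F V - 2 * m) =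
        Herm.ordProd Q (finrank F V) :=
      Nat.eq_of_mul_eq_mul_left (Nat.pow_pos (n := m * (m - 1)) hQ1) (by rw [← h2]; ring)
    refine fun hd' => not_dvd_prod _ _ (fun i _ => ?_) (h3 ▸ (hd'.mul_right _).mul_right _)
    unfold Herm.ordFactor
    split
    · exact not_dvd_pow_add_one hpQ (by omega)
    · exact not_dvd_pow_sub_one hpQ (by omega) hQ1

end CfsgLib.Geo.Refl
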