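/-
Isometries of odd prime order: structure, and elements with prescribed numbers of blocks.
-/
import Cfsg.Agent.Lib.Geo.Refl.Counting

set_option autoImplicit false
set_option maxHeartbeats 400000
set_option linter.unusedSectionVars false

namespace CfsgLib.Geo.Refl

open Module Polynomial CfsgLib.Classical CfsgLib.Classical.Herm CfsgLib.Geo.PrimeAct

universe u

variable {F : Type u} [Field F] [Finite F] {V : Type*} [AddCommGroup V] [Module F V] [FiniteDimensional F V]
variable {σ : F →+* F} {B : V →ₛₗ[σ] V →ₗ[F] F} {g : Module.End F V} {r : ℕ} [Fact r.Prime]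

/-- Inversion on `r`-th roots of unity is induced by the Frobenius power fitting `σ`. -/
def SDReg (σ : F →+* F) (r : ℕ) : Prop := ∃ M, 0 < M ∧ r ∣ M + 1 ∧ ∀ f : F[X], expand F M (f.map σ) = f ^ M

/-- No nondegenerate space of dimension `b` has a free isometry of order `r`. -/
def GapReg (σ : F →+* F) (r b : ℕ) : Prop :=
  (σ = RingHom.id F ∧ Odd b) ∨
    (IsInvol σ ∧ (Nat.card (fixedSub σ) : ZMod r) ≠ 0 ∧ (-(Nat.card (fixedSub σ) : ZMod r)) ^ b ≠ 1)

/-- The dimension of the blocks. -/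
def Step (σ : F →+* F) (r b c : ℕ) : Prop := (SDReg σ r ∧ Par σ b ∧ c = b) ∨ (GapReg σ r b ∧ c = 2 * b)

local notation "ordq" => orderOf (Nat.card F : ZMod r)

theorem free_sq (hr2 : r ≠ 2) (hrF : (r : F) ≠ 0) (hr : g ^ r = 1) :
    ∀ v ∈ restSp r g, g (g v) = v → v = 0 := by
  intro v hv hv2
  refine free_of_le_rest hrF hv ?_
  obtain ⟨k, hk⟩ := (Fact.out : r.Prime).odd_of_ne_two hr2
  have h2 : ∀ j, (g ^ (2 * j)) v = v := fun j => by
    induction j with
    | zero => rfl
    | succ j ih => rw [show 2 * (j + 1) = 2 + 2 * j by ring, pow_add, Module.End.mul_apply, ih, pow_two]; exact hv2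
  have h3 := LinearMap.congr_fun hr v
  rw [hk, pow_succ', Module.End.mul_apply, h2] at h3
  exact h3

theorem fix_sup_rest (hr : g ^ r = 1) (hrF : (r : F) ≠ 0) : fixSp g ⊔ restSp r g = ⊤ := by
  have h := finrank_split hr hrF ⊤ fun v _ => Submodule.mem_top
  rw [top_inf_eq, top_inf_eq, finrank_top] at h
  refine Submodule.eq_top_of_finrank_eq ?_
  have h2 := Submodule.finrank_sup_add_finrank_inf_eq (fixSp g) (restSp r g)
  rw [disjoint_fix_rest hrF, finrank_bot] at h2
  omega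

theorem restSp_one (hrF : (r : F) ≠ 0) : restSp r (1 : Module.End F V) = ⊥ :=
  le_bot_iff.1 fun _ hv => (Submodule.mem_bot F).2 (free_of_le_rest hrF hv rfl)

theorem eq_one_of_rest (hr : g ^ r = 1) (hrF : (r : F) ≠ 0) (h0 : restSp r g = ⊥) : g = 1 := by
  refine LinearMap.ext fun v => ?_
  have hv : v ∈ fixSp g ⊔ restSp r g := (fix_sup_rest hr hrF).ge Submodule.mem_top
  rw [h0, sup_bot_eq] at hv
  exact mem_fixSp.1 hv

namespace IsRefl

variable (h : IsRefl B) (hrF : (r : F) ≠ 0) (hr : g ^ r = 1) (hg : Pres B g)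
include h hrF hr hg

theorem fix_orth_rest : ∀ a ∈ fixSp g, ∀ b ∈ restSp r g, B a b = 0 := by
  intro a ha b hb
  have h0 : B a (orbitSum r g b) = 0 := by rw [show orbitSum r g b = 0 from hb, map_zero]
  rw [orbitSum, LinearMap.sum_apply, map_sum] at h0
  have h1 : ∀ j ∈ Finset.range r, B a ((g ^ j) b) = B a b := fun j _ => by
    conv_lhs => rw [← pow_apply_fixed (mem_fixSp.1 ha) j]
    exact hg.pow j a b
  rw [Finset.sum_congr rfl h1, Finset.sum_const, Finset.card_range, nsmul_eq_mul] at h0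
  exact (mul_eq_zero.1 h0).resolve_left hrF

theorem nd_fix : ND B (fixSp g) :=
  h.nd_left (W := restSp r g) (by rw [fix_sup_rest hr hrF]; exact h.nd_top) (h.fix_orth_rest hrF hr hg)

theorem nd_rest : ND B (restSp r g) :=
  h.nd_right (U := fixSp g) (by rw [fix_sup_rest hr hrF]; exact h.nd_top) (h.fix_orth_rest hrF hr hg)

theorem finrank_fix_add_rest : finrank F (fixSp g) + finrank F (restSp r g) = finrank F V := by
  rw [← h.finrank_sup_nd (h.nd_fix hrF hr hg) (h.fix_orth_rest hrF hr hg), fix_sup_rest hr hrF, finrank_top]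

theorem split_member {W : Submodule F V} (hW : ∀ v ∈ W, g v ∈ W) :
    (W ⊓ fixSp g) ⊔ (W ⊓ restSp r g) = W := by
  refine Submodule.eq_of_le_of_finrank_eq (sup_le inf_le_left inf_le_left) ?_
  have h1 := finrank_split hr hrF W hW
  have h2 := Submodule.finrank_sup_add_finrank_inf_eq (W ⊓ fixSp g) (W ⊓ restSp r g)
  have h3 : (W ⊓ fixSp g) ⊓ (W ⊓ restSp r g) = ⊥ :=
    le_bot_iff.1 ((inf_le_inf inf_le_right inf_le_right).trans (disjoint_fix_rest hrF).le)
  rw [h3, finrank_bot] at h2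
  omega

theorem nd_split_member {W : Submodule F V} (hW : ∀ v ∈ W, g v ∈ W) (hn : ND B W) :
    ND B (W ⊓ fixSp g) ∧ ND B (W ⊓ restSp r g) :=
  ⟨h.nd_left (W := W ⊓ restSp r g) (by rw [h.split_member hrF hr hg hW]; exact hn)
      fun a ha b hb => h.fix_orth_rest hrF hr hg a ha.2 b hb.2,
    h.nd_right (U := W ⊓ fixSp g) (by rw [h.split_member hrF hr hg hW]; exact hn)
      fun a ha b hb => h.fix_orth_rest hrF hr hg a ha.2 b hb.2⟩

omit hrF hg h in
theorem selfDual_of_reg (hsd : SDReg σ r) : SelfDual σ g := by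
  obtain ⟨M, hM, ⟨k, hk⟩, hexp⟩ := hsd
  exact ⟨M, hM, by rw [hk, pow_mul, hr, one_pow], hexp⟩

theorem no_small (hgap : GapReg σ r ordq) :
    ∀ U ≤ restSp r g, ND B U → (∀ v ∈ U, g v ∈ U) → finrank F U ≠ ordq := by
  intro U hUR hU hUi
  rcases hgap with ⟨hid, hb⟩ | ⟨hσ, hq0, hne⟩
  · exact no_small_alt h hid hb hU
  · rcases h.kind with ⟨hid, -⟩ | ⟨-, hs⟩
    · exact absurd hid hσ.ne_id
    · exact no_small_herm h hσ hs hrF hr hg (ord_facts hrF).1 hq0 hne hUR hU hUi

theorem hasBlocks_rest {c : ℕ} (hc : Step σ r ordq c) (hr2 : r ≠ 2) : HasBlocks B g (restSp r g) c := by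
  rcases hc with ⟨hsd, -, rfl⟩ | ⟨hgap, rfl⟩
  · exact h.hasBlocks_selfDual hg (killed_rest hrF hr) (selfDual_of_reg hr hsd) fun _ => free_sq hr2 hrF hr
  · exact h.hasBlocks_double hg (killed_rest hrF hr) (h.no_small hrF hr hg hgap)

/-- Totally isotropic invariant subspaces of the moving part, self-dual case. -/
theorem exists_ti_rest_selfDual (hr2 : r ≠ 2) (hsd : SDReg σ r) {A j : ℕ}
    (hA : finrank F (restSp r g) = ordq * A) (hj : 2 * j ≤ A + 1 - (ClassTheory.cycFactors F r).card) :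
    ∃ S ≤ restSp r g, (∀ v ∈ S, g v ∈ S) ∧ TI B S ∧ finrank F S = ordq * j := by
  refine h.exists_ti_iterate hg ((ClassTheory.cycFactors F r).card + 1) (fun W' hW'W hW' hi hsize =>
    h.exists_split_selfDual hg (killed_rest hrF hr) (selfDual_of_reg hr hsd) (free_sq hr2 hrF hr) hW'W hW' hi hsize)
    j le_rfl (h.nd_rest hrF hr hg) (restSp_invariant hr) ?_
  rcases Nat.eq_zero_or_pos j with hj0 | hj0
  · exact Or.inl hj0
  refine Or.inr ?_
  rw [hA]
  calc ordq * ((ClassTheory.cycFactors F r).card + 1) + 2 * ordq * j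
      = ordq * ((ClassTheory.cycFactors F r).card + 1 + 2 * j) := by ring
    _ ≤ ordq * (A + 2) := Nat.mul_le_mul_left _ (by omega)
    _ = ordq * A + 2 * ordq := by ring

/-- Totally isotropic invariant subspaces of the moving part, no small blocks. -/
theorem exists_ti_rest_gap (hgap : GapReg σ r ordq) {A j : ℕ}
    (hA : finrank F (restSp r g) = 2 * ordq * A) (hj : j ≤ A) :
    ∃ S ≤ restSp r g, (∀ v ∈ S, g v ∈ S) ∧ TI B S ∧ finrank F S = ordq * j := by
  refine h.exists_ti_iterate hg 2 (fun W' hW'W hW' hi hsize =>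
    h.exists_split_double hg (killed_rest hrF hr) (h.no_small hrF hr hg hgap) hW'W hW' hi fun hb => by
      rw [hb, finrank_bot] at hsize; have := (ord_facts (F := F) (r := r) hrF).1; omega)
    j le_rfl (h.nd_rest hrF hr hg) (restSp_invariant hr) ?_
  rcases Nat.eq_zero_or_pos j with hj0 | hj0
  · exact Or.inl hj0
  refine Or.inr ?_
  rw [hA]
  have := Nat.mul_le_mul_left (2 * ordq) hj
  omega

end IsRefl

theorem geom_mul : (∑ j ∈ Finset.range r, (X : F[X]) ^ j) * (X - 1) = X ^ r - 1 := geom_sum_mul _ _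

/-- An element with a given moving space. -/
theorem element_facts (h : IsRefl B) (hrF : (r : F) ≠ 0) {G : Module.End F V} {Y : Submodule F V} (hG : Pres B G)
    (hY : ND B Y) (hfix : ∀ v ∈ orth B Y, G v = v) (hk : Y ≤ polyKer G (∑ j ∈ Finset.range r, X ^ j)) :
    G ^ r = 1 ∧ restSp r G = Y := by
  have hGr : G ^ r = 1 := by
    refine LinearMap.ext fun v => ?_
    obtain ⟨a, b, ha, hb, rfl⟩ := Submodule.codisjoint_iff_exists_add_eq.1 (h.isCompl_orth hY).codisjoint v
    rw [map_add, map_add, pow_apply_fixed (hfix b hb) r]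
    congr 1
    have h1 : aeval G ((X : F[X]) ^ r - 1) a = 0 := by
      rw [← geom_mul, mul_comm, map_mul, Module.End.mul_apply, mem_polyKer.1 (hk ha), map_zero]
    rwa [map_sub, map_pow, aeval_X, map_one, LinearMap.sub_apply, sub_eq_zero] at h1
  refine ⟨hGr, ?_⟩
  have hYR : Y ≤ restSp r G := fun y hy => by
    have h1 := mem_polyKer.1 (hk hy)
    rw [map_sum] at h1
    simpa [restSp, orbitSum, LinearMap.sum_apply] using h1
  have hCfix : orth B Y ≤ fixSp G := fun v hv => mem_fixSp.2 (hfix v hv)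
  have h1 := Submodule.finrank_mono hCfix
  have h2 := Submodule.finrank_mono hYR
  have h3 := h.finrank_fix_add_rest hrF hGr hG
  have h4 := h.finrank_orth Y
  exact (Submodule.eq_of_le_of_finrank_eq hYR (by omega)).symm

theorem cyc_basic (hrF : (r : F) ≠ 0) {f : F[X]} (hf : f ∈ ClassTheory.cycFactors F r) :
    f.Monic ∧ Irreducible f ∧ f.natDegree = ordq ∧ f ∣ ∑ j ∈ Finset.range r, X ^ j ∧ ¬ f ∣ X - 1 := by
  obtain ⟨hi, hm⟩ := ClassTheory.mem_cycFactors_irreducible hf
  have hne : ¬ f ∣ X - 1 := fun hd => by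
    rw [← C_1] at hd
    exact ClassTheory.mem_cycFactors_ne Fact.out hrF hf
      (eq_of_monic_of_associated hm (monic_X_sub_C 1) (hi.associated_of_dvd (irreducible_X_sub_C 1) hd))
  refine ⟨hm, hi, (ord_facts hrF).2.1 f hf, ?_, hne⟩
  have h1 := ClassTheory.mem_cycFactors_dvd (Fact.out : r.Prime) hf
  rw [← geom_mul] at h1
  exact (hi.prime.dvd_or_dvd h1).resolve_right hne

theorem hasModel_cyc (h : IsRefl B) (hr2 : r ≠ 2) (hrF : (r : F) ≠ 0) (hsd : SDReg σ r) {f : F[X]}
    (hf : f ∈ ClassTheory.cycFactors F r) : HasModel B ordq f := by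
  obtain ⟨M, hM, hMr, hexp⟩ := hsd
  obtain ⟨hm, hi, hd, hdvd, hne⟩ := cyc_basic hrF hf
  have hdr : f ∣ X ^ r - 1 := by rw [← geom_mul]; exact hdvd.mul_right _
  rw [← hd]
  refine hasModel_selfDual h hm hi hM (hdr.trans (pow_one_sub_dvd hMr)) (fun h2 => hne ?_) hexp
  -- the common divisors of `X ^ r - 1` and `X ^ 2 - 1` divide `X - 1`
  obtain ⟨k, hk⟩ := (Fact.out : r.Prime).odd_of_ne_two hr2
  have h3 : f ∣ X * (X ^ (2 * k) - 1) := (h2.trans (pow_one_sub_dvd ⟨k, rfl⟩)).mul_left _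
  have h4 : (X : F[X]) - 1 = (X ^ r - 1) - X * (X ^ (2 * k) - 1) := by
    rw [show X ^ r = (X : F[X]) * X ^ (2 * k) by rw [← pow_succ', hk]]
    ring
  rw [h4]
  exact dvd_sub hdr h3
where
  pow_one_sub_dvd {a b : ℕ} (hab : a ∣ b) : (X : F[X]) ^ a - 1 ∣ X ^ b - 1 := by
    obtain ⟨k, rfl⟩ := hab
    rw [pow_mul]
    exact sub_one_dvd_pow_sub_one _ k

/-- Elements with any number of blocks. -/
theorem exists_with_blocks (h : IsRefl B) (hr2 : r ≠ 2) (hrF : (r : F) ≠ 0) {c : ℕ} (hc : Step σ r ordq c) {A : ℕ}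
    (hA : c * A ≤ finrank F V) :
    ∃ G : Module.End F V, Pres B G ∧ G ^ r = 1 ∧ finrank F (restSp r G) = c * A := by
  obtain ⟨hb, hdeg, hcard⟩ := ord_facts (F := F) (r := r) hrF
  obtain ⟨f, hf⟩ : (ClassTheory.cycFactors F r).Nonempty := by
    rw [← Finset.card_pos]
    have := (Fact.out : r.Prime).two_le
    by_contra h0
    rw [Nat.eq_zero_of_not_pos h0, zero_mul] at hcard
    omega
  obtain ⟨hm, hi, hd, hdvd, hne⟩ := cyc_basic hrF hf
  have hpar : Par σ c := by
    rcases hc with ⟨-, hp, rfl⟩ | ⟨-, rfl⟩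
    · exact hp
    · exact fun _ => even_two_mul _
  have hmodel : HasModel B c (∑ j ∈ Finset.range r, X ^ j) := by
    rcases hc with ⟨hsd, -, rfl⟩ | ⟨-, rfl⟩
    · intro U hU hUd
      obtain ⟨e, he, hek⟩ := hasModel_cyc h hr2 hrF hsd hf U hU hUd
      obtain ⟨d, hd'⟩ := hdvd
      exact ⟨e, he, by rw [hd', map_mul, hek, zero_mul]⟩
    · rw [← hd]
      exact hasModel_double h hrF hm hi (by rw [← geom_mul]; exact hdvd.mul_right _) hne
  obtain ⟨G, Y, hG, hY, hYd, -, hfix, hkill, -⟩ :=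
    exists_element h hpar A (fun _ => ∑ j ∈ Finset.range r, X ^ j) (fun _ => hmodel) hA
  obtain ⟨h1, h2⟩ := element_facts h hrF hG hY hfix (hkill _ fun _ => dvd_rfl)
  exact ⟨G, hG, h1, by rw [h2, hYd]⟩

/-- Elements with few totally isotropic invariant subspaces. -/
theorem exists_bounded (h : IsRefl B) (hr2 : r ≠ 2) (hrF : (r : F) ≠ 0) (hsd : SDReg σ r) (hpar : Par σ ordq) {A : ℕ}
    (hA : ordq * A ≤ finrank F V) :
    ∃ G : Module.End F V, Pres B G ∧ G ^ r = 1 ∧ finrank F (restSp r G) = ordq * A ∧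
      ∀ S ≤ restSp r G, (∀ v ∈ S, G v ∈ S) → TI B S →
        finrank F S ≤ ordq * ((A + 1 - (ClassTheory.cycFactors F r).card) / 2) := by
  classical
  obtain ⟨hb, hdeg, hcard⟩ := ord_facts (F := F) (r := r) hrF
  set Φ := ClassTheory.cycFactors F r with hΦ
  set s := Φ.card with hs
  have hs1 : 1 ≤ s := by
    have := (Fact.out : r.Prime).two_le
    by_contra h0
    rw [show s = 0 by omega, zero_mul] at hcard
    omega
  let en : Φ ≃ Fin s := Φ.equivFin
  let p : Fin A → F[X] := fun j => ((en.symm ⟨min (j : ℕ) (s - 1), by omega⟩ : Φ) : F[X])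
  have hp : ∀ j, p j ∈ Φ := fun j => Finset.coe_mem _
  obtain ⟨G, Y, hG, hY, hYd, hYi, hfix, hkill, hcnt⟩ :=
    exists_element h hpar A p (fun j => hasModel_cyc h hr2 hrF hsd (hp j)) hA
  obtain ⟨hGr, hrest⟩ := element_facts h hrF hG hY hfix (hkill _ fun j => (cyc_basic hrF (hp j)).2.2.2.1)
  refine ⟨G, hG, hGr, by rw [hrest, hYd], fun S hS hSi hSt => ?_⟩
  have hK := killed_rest (F := F) (g := G) hrF hGr
  refine (hK.le_sum hS hSi).trans ?_
  -- each component
  have hcomp : ∀ f ∈ Φ, finrank F ↥(S ⊓ polyKer G f) ≤ ordq * (Nat.card {j // p j = f} / 2) := by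
    intro f hf
    obtain ⟨hm, hi, hd, -, -⟩ := cyc_basic hrF hf
    obtain ⟨hn, hnd⟩ := hcnt (fun j => ⟨(cyc_basic hrF (hp j)).1, (cyc_basic hrF (hp j)).2.1⟩) f hm hi
    have h1 := h.two_mul_le_of_ti hn (S := S ⊓ polyKer G f) (inf_le_inf_right _ (hrest ▸ hS))
      (hSt.mono inf_le_left)
    have hinv : ∀ v ∈ S ⊓ polyKer G f, G v ∈ S ⊓ polyKer G f := fun v hv =>
      ⟨hSi v hv.1, polyKer_invariant G f v hv.2⟩
    obtain ⟨l, hl⟩ := hK.dvd (inf_le_left.trans hS) hinv
    rw [hnd, hl, ← mul_assoc, mul_comm 2, mul_assoc] at h1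
    rw [hl]
    refine Nat.mul_le_mul_left _ ?_
    have := Nat.le_of_mul_le_mul_left h1 hb
    omega
  refine (Finset.sum_le_sum hcomp).trans ?_
  rw [← Finset.mul_sum]
  refine Nat.mul_le_mul_left _ ?_
  set last : Φ := en.symm ⟨s - 1, by omega⟩ with hlast
  rw [Finset.sum_eq_single (last : F[X]) ?_ (fun hn => absurd last.2 hn)]
  · refine Nat.div_le_div_right ?_
    rcases Nat.eq_zero_or_pos A with rfl | hApos
    · simp
    let ψ : {j // p j = (last : F[X])} → Fin (A + 1 - s) := fun j => ⟨(j.1 : ℕ) - (s - 1), by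
      have h1 := congrArg (fun x => ((en x : Fin s) : ℕ))
        (Subtype.ext j.2 : en.symm ⟨min (j.1 : ℕ) (s - 1), by omega⟩ = last)
      simp [hlast] at h1
      have := j.1.2
      omega⟩
    have hψ : Function.Injective ψ := fun j k hjk => by
      have h1 := congrArg (fun x => ((en x : Fin s) : ℕ))
        (Subtype.ext j.2 : en.symm ⟨min (j.1 : ℕ) (s - 1), by omega⟩ = last)
      have h2 := congrArg (fun x => ((en x : Fin s) : ℕ))
        (Subtype.ext k.2 : en.symm ⟨min (k.1 : ℕ) (s - 1), by omega⟩ = last)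
      simp [hlast] at h1 h2
      have h3 : (j.1 : ℕ) - (s - 1) = (k.1 : ℕ) - (s - 1) := congrArg Fin.val hjk
      exact Subtype.ext (Fin.ext (by omega))
    simpa using Nat.card_le_card_of_injective ψ hψ
  · intro f hf hne
    have hle : Nat.card {j // p j = f} ≤ 1 := by
      rw [Finite.card_le_one_iff_subsingleton]
      refine ⟨fun j k => Subtype.ext (Fin.ext ?_)⟩
      have h1 := congrArg (fun x => ((en x : Fin s) : ℕ))
        (Subtype.ext (j.2.trans k.2.symm) :
          en.symm ⟨min (j.1 : ℕ) (s - 1), by omega⟩ = en.symm ⟨min (k.1 : ℕ) (s - 1), by omega⟩)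
      simp at h1
      have hj : (j.1 : ℕ) < s - 1 := by
        by_contra hge
        refine hne (j.2.symm.trans ?_)
        simp only [p, hlast]
        exact congrArg (fun x => ((en.symm x : Φ) : F[X])) (Fin.ext (show min (j.1 : ℕ) (s - 1) = s - 1 by omega))
      omega
    omega

end CfsgLib.Geo.Refl
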