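/-
When all isometries of odd prime order fix a subspace of a given class.
-/
import Cfsg.Agent.Lib.Geo.Refl.Elements

set_option autoImplicit false
set_option maxHeartbeats 400000
set_option linter.unusedSectionVars false

namespace CfsgLib.Geo.Refl

open Module Polynomial CfsgLib.Classical CfsgLib.Classical.Herm CfsgLib.Geo.PrimeAct

universe u

variable {F : Type u} [Field F] [Finite F] {V : Type*} [AddCommGroup V] [Module F V] [FiniteDimensional F V]
variable {σ : F →+* F} {B : V →ₛₗ[σ] V →ₗ[F] F} {r : ℕ} [Fact r.Prime]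

local notation "ordq" => orderOf (Nat.card F : ZMod r)

/-- All isometries of order `r` fix a member of the class. -/
def AllFix (B : V →ₛₗ[σ] V →ₗ[F] F) (r : ℕ) (nd : Bool) (m : ℕ) : Prop :=
  ∀ g : Module.End F V, Pres B g → g ^ r = 1 → g ≠ 1 → ∃ W, Member B nd m W ∧ ∀ v ∈ W, g v ∈ W

theorem par_step {c : ℕ} (hc : Step σ r ordq c) : Par σ c := by
  rcases hc with ⟨-, hp, rfl⟩ | ⟨-, rfl⟩
  · exact hp
  · exact fun _ => even_two_mul _

theorem step_pos (hrF : (r : F) ≠ 0) {c : ℕ} (hc : Step σ r ordq c) : 0 < c := by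
  have := (ord_facts (F := F) (r := r) hrF).1
  rcases hc with ⟨-, -, rfl⟩ | ⟨-, rfl⟩ <;> omega

theorem Par.sub_mul {m c j : ℕ} (hm : Par σ m) (hc : Par σ c) (hj : c * j ≤ m) : Par σ (m - c * j) := fun hid =>
  (Nat.even_sub hj).2 (iff_of_true (hm hid) ((hc hid).mul_right j))

/-- Elements of order `r` move the classes of large dimension only. -/
theorem le_of_allFix (h : IsRefl B) (hr2 : r ≠ 2) (hrF : (r : F) ≠ 0) {c : ℕ} (hc : Step σ r ordq c) {nd : Bool}
    {m : ℕ} (hex : ∃ W, Member B nd m W) (hall : AllFix B r nd m)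
    (hdvd : r ∣ Nat.card {W : Submodule F V // Member B nd m W}) : (if nd then c else ordq) ≤ m := by
  by_contra hlt
  push Not at hlt
  have hc0 := step_pos hrF hc
  obtain ⟨g, hg, hr, hA⟩ := exists_with_blocks (B := B) h hr2 hrF hc (A := finrank F V / c) (Nat.mul_div_le _ c)
  have hC := h.nd_fix hrF hr hg
  have hfix : ∀ W, Member B nd m W → (∀ v ∈ W, g v ∈ W) → W ≤ fixSp g := fun W hW hWi => by
    have hWR : finrank F ↥(W ⊓ restSp r g) = 0 := by
      have hle : finrank F ↥(W ⊓ restSp r g) ≤ m := (Submodule.finrank_mono inf_le_left).trans_eq hW.finrank_eq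
      cases nd
      · have hdv := (killed_rest hrF hr).dvd (U := W ⊓ restSp r g) inf_le_right
          fun v hv => ⟨hWi v hv.1, restSp_invariant hr v hv.2⟩
        exact Nat.eq_zero_of_dvd_of_lt hdv (by simpa using lt_of_le_of_lt hle hlt)
      · have hdv := (h.hasBlocks_rest hrF hr hg hc hr2).dvd h hg hc0 (W' := W ⊓ restSp r g) inf_le_right
          (h.nd_split_member hrF hr hg hWi hW.2).2 fun v hv => ⟨hWi v hv.1, restSp_invariant hr v hv.2⟩
        exact Nat.eq_zero_of_dvd_of_lt hdv (by simpa using lt_of_le_of_lt hle hlt)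
    rw [← h.split_member hrF hr hg hWi, Submodule.finrank_eq_zero.1 hWR, sup_bot_eq]
    exact inf_le_right
  obtain ⟨W₁, h₁, h₁i⟩ : ∃ W, Member B nd m W ∧ ∀ v ∈ W, g v ∈ W := by
    rcases eq_or_ne g 1 with rfl | hne
    · obtain ⟨W, hW⟩ := hex; exact ⟨W, hW, fun v hv => hv⟩
    · exact hall g hg hr hne
  refine not_dvd_member h hg hr hC hfix (fun k hk hkr => ?_) h₁ h₁i hdvd
  have hC' := h.restrict_isRefl hC
  have hdv := (hC'.hasBlocks_rest hrF hkr hk hc hr2).dvd hC' hk hc0 le_rfl (hC'.nd_rest hrF hkr hk)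
    (restSp_invariant hkr)
  refine eq_one_of_rest hkr hrF (Submodule.finrank_eq_zero.1 (Nat.eq_zero_of_dvd_of_lt hdv ?_))
  have h1 := Submodule.finrank_le (restSp r k)
  have h2 := h.finrank_fix_add_rest hrF hr hg
  have h3 := Nat.mod_add_div (finrank F V) c
  have h4 := Nat.mod_lt (finrank F V) hc0
  omega

theorem blocks_of_rest (h : IsRefl B) (hr2 : r ≠ 2) (hrF : (r : F) ≠ 0) {c : ℕ} (hc : Step σ r ordq c)
    {g : Module.End F V} (hg : Pres B g) (hr : g ^ r = 1) :
    ∃ A, finrank F (restSp r g) = c * A ∧ finrank F (fixSp g) + c * A = finrank F V ∧ A ≤ finrank F V / c := by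
  obtain ⟨A, hA⟩ := (h.hasBlocks_rest hrF hr hg hc hr2).dvd h hg (step_pos hrF hc) le_rfl (h.nd_rest hrF hr hg)
    (restSp_invariant hr)
  have h2 := h.finrank_fix_add_rest hrF hr hg
  refine ⟨A, hA, by omega, (Nat.le_div_iff_mul_le (step_pos hrF hc)).2 ?_⟩
  rw [mul_comm]
  omega

theorem ne_one_of_blocks (hrF : (r : F) ≠ 0) {g : Module.End F V} {k : ℕ}
    (hA : finrank F (restSp r g) = k) (hk : 0 < k) : g ≠ 1 := by
  rintro rfl
  rw [restSp_one hrF, finrank_bot] at hA
  omega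

/-- The criterion for nondegenerate subspaces. -/
theorem crit_nd (h : IsRefl B) (hr2 : r ≠ 2) (hrF : (r : F) ≠ 0) {c : ℕ} (hc : Step σ r ordq c) {m : ℕ}
    (hpar : Par σ m) (hm : m ≤ finrank F V)
    (hdvd : r ∣ Nat.card {W : Submodule F V // Member B true m W}) :
    AllFix B r true m ↔ (c ≤ m ∧ m % c ≤ finrank F V % c) := by
  have hc0 := step_pos hrF hc
  have hn := Nat.mod_add_div (finrank F V) c
  have hk := Nat.mod_lt (finrank F V) hc0
  have hmd := Nat.mod_add_div m c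
  constructor
  · intro hall
    obtain ⟨W₀, -, hW₀, hW₀d⟩ := h.exists_nd_sub m h.nd_top hpar (by rwa [finrank_top])
    have hcm : c ≤ m := by simpa using le_of_allFix h hr2 hrF hc (nd := true) ⟨W₀, hW₀d, hW₀⟩ hall hdvd
    refine ⟨hcm, ?_⟩
    obtain ⟨g, hg, hr, hA⟩ := exists_with_blocks (B := B) h hr2 hrF hc (A := finrank F V / c) (Nat.mul_div_le _ c)
    have hN1 : 1 ≤ finrank F V / c := Nat.div_pos (hcm.trans hm) hc0
    obtain ⟨W, ⟨hWd, hWn⟩, hWi⟩ := hall g hg hr (ne_one_of_blocks hrF hA (Nat.mul_pos hc0 hN1))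
    obtain ⟨j, hj⟩ := (h.hasBlocks_rest hrF hr hg hc hr2).dvd h hg hc0 (W' := W ⊓ restSp r g) inf_le_right
      (h.nd_split_member hrF hr hg hWi hWn).2 fun v hv => ⟨hWi v hv.1, restSp_invariant hr v hv.2⟩
    have h1 := finrank_split hr hrF W hWi
    have h2 := Submodule.finrank_mono (inf_le_right : W ⊓ fixSp g ≤ fixSp g)
    have h3 := h.finrank_fix_add_rest hrF hr hg
    have hjle : j ≤ m / c := by rw [Nat.le_div_iff_mul_le hc0, mul_comm]; omega
    have hmul := Nat.mul_le_mul_left c hjle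
    omega
  · rintro ⟨hcm, hmod⟩ g hg hr hne
    obtain ⟨A, hA, hsum, hAle⟩ := blocks_of_rest h hr2 hrF hc hg hr
    set j := min A (m / c) with hj
    have hjA : c * j ≤ c * A := Nat.mul_le_mul_left _ (min_le_left _ _)
    have hjm : c * j ≤ m := (Nat.mul_le_mul_left _ (min_le_right _ _)).trans (Nat.mul_div_le m c)
    have hsize : m - c * j ≤ finrank F (fixSp g) := by
      rcases le_total A (m / c) with hle | hle
      · rw [show j = A from min_eq_left hle]
        omega
      · rw [show j = m / c from min_eq_right hle] at hjA ⊢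
        have := Nat.mul_le_mul_left c hAle
        omega
    obtain ⟨U, hUR, hUn, hUi, hUd⟩ := (h.hasBlocks_rest hrF hr hg hc hr2).exists_sub h hg hc0 j le_rfl
      (h.nd_rest hrF hr hg) (restSp_invariant hr) (by rw [hA]; exact hjA)
    obtain ⟨W, hWC, hWn, hWd⟩ := h.exists_nd_sub (m - c * j) (h.nd_fix hrF hr hg)
      (hpar.sub_mul (par_step hc) hjm) hsize
    have ho : ∀ a ∈ W, ∀ b ∈ U, B a b = 0 := fun a ha b hb => h.fix_orth_rest hrF hr hg a (hWC ha) b (hUR hb)
    refine ⟨W ⊔ U, ⟨by rw [h.finrank_sup_nd hWn ho, hWd, hUd]; omega, h.nd_sup hWn hUn ho⟩, fun v hv => ?_⟩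
    obtain ⟨a, ha, b, hb, rfl⟩ := Submodule.mem_sup.1 hv
    rw [map_add, mem_fixSp.1 (hWC ha)]
    exact Submodule.add_mem_sup ha (hUi b hb)

theorem member_ti_of_parts (h : IsRefl B) (hrF : (r : F) ≠ 0) {g : Module.End F V} (hg : Pres B g) (hr : g ^ r = 1)
    {S : Submodule F V} (hSR : S ≤ restSp r g) (hSi : ∀ v ∈ S, g v ∈ S) (hSt : TI B S) {m : ℕ}
    (hle : finrank F S ≤ m) (hsize : 2 * (m - finrank F S) ≤ finrank F (fixSp g)) :
    ∃ W, Member B false m W ∧ ∀ v ∈ W, g v ∈ W := by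
  obtain ⟨W, hWC, hWt, hWd⟩ := h.exists_ti_sub (m - finrank F S) (h.nd_fix hrF hr hg) hsize
  have ho : ∀ a ∈ W, ∀ b ∈ S, B a b = 0 := fun a ha b hb => h.fix_orth_rest hrF hr hg a (hWC ha) b (hSR hb)
  refine ⟨W ⊔ S, ⟨?_, hWt.sup hSt ho fun a ha b hb => h.eq_zero_symm (ho a ha b hb)⟩, fun v hv => ?_⟩
  · have h1 := Submodule.finrank_sup_add_finrank_inf_eq W S
    rw [le_bot_iff.1 ((inf_le_inf hWC hSR).trans (disjoint_fix_rest hrF).le), finrank_bot, hWd] at h1
    omega
  · obtain ⟨a, ha, b, hb, rfl⟩ := Submodule.mem_sup.1 hv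
    rw [map_add, mem_fixSp.1 (hWC ha)]
    exact Submodule.add_mem_sup ha (hSi b hb)

theorem parts_of_member_ti (h : IsRefl B) (hrF : (r : F) ≠ 0) {g : Module.End F V} (hg : Pres B g) (hr : g ^ r = 1)
    {m : ℕ} {W : Submodule F V} (hW : Member B false m W) (hWi : ∀ v ∈ W, g v ∈ W) :
    ∃ j, finrank F ↥(W ⊓ restSp r g) = ordq * j ∧ ordq * j ≤ m ∧ 2 * (m - ordq * j) ≤ finrank F (fixSp g) ∧
      2 * (ordq * j) ≤ finrank F (restSp r g) := by
  obtain ⟨j, hj⟩ := (killed_rest hrF hr).dvd (U := W ⊓ restSp r g) inf_le_right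
    fun v hv => ⟨hWi v hv.1, restSp_invariant hr v hv.2⟩
  have h1 := finrank_split hr hrF W hWi
  have h2 := h.two_mul_le_of_ti (h.nd_fix hrF hr hg) (inf_le_right : W ⊓ fixSp g ≤ _) (hW.2.mono inf_le_left)
  have h3 := h.two_mul_le_of_ti (h.nd_rest hrF hr hg) (inf_le_right : W ⊓ restSp r g ≤ _) (hW.2.mono inf_le_left)
  have h4 := hW.finrank_eq
  exact ⟨j, hj, by omega, by omega, by omega⟩

/-- The criterion for totally isotropic subspaces, self-dual case. -/
theorem crit_ti_selfDual (h : IsRefl B) (hr2 : r ≠ 2) (hrF : (r : F) ≠ 0) (hsd : SDReg σ r) (hpar : Par σ ordq)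
    {m : ℕ} (hm : 2 * m ≤ finrank F V) (hdvd : r ∣ Nat.card {W : Submodule F V // Member B false m W}) :
    AllFix B r false m ↔ (ordq ≤ m ∧ 2 * (m % ordq) ≤ finrank F V % ordq ∧
      (ClassTheory.cycFactors F r).card + 2 * (m / ordq) ≤ finrank F V / ordq) := by
  obtain ⟨hb0, -, hcard⟩ := ord_facts (F := F) (r := r) hrF
  have hc : Step σ r ordq ordq := Or.inl ⟨hsd, hpar, rfl⟩
  set s := (ClassTheory.cycFactors F r).card
  have hn := Nat.mod_add_div (finrank F V) ordq
  have hk := Nat.mod_lt (finrank F V) hb0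
  have hmd := Nat.mod_add_div m ordq
  have hl := Nat.mod_lt m hb0
  constructor
  · intro hall
    obtain ⟨W₀, -, hW₀, hW₀d⟩ := h.exists_ti_sub m h.nd_top (by rwa [finrank_top])
    have hbm : ordq ≤ m := by simpa using le_of_allFix h hr2 hrF hc (nd := false) ⟨W₀, hW₀d, hW₀⟩ hall hdvd
    have hM1 : 1 ≤ m / ordq := Nat.div_pos hbm hb0
    have hN2 : 2 * (m / ordq) ≤ (finrank F V) / ordq := by
      rw [Nat.le_div_iff_mul_le hb0, mul_assoc]
      exact le_trans (Nat.mul_le_mul_left 2 (Nat.div_mul_le_self m ordq)) hm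
    have key : ∀ A, 1 ≤ A → A ≤ (finrank F V) / ordq → ∃ j ≤ (A + 1 - s) / 2, ordq * j ≤ m ∧ 2 * (m - ordq * j) + ordq * A ≤ (finrank F V) := by
      intro A hA1 hAN
      obtain ⟨g, hg, hr, hA, hbd⟩ := exists_bounded h hr2 hrF hsd hpar (A := A)
        ((Nat.mul_le_mul_left ordq hAN).trans (Nat.mul_div_le (finrank F V) ordq))
      obtain ⟨W, hW, hWi⟩ := hall g hg hr (ne_one_of_blocks hrF hA (Nat.mul_pos hb0 hA1))
      obtain ⟨j, hj, hjm, hsize, -⟩ := parts_of_member_ti h hrF hg hr hW hWi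
      have h1 := hbd _ inf_le_right (fun v hv => ⟨hWi v hv.1, restSp_invariant hr v hv.2⟩) (hW.2.mono inf_le_left)
      rw [hj] at h1
      have h3 := h.finrank_fix_add_rest hrF hr hg
      exact ⟨j, Nat.le_of_mul_le_mul_left h1 hb0, hjm, by omega⟩
    refine ⟨hbm, ?_, ?_⟩
    · obtain ⟨j, -, hjm, hsz⟩ := key ((finrank F V) / ordq) (by omega) le_rfl
      have hjle : j ≤ m / ordq := by rw [Nat.le_div_iff_mul_le hb0, mul_comm]; exact hjm
      have := Nat.mul_le_mul_left ordq hjle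
      omega
    · obtain ⟨j, hjJ, hjm, hsz⟩ := key ((finrank F V) / ordq - 1) (by omega) (Nat.sub_le _ _)
      have hjle : j ≤ m / ordq := by rw [Nat.le_div_iff_mul_le hb0, mul_comm]; exact hjm
      have hjeq : j = m / ordq := by
        rcases eq_or_lt_of_le hjle with he | hlt
        · exact he
        have h1 : ordq * (j + 1) ≤ ordq * (m / ordq) := Nat.mul_le_mul_left _ hlt
        have h2 : ordq * ((finrank F V) / ordq - 1) + ordq = ordq * ((finrank F V) / ordq) := by
          rw [← Nat.mul_succ, Nat.succ_eq_add_one, Nat.sub_add_cancel (by omega)]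
        rw [mul_add, mul_one] at h1
        omega
      omega
  · rintro ⟨hbm, hmod, hs⟩ g hg hr hne
    obtain ⟨A, hA, hsum, hAle⟩ := blocks_of_rest h hr2 hrF hc hg hr
    set j := min ((A + 1 - s) / 2) (m / ordq) with hj
    have hjm : ordq * j ≤ m := (Nat.mul_le_mul_left _ (min_le_right _ _)).trans (Nat.mul_div_le m ordq)
    obtain ⟨S, hSR, hSi, hSt, hSd⟩ := h.exists_ti_rest_selfDual hrF hr hg hr2 hsd hA (j := j) (by omega)
    refine member_ti_of_parts h hrF hg hr hSR hSi hSt (hSd ▸ hjm) ?_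
    rw [hSd]
    rcases le_total (m / ordq) ((A + 1 - s) / 2) with hle | hle
    · rw [show j = m / ordq from min_eq_right hle]
      have := Nat.mul_le_mul_left ordq hAle
      omega
    · rw [show j = (A + 1 - s) / 2 from min_eq_left hle]
      have h1 : ordq * (2 * (m / ordq) + A) ≤ ordq * (2 * ((A + 1 - s) / 2) + (finrank F V) / ordq) := Nat.mul_le_mul_left _ (by omega)
      rw [mul_add, mul_add, mul_left_comm, mul_left_comm ordq 2] at h1
      have := Nat.mul_le_mul_left ordq hle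
      omega

/-- The criterion for totally isotropic subspaces without small blocks. -/
theorem crit_ti_gap (h : IsRefl B) (hr2 : r ≠ 2) (hrF : (r : F) ≠ 0) (hgap : GapReg σ r ordq)
    {m : ℕ} (hm : 2 * m ≤ finrank F V) (hdvd : r ∣ Nat.card {W : Submodule F V // Member B false m W}) :
    AllFix B r false m ↔ (ordq ≤ m ∧ 2 * (m % ordq) ≤ finrank F V % (2 * ordq)) := by
  obtain ⟨hb0, -, -⟩ := ord_facts (F := F) (r := r) hrF
  have hc : Step σ r ordq (2 * ordq) := Or.inr ⟨hgap, rfl⟩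
  have hn := Nat.mod_add_div (finrank F V) (2 * ordq)
  have hk := Nat.mod_lt (finrank F V) (by omega : 0 < 2 * ordq)
  have hmd := Nat.mod_add_div m ordq
  have hl := Nat.mod_lt m hb0
  constructor
  · intro hall
    obtain ⟨W₀, -, hW₀, hW₀d⟩ := h.exists_ti_sub m h.nd_top (by rwa [finrank_top])
    have hbm : ordq ≤ m := by simpa using le_of_allFix h hr2 hrF hc (nd := false) ⟨W₀, hW₀d, hW₀⟩ hall hdvd
    refine ⟨hbm, ?_⟩
    obtain ⟨g, hg, hr, hA⟩ := exists_with_blocks (B := B) h hr2 hrF hc (A := (finrank F V) / (2 * ordq)) (Nat.mul_div_le _ _)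
    have hN1 : 1 ≤ (finrank F V) / (2 * ordq) := Nat.div_pos (by omega) (by omega)
    obtain ⟨W, hW, hWi⟩ := hall g hg hr (ne_one_of_blocks hrF hA (Nat.mul_pos (by omega) hN1))
    obtain ⟨j, -, hjm, hsz, hsz'⟩ := parts_of_member_ti h hrF hg hr hW hWi
    have h3 := h.finrank_fix_add_rest hrF hr hg
    have hjle : j ≤ m / ordq := by rw [Nat.le_div_iff_mul_le hb0, mul_comm]; exact hjm
    have := Nat.mul_le_mul_left ordq hjle
    omega
  · rintro ⟨hbm, hmod⟩ g hg hr hne
    obtain ⟨A, hA, hsum, hAle⟩ := blocks_of_rest h hr2 hrF hc hg hr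
    set j := min A (m / ordq) with hj
    have hjm : ordq * j ≤ m := (Nat.mul_le_mul_left _ (min_le_right _ _)).trans (Nat.mul_div_le m ordq)
    obtain ⟨S, hSR, hSi, hSt, hSd⟩ := h.exists_ti_rest_gap hrF hr hg hgap hA (j := j) (min_le_left _ _)
    refine member_ti_of_parts h hrF hg hr hSR hSi hSt (hSd ▸ hjm) ?_
    rw [hSd]
    rcases le_total A (m / ordq) with hle | hle
    · rw [show j = A from min_eq_left hle] at hjm ⊢
      rw [mul_assoc] at hsum
      omega
    · rw [show j = m / ordq from min_eq_right hle]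
      have := Nat.mul_le_mul_left (2 * ordq) hAle
      omega

end CfsgLib.Geo.Refl
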