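/-
Involutive maps preserving a form up to a sign.
-/
import Cfsg.Agent.Lib.Geo.Refl.Criterion

set_option autoImplicit false
set_option maxHeartbeats 400000
set_option linter.unusedSectionVars false

namespace CfsgLib.Geo.Refl

open Module CfsgLib.Classical CfsgLib.Classical.Herm

universe u

variable {F : Type u} [Field F] [Finite F] {V : Type*} [AddCommGroup V] [Module F V] [FiniteDimensional F V]
variable {σ : F →+* F} {B : V →ₛₗ[σ] V →ₗ[F] F}

/-- The fixed vectors. -/
def plusSp (T : Module.End F V) : Submodule F V := LinearMap.ker (T - 1)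

/-- The negated vectors. -/
def minusSp (T : Module.End F V) : Submodule F V := LinearMap.ker (T + 1)

theorem mem_plusSp {T : Module.End F V} {v : V} : v ∈ plusSp T ↔ T v = v := by
  rw [plusSp, LinearMap.mem_ker, LinearMap.sub_apply, sub_eq_zero]; rfl

theorem mem_minusSp {T : Module.End F V} {v : V} : v ∈ minusSp T ↔ T v = -v := by
  rw [minusSp, LinearMap.mem_ker, LinearMap.add_apply, add_eq_zero_iff_eq_neg]; rfl

variable (h2 : (2 : F) ≠ 0) {T : Module.End F V} (hT : ∀ v, T (T v) = v)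
include h2 hT

theorem isCompl_eigen : IsCompl (plusSp T) (minusSp T) := by
  constructor
  · rw [Submodule.disjoint_def]
    intro v hv hv'
    rw [mem_plusSp] at hv
    rw [mem_minusSp, hv] at hv'
    have h3 : (2 : F) • v = 0 := by rw [two_smul]; exact add_eq_zero_iff_eq_neg.2 hv'
    exact (smul_eq_zero.1 h3).resolve_left h2
  · rw [Submodule.codisjoint_iff_exists_add_eq]
    intro v
    refine ⟨(2 : F)⁻¹ • (v + T v), (2 : F)⁻¹ • (v - T v), ?_, ?_, ?_⟩
    · rw [mem_plusSp, map_smul, map_add, hT, add_comm]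
    · rw [mem_minusSp, map_smul, map_sub, hT, ← smul_neg, neg_sub]
    · rw [← smul_add, show v + T v + (v - T v) = (2 : F) • v by rw [two_smul]; abel, smul_smul,
        inv_mul_cancel₀ h2, one_smul]

theorem finrank_eigen : finrank F (plusSp T) + finrank F (minusSp T) = finrank F V :=
  Submodule.finrank_add_eq_of_isCompl (isCompl_eigen h2 hT)

variable (h : IsRefl B)
include h

theorem eigen_orth (hp : Pres B T) : ∀ a ∈ plusSp T, ∀ b ∈ minusSp T, B a b = 0 := by
  intro a ha b hb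
  have h1 := hp a b
  rw [mem_plusSp.1 ha, mem_minusSp.1 hb, map_neg] at h1
  have h3 : (2 : F) * B a b = 0 := by linear_combination -h1
  exact (mul_eq_zero.1 h3).resolve_left h2

theorem eigen_nd (hp : Pres B T) : ND B (plusSp T) ∧ ND B (minusSp T) :=
  ⟨h.nd_left (W := minusSp T) (by rw [(isCompl_eigen h2 hT).sup_eq_top]; exact h.nd_top) (eigen_orth h2 hT h hp),
    h.nd_right (U := plusSp T) (by rw [(isCompl_eigen h2 hT).sup_eq_top]; exact h.nd_top) (eigen_orth h2 hT h hp)⟩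

/-- A totally isotropic fixed subspace from the two eigenspaces. -/
theorem exists_ti_eigen (hp : Pres B T) {a b : ℕ} (ha : 2 * a ≤ finrank F (plusSp T))
    (hb : 2 * b ≤ finrank F (minusSp T)) : ∃ W, Member B false (a + b) W ∧ ∀ v ∈ W, T v ∈ W := by
  obtain ⟨U, hU, hUt, hUd⟩ := h.exists_ti_sub a (eigen_nd h2 hT h hp).1 ha
  obtain ⟨W, hW, hWt, hWd⟩ := h.exists_ti_sub b (eigen_nd h2 hT h hp).2 hb
  have ho : ∀ x ∈ U, ∀ y ∈ W, B x y = 0 := fun x hx y hy => eigen_orth h2 hT h hp x (hU hx) y (hW hy)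
  refine ⟨U ⊔ W, ⟨?_, hUt.sup hWt ho fun x hx y hy => h.eq_zero_symm (ho x hx y hy)⟩, fun v hv => ?_⟩
  · have h1 := Submodule.finrank_sup_add_finrank_inf_eq U W
    rw [((isCompl_eigen h2 hT).disjoint.mono hU hW).eq_bot, finrank_bot, hUd, hWd, add_zero] at h1
    exact h1
  · obtain ⟨x, hx, y, hy, rfl⟩ := Submodule.mem_sup.1 hv
    rw [map_add, mem_plusSp.1 (hU hx), mem_minusSp.1 (hW hy)]
    exact Submodule.add_mem_sup hx (W.neg_mem hy)

/-- A nondegenerate fixed subspace from the two eigenspaces. -/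
theorem exists_nd_eigen (hp : Pres B T) {a b : ℕ} (ha : a ≤ finrank F (plusSp T))
    (hb : b ≤ finrank F (minusSp T)) (hpa : Par σ a) (hpb : Par σ b) :
    ∃ W, Member B true (a + b) W ∧ ∀ v ∈ W, T v ∈ W := by
  obtain ⟨U, hU, hUn, hUd⟩ := h.exists_nd_sub a (eigen_nd h2 hT h hp).1 hpa ha
  obtain ⟨W, hW, hWn, hWd⟩ := h.exists_nd_sub b (eigen_nd h2 hT h hp).2 hpb hb
  have ho : ∀ x ∈ U, ∀ y ∈ W, B x y = 0 := fun x hx y hy => eigen_orth h2 hT h hp x (hU hx) y (hW hy)
  refine ⟨U ⊔ W, ⟨by rw [h.finrank_sup_nd hUn ho, hUd, hWd], h.nd_sup hUn hWn ho⟩, fun v hv => ?_⟩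
  obtain ⟨x, hx, y, hy, rfl⟩ := Submodule.mem_sup.1 hv
  rw [map_add, mem_plusSp.1 (hU hx), mem_minusSp.1 (hW hy)]
  exact Submodule.add_mem_sup hx (W.neg_mem hy)

theorem anti_eigen (hp : ∀ u v, B (T u) (T v) = -B u v) :
    TI B (plusSp T) ∧ TI B (minusSp T) ∧ 2 * finrank F (plusSp T) = finrank F V ∧
      2 * finrank F (minusSp T) = finrank F V := by
  have hP : TI B (plusSp T) := fun a ha b hb => by
    have h1 := hp a b
    rw [mem_plusSp.1 ha, mem_plusSp.1 hb] at h1
    exact (mul_eq_zero.1 (show (2 : F) * B a b = 0 by linear_combination h1)).resolve_left h2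
  have hN : TI B (minusSp T) := fun a ha b hb => by
    have h1 := hp a b
    rw [mem_minusSp.1 ha, mem_minusSp.1 hb] at h1
    simp only [map_neg, LinearMap.neg_apply, neg_neg] at h1
    exact (mul_eq_zero.1 (show (2 : F) * B a b = 0 by linear_combination h1)).resolve_left h2
  have h1 := h.two_mul_le_of_ti h.nd_top le_top hP
  have h3 := h.two_mul_le_of_ti h.nd_top le_top hN
  rw [finrank_top] at h1 h3
  have h4 := finrank_eigen h2 hT
  exact ⟨hP, hN, by omega, by omega⟩

theorem exists_ti_anti (hp : ∀ u v, B (T u) (T v) = -B u v) {m : ℕ} (hm : 2 * m ≤ finrank F V) :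
    ∃ W, Member B false m W ∧ ∀ v ∈ W, T v ∈ W := by
  obtain ⟨hP, -, hPd, -⟩ := anti_eigen h2 hT h hp
  obtain ⟨W, hW, hWd⟩ := PrimeAct.exists_subspace_dim (plusSp T) (a := m) (by omega)
  exact ⟨W, ⟨hWd, hP.mono hW⟩, fun v hv => by rw [mem_plusSp.1 (hW hv)]; exact hv⟩

theorem exists_nd_anti (hp : ∀ u v, B (T u) (T v) = -B u v) {k : ℕ} (hk : 2 * k ≤ finrank F V) :
    ∃ W, Member B true (2 * k) W ∧ ∀ v ∈ W, T v ∈ W := by
  obtain ⟨hP, hN, hPd, hNd⟩ := anti_eigen h2 hT h hp
  have hc := isCompl_eigen h2 hT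
  obtain ⟨S, hS, hSd⟩ := PrimeAct.exists_subspace_dim (plusSp T) (a := k) (by omega)
  set Q := minusSp T ⊓ orth B S
  have hQd : finrank F Q + k = finrank F (minusSp T) := by
    have hle : plusSp T ≤ orth B S := (ti_iff_le_orth.1 hP).trans (orth_anti hS)
    have hsup : plusSp T ⊔ Q = orth B S := by
      rw [← sup_inf_assoc_of_le _ hle, hc.sup_eq_top, top_inf_eq]
    have h1 := Submodule.finrank_sup_add_finrank_inf_eq (plusSp T) Q
    rw [hsup, (hc.disjoint.mono_right inf_le_left).eq_bot, finrank_bot] at h1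
    have h3 := h.finrank_orth S
    omega
  obtain ⟨C, hC⟩ := Submodule.exists_isCompl Q
  set N' := minusSp T ⊓ C
  have hinf : Q ⊓ N' = ⊥ := le_bot_iff.1 ((inf_le_inf_left _ inf_le_right).trans hC.disjoint.le_bot)
  have hsupN : Q ⊔ N' = minusSp T := by
    rw [show N' = C ⊓ minusSp T from inf_comm _ _, ← sup_inf_assoc_of_le _ (inf_le_left : Q ≤ minusSp T),
      hC.sup_eq_top, top_inf_eq]
  have hN'd : finrank F N' = k := by
    have h1 := Submodule.finrank_sup_add_finrank_inf_eq Q N'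
    rw [hinf, hsupN, finrank_bot] at h1
    omega
  refine ⟨S ⊔ N', ⟨?_, fun x hx hall => ?_⟩, fun v hv => ?_⟩
  · have h1 := Submodule.finrank_sup_add_finrank_inf_eq S N'
    rw [(hc.disjoint.mono hS inf_le_left).eq_bot, finrank_bot, hSd, hN'd] at h1
    omega
  · obtain ⟨a, ha, b, hb, rfl⟩ := Submodule.mem_sup.1 hx
    have hb0 : b = 0 := by
      have h1 : b ∈ Q ⊓ N' := ⟨⟨hb.1, mem_orth.2 fun s hs => h.eq_zero_symm (by
        have h3 := hall s (Submodule.mem_sup_left hs)
        rwa [add_left, hP a (hS ha) s (hS hs), zero_add] at h3)⟩, hb⟩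
      rwa [hinf, Submodule.mem_bot] at h1
    subst hb0
    rw [add_zero] at hall ⊢
    refine h.nondeg a fun z => ?_
    obtain ⟨p, n', hp', hn', rfl⟩ := Submodule.codisjoint_iff_exists_add_eq.1 hc.codisjoint z
    rw [map_add, hP a (hS ha) p hp', zero_add]
    rw [← hsupN] at hn'
    obtain ⟨c, hc', e, he, rfl⟩ := Submodule.mem_sup.1 hn'
    rw [map_add, mem_orth.1 hc'.2 a ha, hall e (Submodule.mem_sup_right he), add_zero]
  · obtain ⟨x, hx, y, hy, rfl⟩ := Submodule.mem_sup.1 hv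
    rw [map_add, mem_plusSp.1 (hS hx), mem_minusSp.1 hy.1]
    exact Submodule.add_mem_sup hx (N'.neg_mem hy)

end CfsgLib.Geo.Refl
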