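/-
The symplectic group as isometries of an alternating form.
-/
import Cfsg.Agent.Lib.Geo.Refl.Criterion
import Cfsg.Agent.Lib.Classical.Symplectic.Matrix

set_option autoImplicit false
set_option maxHeartbeats 400000
set_option linter.unusedSectionVars false

namespace CfsgLib.Geo.Refl

open Module Polynomial Matrix CfsgLib.Classical CfsgLib.Classical.Symp

universe u

variable {F : Type u} [Field F] [Finite F] {d : ℕ} {r : ℕ}

local notation "𝔼" => (Fin d ⊕ Fin d → F)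

theorem symp_isRefl : IsRefl (sympBil d F) :=
  ⟨Or.inl ⟨rfl, sympBil_isAlt d F⟩, (sympBil_nondegenerate d F).1⟩

theorem symp_member_ti_iff (m : ℕ) (W : Submodule F 𝔼) :
    (finrank F W = m ∧ ∀ u ∈ W, ∀ v ∈ W, Cfsg.sympForm d F u v = 0) ↔ Member (sympBil d F) false m W := by
  simp only [Member, TI, sympBil_apply]

theorem nd_iff_exists {G : Type*} [AddCommGroup G] [Module F G] {σ : F →+* F} (B : G →ₛₗ[σ] G →ₗ[F] F)
    (W : Submodule F G) : ND B W ↔ ∀ u ∈ W, u ≠ 0 → ∃ v ∈ W, B u v ≠ 0 := by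
  constructor
  · intro h u hu hu0
    by_contra! hc
    exact hu0 (h u hu hc)
  · intro h u hu hall
    by_contra hu0
    obtain ⟨v, hv, hv'⟩ := h u hu hu0
    exact hv' (hall v hv)

theorem symp_member_nd_iff (m : ℕ) (W : Submodule F 𝔼) :
    (finrank F W = m ∧ ∀ u ∈ W, u ≠ 0 → ∃ v ∈ W, Cfsg.sympForm d F u v ≠ 0) ↔ Member (sympBil d F) true m W := by
  simp only [Member, nd_iff_exists, sympBil_apply]

theorem symp_member_ti_eq (m : ℕ) :
    Nat.card {W : Submodule F 𝔼 // finrank F W = m ∧ ∀ u ∈ W, ∀ v ∈ W, Cfsg.sympForm d F u v = 0} =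
      Nat.card {W : Submodule F 𝔼 // Member (sympBil d F) false m W} :=
  Nat.card_congr (Equiv.subtypeEquivRight (symp_member_ti_iff m))

theorem symp_member_nd_eq (m : ℕ) :
    Nat.card {W : Submodule F 𝔼 // finrank F W = m ∧ ∀ u ∈ W, u ≠ 0 → ∃ v ∈ W, Cfsg.sympForm d F u v ≠ 0} =
      Nat.card {W : Submodule F 𝔼 // Member (sympBil d F) true m W} :=
  Nat.card_congr (Equiv.subtypeEquivRight (symp_member_nd_iff m))

/-- The linear map of a symplectic matrix. -/
noncomputable def sympEnd (x : Matrix.symplecticGroup (Fin d) F) : Module.End F 𝔼 :=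
  Matrix.toLinAlgEquiv' (x : Matrix (Fin d ⊕ Fin d) (Fin d ⊕ Fin d) F)

theorem sympEnd_pres (x : Matrix.symplecticGroup (Fin d) F) : Pres (sympBil d F) (sympEnd x) := fun u v => by
  rw [sympBil_apply, sympBil_apply]
  exact mem_symplecticGroup_iff_form.1 x.2 u v

theorem sympEnd_pow {x : Matrix.symplecticGroup (Fin d) F} {r : ℕ} {z : F}
    (hz : ((x ^ r : Matrix.symplecticGroup (Fin d) F) : Matrix (Fin d ⊕ Fin d) (Fin d ⊕ Fin d) F) =
      z • (1 : Matrix (Fin d ⊕ Fin d) (Fin d ⊕ Fin d) F)) : sympEnd x ^ r = z • (1 : Module.End F 𝔼) := by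
  rw [sympEnd, ← map_pow, ← SubmonoidClass.coe_pow, hz, map_smul, map_one]

theorem sq_of_symp_scalar (hd : 0 < d) {z : F} (h : Pres (sympBil d F) (z • (1 : Module.End F 𝔼))) : z * z = 1 := by
  obtain ⟨w, hw⟩ : ∃ w, sympBil d F (Pi.single (Sum.inl ⟨0, hd⟩) 1) w ≠ 0 := by
    by_contra! hc
    have h0 := congrFun ((sympBil_nondegenerate d F).1 _ hc) (Sum.inl ⟨0, hd⟩)
    rw [Pi.single_eq_same] at h0
    exact one_ne_zero h0
  have h1 := h (Pi.single (Sum.inl ⟨0, hd⟩) 1) w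
  simp only [LinearMap.smul_apply, Module.End.one_apply, map_smul, smul_eq_mul] at h1
  exact mul_right_cancel₀ hw (by rw [one_mul, mul_assoc]; exact h1)

variable [Fact r.Prime]

/-- Elements of odd prime order modulo scalars, as isometries of order `r`. -/
theorem symp_allFix_iff (hd : 0 < d) (hr2 : r ≠ 2 ∨ (2 : F) = 0) {nd : Bool} {m : ℕ} (P : Submodule F 𝔼 → Prop)
    (hP : ∀ W : Submodule F 𝔼, (finrank F W = m ∧ P W) ↔ Member (sympBil d F) nd m W) :
    (∀ x : ↥(Matrix.symplecticGroup (Fin d) F),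
      (∃ z : F, ((x ^ r : ↥(Matrix.symplecticGroup (Fin d) F)) : Matrix (Fin d ⊕ Fin d) (Fin d ⊕ Fin d) F) = z • (1 : Matrix (Fin d ⊕ Fin d) (Fin d ⊕ Fin d) F)) →
      (∀ z : F, (x : Matrix (Fin d ⊕ Fin d) (Fin d ⊕ Fin d) F) ≠ z • (1 : Matrix (Fin d ⊕ Fin d) (Fin d ⊕ Fin d) F)) →
      ∃ W : Submodule F 𝔼, finrank F W = m ∧ P W ∧
        W.map (Matrix.toLin' (x : Matrix (Fin d ⊕ Fin d) (Fin d ⊕ Fin d) F)) ≤ W) ↔
    AllFix (sympBil d F) r nd m := by
  have key : ∀ z : F, z * z = 1 → z ^ (r + 1) = 1 ∧ (z ^ r = 1 → z = 1) := fun z hz2 => by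
    rcases hr2 with hr2 | h2
    · obtain ⟨k, hk⟩ := (Fact.out : r.Prime).odd_of_ne_two hr2
      refine ⟨by rw [hk, show 2 * k + 1 + 1 = 2 * (k + 1) by ring, pow_mul, pow_two, hz2, one_pow], fun hzr => ?_⟩
      rwa [hk, pow_succ, pow_mul, pow_two, hz2, one_pow, one_mul] at hzr
    · have hz1 : (z - 1) * (z - 1) = 0 := by linear_combination hz2 + (1 - z) * h2
      rw [sub_eq_zero.1 (mul_self_eq_zero.1 hz1)]
      exact ⟨one_pow _, fun _ => rfl⟩
  constructor
  · intro h g hg hgr hg1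
    have hmem : LinearMap.toMatrixAlgEquiv' g ∈ Matrix.symplecticGroup (Fin d) F :=
      mem_symplecticGroup_iff_form.2 fun u v => by
        rw [← Matrix.toLinAlgEquiv'_apply, ← Matrix.toLinAlgEquiv'_apply, Matrix.toLinAlgEquiv'_toMatrixAlgEquiv',
          ← sympBil_apply, ← sympBil_apply]
        exact hg u v
    have hx : sympEnd ⟨_, hmem⟩ = g := Matrix.toLinAlgEquiv'_toMatrixAlgEquiv' g
    have hns : ∀ z : F, LinearMap.toMatrixAlgEquiv' g ≠ z • (1 : Matrix (Fin d ⊕ Fin d) (Fin d ⊕ Fin d) F) := by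
      intro z hz
      refine hg1 ?_
      have hgz : g = z • (1 : Module.End F 𝔼) := by
        rw [← hx]
        show Matrix.toLinAlgEquiv' _ = _
        exact (congrArg Matrix.toLinAlgEquiv' hz).trans (by rw [map_smul, map_one])
      have hz2 := sq_of_symp_scalar hd (hgz ▸ hg)
      have hzr : z ^ r = 1 := by
        rw [hgz, _root_.smul_pow, one_pow] at hgr
        have h1 := congrFun (LinearMap.congr_fun hgr (Pi.single (Sum.inl ⟨0, hd⟩) 1)) (Sum.inl ⟨0, hd⟩)
        simpa using h1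
      rw [hgz, (key z hz2).2 hzr, one_smul]
    obtain ⟨W, hWd, hWP, hWi⟩ := h ⟨_, hmem⟩ ⟨1, by
        rw [one_smul, SubmonoidClass.coe_pow]
        show LinearMap.toMatrixAlgEquiv' g ^ r = 1
        rw [← map_pow, hgr, map_one]⟩ hns
    refine ⟨W, (hP W).1 ⟨hWd, hWP⟩, fun v hv => ?_⟩
    rw [← hx]
    exact hWi ⟨v, hv, rfl⟩
  · rintro h x ⟨z, hz⟩ hns
    have hxr := sympEnd_pow hz
    have hz2 : z * z = 1 := sq_of_symp_scalar hd (hxr ▸ (sympEnd_pres x).pow r)
    have hz0 : z ≠ 0 := left_ne_zero_of_mul_eq_one hz2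
    have hpres : Pres (sympBil d F) (z • sympEnd x) := fun u v => by
      rw [LinearMap.smul_apply, LinearMap.smul_apply, map_smul, map_smul, LinearMap.smul_apply, sympEnd_pres,
        smul_smul, hz2, one_smul]
    obtain ⟨W, hW, hWi⟩ := h (z • sympEnd x) hpres (by
        rw [_root_.smul_pow, hxr, smul_smul, ← pow_succ, (key z hz2).1, one_smul]) fun h1 => hns z (by
        have h2 : sympEnd x = z • (1 : Module.End F 𝔼) := by rw [← h1, smul_smul, hz2, one_smul]
        apply Matrix.toLinAlgEquiv'.injective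
        rw [map_smul, map_one]
        exact h2)
    obtain ⟨hWd, hWP⟩ := (hP W).2 hW
    refine ⟨W, hWd, hWP, ?_⟩
    rintro _ ⟨v, hv, rfl⟩
    have h3 := W.smul_mem z (hWi v hv)
    rwa [LinearMap.smul_apply, smul_smul, hz2, one_smul] at h3

theorem expand_pow_card' [Fintype F] (f : F[X]) (k : ℕ) :
    expand F (Fintype.card F ^ k) f = f ^ (Fintype.card F ^ k) := by
  induction k with
  | zero => simp
  | succ k ih => rw [pow_succ', ← expand_expand, ih, map_pow, FiniteField.expand_card, ← pow_mul]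

theorem natCast_card_pow_half {i : ℕ} (hr2 : r ≠ 2) (hi : i = orderOf (Nat.card F : ZMod r)) (hi0 : 0 < i)
    (hev : Even i) : r ∣ Nat.card F ^ (i / 2) + 1 := by
  haveI : Fact (2 < r) := ⟨lt_of_le_of_ne (Fact.out : r.Prime).two_le (Ne.symm hr2)⟩
  obtain ⟨b, rfl⟩ := hev
  have h1 : (Nat.card F : ZMod r) ^ b * (Nat.card F : ZMod r) ^ b = 1 := by
    rw [← pow_add, hi]; exact pow_orderOf_eq_one _
  have h2 := (mul_self_eq_one_iff.1 h1).resolve_left (pow_ne_one_of_lt_orderOf (by omega) (by omega))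
  rw [← ZMod.natCast_eq_zero_iff, show (b + b) / 2 = b by omega]
  push_cast
  rw [h2, neg_add_cancel]

theorem symp_sdReg [Fintype F] (hr2 : r ≠ 2) {i : ℕ} (hi : i = orderOf (Nat.card F : ZMod r)) (hi0 : 0 < i)
    (hev : Even i) : SDReg (RingHom.id F) r :=
  ⟨Nat.card F ^ (i / 2), pow_pos Nat.card_pos _, natCast_card_pow_half hr2 hi hi0 hev, fun f => by
    rw [Polynomial.map_id, Nat.card_eq_fintype_card, expand_pow_card']⟩

end CfsgLib.Geo.Refl
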