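/-
Symplectic matrices with scalar square in odd characteristic.
-/
import Cfsg.Agent.Lib.Geo.Refl.Eigen
import Cfsg.Agent.Lib.Geo.Refl.SympInstance

set_option autoImplicit false
set_option maxHeartbeats 400000
set_option linter.unusedSectionVars false

namespace CfsgLib.Geo.Refl

open Module Polynomial Matrix CfsgLib.Classical CfsgLib.Classical.Symp

universe u

variable {F : Type u} [Field F] [Fintype F] {d : ℕ}

local notation "𝔼" => (Fin d ⊕ Fin d → F)

theorem irreducible_sq_add_one (hns : ¬ IsSquare (-1 : F)) :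
    (X ^ 2 + 1 : F[X]).Monic ∧ (X ^ 2 + 1 : F[X]).natDegree = 2 ∧ Irreducible (X ^ 2 + 1 : F[X]) := by
  have hm : (X ^ 2 + 1 : F[X]).Monic := by monicity!
  have hd : (X ^ 2 + 1 : F[X]).natDegree = 2 := by compute_degree!
  refine ⟨hm, hd, (Polynomial.irreducible_iff_roots_eq_zero_of_degree_le_three (by omega) (by omega)).2 ?_⟩
  refine Multiset.eq_zero_of_forall_notMem fun a ha => hns ⟨a, ?_⟩
  rw [mem_roots hm.ne_zero, IsRoot.def, eval_add, eval_pow, eval_X, eval_one] at ha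
  linear_combination -ha

theorem four_dvd_card_add_one (hns : ¬ IsSquare (-1 : F)) : 4 ∣ Fintype.card F + 1 := by
  rw [FiniteField.isSquare_neg_one_iff] at hns
  push Not at hns
  omega

theorem quarter_sdReg (hns : ¬ IsSquare (-1 : F)) {T : Module.End F 𝔼} (hT : ∀ v, T (T v) = -v) :
    SelfDual (RingHom.id F) T := by
  refine ⟨Fintype.card F, Fintype.card_pos, ?_, fun f => by rw [Polynomial.map_id, FiniteField.expand_card]⟩
  obtain ⟨k, hk⟩ := four_dvd_card_add_one hns
  have h4 : T ^ 4 = 1 := LinearMap.ext fun v => by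
    rw [show (4 : ℕ) = 2 + 2 from rfl, pow_add, pow_two, Module.End.mul_apply, Module.End.mul_apply,
      Module.End.mul_apply, hT, hT, neg_neg]
    rfl
  rw [hk, pow_mul, h4, one_pow]

theorem quarter_killed (hns : ¬ IsSquare (-1 : F)) {T : Module.End F 𝔼} (hT : ∀ v, T (T v) = -v) :
    Killed T ⊤ {(X ^ 2 + 1 : F[X])} 2 := by
  obtain ⟨hm, hd, hi⟩ := irreducible_sq_add_one hns
  have hk : aeval T (X ^ 2 + 1 : F[X]) = 0 := LinearMap.ext fun v => by
    rw [map_add, map_pow, aeval_X, map_one, LinearMap.add_apply, pow_two, Module.End.mul_apply, hT]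
    simp
  refine ⟨two_pos, fun _ _ => trivial, fun f hf => ?_, fun v _ => ?_,
    Module.End.isSemisimple_of_squarefree_aeval_eq_zero hi.squarefree hk⟩
  · rw [Finset.mem_singleton.1 hf]; exact ⟨hm, hi, hd⟩
  · rw [Finset.prod_singleton, hk]; rfl

theorem two_free (h2 : (2 : F) ≠ 0) {T : Module.End F 𝔼} (hT : ∀ v, T (T v) = -v) :
    ∀ v ∈ (⊤ : Submodule F 𝔼), T (T v) = v → v = 0 := fun v _ hv => by
  rw [hT, neg_eq_iff_add_eq_zero, ← two_smul F] at hv
  exact (smul_eq_zero.1 hv).resolve_left h2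

/-- A map squaring to `-1` fixes classes of even dimension. -/
theorem quarter_fix (h2 : (2 : F) ≠ 0) (hns : ¬ IsSquare (-1 : F)) {T : Module.End F 𝔼}
    (hp : Pres (sympBil d F) T) (hT : ∀ v, T (T v) = -v) {k : ℕ} :
    (2 * k ≤ 2 * d → ∃ W, Member (sympBil d F) true (2 * k) W ∧ ∀ v ∈ W, T v ∈ W) ∧
      (4 * k ≤ 2 * d → ∃ W, Member (sympBil d F) false (2 * k) W ∧ ∀ v ∈ W, T v ∈ W) := by
  have h := symp_isRefl (F := F) (d := d)
  have hK := quarter_killed hns hT
  have hsd := quarter_sdReg hns hT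
  constructor
  · intro hk
    obtain ⟨U, -, hUn, hUi, hUd⟩ := (h.hasBlocks_selfDual hp hK hsd fun _ => two_free h2 hT).exists_sub h hp two_pos k
      le_rfl h.nd_top (fun _ _ => trivial) (by rw [finrank_top, finrank_sympSpace]; exact hk)
    exact ⟨U, ⟨hUd, hUn⟩, hUi⟩
  · intro hk
    obtain ⟨S, -, hSi, hSt, hSd⟩ := h.exists_ti_iterate hp (W := ⊤) (b := 2) 2 (fun W' hW'W hW' hi hsize =>
      h.exists_split_selfDual hp hK hsd (two_free h2 hT) hW'W hW' hi (by rw [Finset.card_singleton]; exact hsize))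
      k le_rfl h.nd_top (fun _ _ => trivial) (by
        rcases Nat.eq_zero_or_pos k with h0 | h0
        · exact Or.inl h0
        · exact Or.inr (by rw [finrank_top, finrank_sympSpace]; omega))
    exact ⟨S, ⟨hSd, hSt⟩, hSi⟩

/-- A symplectic map squaring to `-1` without invariant subspaces of odd dimension. -/
theorem exists_quarter (h2 : (2 : F) ≠ 0) (hns : ¬ IsSquare (-1 : F)) :
    ∃ G : Module.End F 𝔼, Pres (sympBil d F) G ∧ (∀ v, G (G v) = -v) := by
  obtain ⟨hm, hd, hi⟩ := irreducible_sq_add_one hns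
  have h := symp_isRefl (F := F) (d := d)
  obtain ⟨k, hk⟩ := four_dvd_card_add_one hns
  have hmodel : HasModel (sympBil d F) (X ^ 2 + 1 : F[X]).natDegree (X ^ 2 + 1) := by
    refine hasModel_selfDual h hm hi Fintype.card_pos ?_ (fun hd2 => ?_)
      fun f => by rw [Polynomial.map_id, FiniteField.expand_card]
    · rw [hk, pow_mul]
      exact (Dvd.intro (X ^ 2 - 1) (by ring) : (X ^ 2 + 1 : F[X]) ∣ X ^ 4 - 1).trans (sub_one_dvd_pow_sub_one _ k)
    · have h3 : (X ^ 2 + 1 : F[X]) ∣ C 2 := by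
        have h4 := dvd_sub (dvd_refl (X ^ 2 + 1 : F[X])) hd2
        rwa [show (X ^ 2 + 1 : F[X]) - (X ^ 2 - 1) = C 2 by rw [Polynomial.C_ofNat]; ring] at h4
      exact hi.not_isUnit (isUnit_of_dvd_unit h3 (isUnit_C.2 (IsUnit.mk0 _ h2)))
  rw [hd] at hmodel
  obtain ⟨G, Y, hG, hY, hYd, -, -, hkill, -⟩ :=
    exists_element h (fun _ => even_two) d (fun _ => (X ^ 2 + 1 : F[X])) (fun _ => hmodel)
      (by rw [finrank_sympSpace])
  have htop : Y = ⊤ := Submodule.eq_top_of_finrank_eq (by rw [hYd, finrank_sympSpace])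
  refine ⟨G, hG, fun v => ?_⟩
  have h1 := mem_polyKer.1 (hkill (X ^ 2 + 1) (fun _ => dvd_rfl) (htop ▸ Submodule.mem_top : v ∈ Y))
  rw [map_add, map_pow, aeval_X, map_one, LinearMap.add_apply, pow_two, Module.End.mul_apply,
    Module.End.one_apply, add_eq_zero_iff_eq_neg] at h1
  exact h1

/-- Matrices with scalar square fix a member, apart from quarter turns and odd dimensions. -/
theorem symp_two (h2 : (2 : F) ≠ 0) (hd : 0 < d) (x : ↥(Matrix.symplecticGroup (Fin d) F)) {z : F}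
    (hz : ((x ^ 2 : ↥(Matrix.symplecticGroup (Fin d) F)) : Matrix (Fin d ⊕ Fin d) (Fin d ⊕ Fin d) F) =
      z • (1 : Matrix (Fin d ⊕ Fin d) (Fin d ⊕ Fin d) F)) {m : ℕ} :
    (Even m → m ≤ 2 * d → ∃ W, Member (sympBil d F) true m W ∧ ∀ v ∈ W, sympEnd x v ∈ W) ∧
      ((Even m ∨ IsSquare (-1 : F)) → m ≤ d → ∃ W, Member (sympBil d F) false m W ∧ ∀ v ∈ W, sympEnd x v ∈ W) := by
  set T := sympEnd x
  have hp : Pres (sympBil d F) T := sympEnd_pres x
  have hxr : T ^ 2 = z • (1 : Module.End F 𝔼) := sympEnd_pow hz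
  have hz2 : z * z = 1 := sq_of_symp_scalar hd (hxr ▸ hp.pow 2)
  have h := symp_isRefl (F := F) (d := d)
  have hTT : ∀ v, T (T v) = z • v := fun v => by
    rw [← Module.End.mul_apply, ← pow_two, hxr]; rfl
  rcases mul_self_eq_one_iff.1 hz2 with hz1 | hz1
  · have hT : ∀ v, T (T v) = v := fun v => by rw [hTT, hz1, one_smul]
    obtain ⟨hP, hN⟩ := eigen_nd h2 hT h hp
    obtain ⟨α, hα⟩ := h.par_nd hP rfl
    obtain ⟨β, hβ⟩ := h.par_nd hN rfl
    have hsum := finrank_eigen h2 hT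
    rw [finrank_sympSpace] at hsum
    constructor
    · rintro ⟨k, rfl⟩ hm
      obtain ⟨W, hW, hWi⟩ := exists_nd_eigen h2 hT h hp (a := 2 * min k α) (b := 2 * (k - min k α))
        (by omega) (by omega) (fun _ => even_two_mul _) (fun _ => even_two_mul _)
      exact ⟨W, by rwa [show k + k = 2 * min k α + 2 * (k - min k α) by omega], hWi⟩
    · intro _ hm
      obtain ⟨W, hW, hWi⟩ := exists_ti_eigen h2 hT h hp (a := min m α) (b := m - min m α) (by omega) (by omega)
      exact ⟨W, by rwa [show min m α + (m - min m α) = m by omega] at hW, hWi⟩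
  · have hT : ∀ v, T (T v) = -v := fun v => by rw [hTT, hz1, neg_one_smul]
    by_cases hsq : IsSquare (-1 : F)
    · obtain ⟨w, hw⟩ := hsq
      have hww : w * w = -1 := hw.symm
      have hT' : ∀ v, (w • T) ((w • T) v) = v := fun v => by
        rw [LinearMap.smul_apply, LinearMap.smul_apply, map_smul, hT, smul_smul, hww, neg_one_smul, neg_neg]
      have hp' : ∀ u v, sympBil d F ((w • T) u) ((w • T) v) = -sympBil d F u v := fun u v => by
        rw [LinearMap.smul_apply, LinearMap.smul_apply, map_smul, map_smul, LinearMap.smul_apply, hp, smul_smul, hww,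
          neg_one_smul]
      have hw0 : w ≠ 0 := by rintro rfl; simp at hww
      have back : ∀ W : Submodule F 𝔼, (∀ v ∈ W, (w • T) v ∈ W) → ∀ v ∈ W, T v ∈ W := fun W hW v hv => by
        have h1 := W.smul_mem w⁻¹ (hW v hv)
        rwa [LinearMap.smul_apply, inv_smul_smul₀ hw0] at h1
      constructor
      · rintro ⟨k, rfl⟩ hm
        obtain ⟨W, hW, hWi⟩ := exists_nd_anti h2 hT' h hp' (k := k) (by rw [finrank_sympSpace]; omega)
        exact ⟨W, by rwa [show k + k = 2 * k by omega], back W hWi⟩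
      · intro _ hm
        obtain ⟨W, hW, hWi⟩ := exists_ti_anti h2 hT' h hp' (m := m) (by rw [finrank_sympSpace]; omega)
        exact ⟨W, hW, back W hWi⟩
    · constructor
      · rintro ⟨k, rfl⟩ hm
        obtain ⟨W, hW, hWi⟩ := (quarter_fix h2 hsq hp hT (k := k)).1 (by omega)
        exact ⟨W, by rwa [show k + k = 2 * k by omega], hWi⟩
      · rintro (⟨k, rfl⟩ | hh) hm
        · obtain ⟨W, hW, hWi⟩ := (quarter_fix h2 hsq hp hT (k := k)).2 (by omega)
          exact ⟨W, by rwa [show k + k = 2 * k by omega], hWi⟩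
        · exact absurd hh hsq

/-- A quarter turn has no invariant subspace of odd dimension. -/
theorem exists_no_odd (h2 : (2 : F) ≠ 0) (hd : 0 < d) (hns : ¬ IsSquare (-1 : F)) :
    ∃ x : ↥(Matrix.symplecticGroup (Fin d) F),
      (∃ z : F, ((x ^ 2 : ↥(Matrix.symplecticGroup (Fin d) F)) : Matrix (Fin d ⊕ Fin d) (Fin d ⊕ Fin d) F) =
        z • (1 : Matrix (Fin d ⊕ Fin d) (Fin d ⊕ Fin d) F)) ∧
      (∀ z : F, (x : Matrix (Fin d ⊕ Fin d) (Fin d ⊕ Fin d) F) ≠ z • (1 : Matrix (Fin d ⊕ Fin d) (Fin d ⊕ Fin d) F)) ∧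
      ∀ W : Submodule F 𝔼, W.map (Matrix.toLin' (x : Matrix (Fin d ⊕ Fin d) (Fin d ⊕ Fin d) F)) ≤ W →
        Even (finrank F W) := by
  obtain ⟨G, hG, hGG⟩ := exists_quarter (F := F) (d := d) h2 hns
  have hmem : LinearMap.toMatrixAlgEquiv' G ∈ Matrix.symplecticGroup (Fin d) F :=
    mem_symplecticGroup_iff_form.2 fun u v => by
      rw [← Matrix.toLinAlgEquiv'_apply, ← Matrix.toLinAlgEquiv'_apply, Matrix.toLinAlgEquiv'_toMatrixAlgEquiv',
        ← sympBil_apply, ← sympBil_apply]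
      exact hG u v
  have hx : Matrix.toLinAlgEquiv' (LinearMap.toMatrixAlgEquiv' G) = G := Matrix.toLinAlgEquiv'_toMatrixAlgEquiv' G
  have hG2 : G ^ 2 = -1 := LinearMap.ext fun v => by rw [pow_two, Module.End.mul_apply, hGG]; rfl
  refine ⟨⟨_, hmem⟩, ⟨-1, ?_⟩, fun z hz => hns ⟨z, ?_⟩, fun W hW => ?_⟩
  · rw [SubmonoidClass.coe_pow]
    show LinearMap.toMatrixAlgEquiv' G ^ 2 = _
    rw [← map_pow, hG2, map_neg, map_one, neg_one_smul]
  · have hGz : G = z • (1 : Module.End F 𝔼) := by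
      rw [← hx]
      exact (congrArg Matrix.toLinAlgEquiv' hz).trans (by rw [map_smul, map_one])
    have h1 := congrFun (hGG (Pi.single (Sum.inl ⟨0, hd⟩) 1)) (Sum.inl ⟨0, hd⟩)
    rw [hGz] at h1
    simp at h1
    exact h1.symm
  · refine even_iff_two_dvd.2 ((quarter_killed hns hGG).dvd le_top fun v hv => ?_)
    rw [← hx]
    exact hW ⟨v, hv, rfl⟩

end CfsgLib.Geo.Refl
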