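/-
Unipotent isometries: orthogonal pieces of one or two Jordan chains.
-/
import Cfsg.Agent.Lib.Geo.Refl.Criterion

set_option autoImplicit false
set_option maxHeartbeats 400000
set_option linter.unusedSectionVars false

namespace CfsgLib.Geo.Refl

open Module CfsgLib.Classical CfsgLib.Classical.Herm

universe u

variable {F : Type u} [Field F] [Finite F] {V : Type*} [AddCommGroup V] [Module F V] [FiniteDimensional F V]
variable {σ : F →+* F} {B : V →ₛₗ[σ] V →ₗ[F] F} {g : Module.End F V}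

/-- The rank of a power of the nilpotent part on a subspace. -/
noncomputable def rk (g : Module.End F V) (W : Submodule F V) (j : ℕ) : ℕ := finrank F (W.map ((g - 1) ^ j))

/-- The ranks of Jordan chains given as (multiplicity, length). -/
def typeRank (μ : Multiset (ℕ × ℕ)) (j : ℕ) : ℕ := (μ.map fun a => a.1 * (a.2 - j)).sum

/-- The total dimension. -/
def typeDim (μ : Multiset (ℕ × ℕ)) : ℕ := (μ.map fun a => a.1 * a.2).sum

theorem typeRank_zero (μ : Multiset (ℕ × ℕ)) : typeRank μ 0 = typeDim μ := by simp [typeRank, typeDim]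

theorem rk_zero (g : Module.End F V) (W : Submodule F V) : rk g W 0 = finrank F W := by
  rw [rk, pow_zero, Module.End.one_eq_id, Submodule.map_id]

theorem nilp_mem {W : Submodule F V} (hW : ∀ v ∈ W, g v ∈ W) (j : ℕ) : ∀ v ∈ W, ((g - 1) ^ j) v ∈ W := by
  induction j with
  | zero => exact fun _ hv => hv
  | succ j ih =>
    intro v hv
    rw [pow_succ', Module.End.mul_apply]
    exact W.sub_mem (hW _ (ih v hv)) (ih v hv)

theorem rk_sup {U W : Submodule F V} (hU : ∀ v ∈ U, g v ∈ U) (hW : ∀ v ∈ W, g v ∈ W) (hd : Disjoint U W) (j : ℕ) :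
    rk g (U ⊔ W) j = rk g U j + rk g W j := by
  have h1 := Submodule.finrank_sup_add_finrank_inf_eq (U.map ((g - 1) ^ j)) (W.map ((g - 1) ^ j))
  have h2 : Disjoint (U.map ((g - 1) ^ j)) (W.map ((g - 1) ^ j)) :=
    hd.mono (Submodule.map_le_iff_le_comap.2 (nilp_mem hU j)) (Submodule.map_le_iff_le_comap.2 (nilp_mem hW j))
  rw [h2.eq_bot, finrank_bot, add_zero] at h1
  rw [rk, rk, rk, Submodule.map_sup, h1]

/-- Powers of the nilpotent part are self-adjoint up to sign on the top layer. -/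
theorem nilp_pairing (hg : Pres B g) {W : Submodule F V} (hW : ∀ v ∈ W, g v ∈ W) {k : ℕ}
    (hk : ∀ v ∈ W, ((g - 1) ^ k) v = 0) :
    (∀ i j, k ≤ i + j → ∀ u ∈ W, ∀ v ∈ W, B (((g - 1) ^ i) u) (((g - 1) ^ j) v) = 0) ∧
      ∀ i j, i + j + 1 = k → ∀ u ∈ W, ∀ v ∈ W,
        B (((g - 1) ^ i) u) (((g - 1) ^ j) v) = (-1) ^ j * B (((g - 1) ^ (i + j)) u) v := by
  set N := g - 1 with hN
  have step : ∀ i j u v, B ((N ^ i) u) ((N ^ (j + 1)) v) =
      -B ((N ^ (i + 1)) u) ((N ^ j) v) - B ((N ^ (i + 1)) u) ((N ^ (j + 1)) v) := fun i j u v => by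
    rw [pow_succ' N j, pow_succ' N i, Module.End.mul_apply, Module.End.mul_apply, hN]
    simp only [LinearMap.sub_apply, Module.End.one_apply, map_sub, hg _ _]
    ring
  have hbig : ∀ i, k ≤ i → ∀ u ∈ W, (N ^ i) u = 0 := fun i hi u hu => by
    obtain ⟨c, rfl⟩ := Nat.exists_eq_add_of_le hi
    rw [pow_add, Module.End.mul_apply]
    exact hk _ (nilp_mem hW c u hu)
  have hzero : ∀ t i j, k ≤ i + t → k ≤ i + j → ∀ u ∈ W, ∀ v ∈ W, B ((N ^ i) u) ((N ^ j) v) = 0 := by
    intro t
    induction t with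
    | zero => intro i j hi _ u hu v _; rw [hbig i (by omega) u hu, map_zero, LinearMap.zero_apply]
    | succ t ih =>
      intro i j hi hij u hu v hv
      rcases j with _ | j
      · rw [hbig i (by omega) u hu, map_zero, LinearMap.zero_apply]
      · rw [step, ih (i + 1) j (by omega) (by omega) u hu v hv, ih (i + 1) (j + 1) (by omega) (by omega) u hu v hv]
        ring
  refine ⟨fun i j hij => hzero k i j (by omega) hij, ?_⟩
  intro i j
  induction j generalizing i with
  | zero => intro _ u _ v _; simp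
  | succ j ih =>
    intro hij u hu v hv
    rw [step, hzero k (i + 1) (j + 1) (by omega) (by omega) u hu v hv, sub_zero, ih (i + 1) (by omega) u hu v hv,
      show i + (j + 1) = i + 1 + j by omega]
    ring

variable (h : IsRefl B) (hg : Pres B g)
include h hg

/-- A piece spanned by chains with a nonsingular top pairing. -/
theorem exists_piece {W : Submodule F V} (hW : ∀ v ∈ W, g v ∈ W) {k l : ℕ} (hk : ∀ v ∈ W, ((g - 1) ^ k) v = 0)
    (w : Fin l → V) (hw : ∀ a, w a ∈ W)
    (hns : ∀ c : Fin l → F, (∀ b, ∑ a, σ (c a) * B (((g - 1) ^ (k - 1)) (w a)) (w b) = 0) → c = 0) :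
    ∃ U ≤ W, ND B U ∧ (∀ v ∈ U, g v ∈ U) ∧ finrank F U = l * k ∧ ∀ j, rk g U j = l * (k - j) := by
  classical
  set N := g - 1 with hN
  obtain ⟨hzero, hsign⟩ := nilp_pairing hg hW hk
  let f : Fin l × Fin k → V := fun x => (N ^ (x.2 : ℕ)) (w x.1)
  have key : ∀ c : Fin l × Fin k → F, (∀ x, B (∑ y, c y • f y) (f x) = 0) → c = 0 := by
    intro c hc
    by_contra hne
    obtain ⟨y, hy⟩ := Function.ne_iff.1 hne
    obtain ⟨y₀, hy₀, hmin⟩ := (Finset.univ.filter fun y => c y ≠ 0).exists_min_image (fun y => (y.2 : ℕ))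
      ⟨y, Finset.mem_filter.2 ⟨Finset.mem_univ _, hy⟩⟩
    have hj : k - 1 - (y₀.2 : ℕ) < k := by have := y₀.2.2; omega
    have h1 : (fun a => c (a, y₀.2)) = 0 := by
      refine hns _ fun b => ?_
      have h2 := hc (b, ⟨_, hj⟩)
      rw [map_sum, LinearMap.sum_apply, Fintype.sum_prod_type] at h2
      have h3 : ∀ a, ∑ j, B (c (a, j) • f (a, j)) (f (b, ⟨_, hj⟩)) =
          σ (c (a, y₀.2)) * ((-1) ^ (k - 1 - (y₀.2 : ℕ)) * B ((N ^ (k - 1)) (w a)) (w b)) := fun a => by
        rw [Finset.sum_eq_single y₀.2 (fun j _ hj' => ?_) (by simp), Herm.smul_left]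
        · congr 1
          show B ((N ^ (y₀.2 : ℕ)) (w a)) ((N ^ (k - 1 - (y₀.2 : ℕ))) (w b)) = _
          have := y₀.2.2
          rw [hsign _ _ (by omega) _ (hw a) _ (hw b), show (y₀.2 : ℕ) + (k - 1 - (y₀.2 : ℕ)) = k - 1 by omega]
        · by_cases hc0 : c (a, j) = 0
          · rw [hc0, zero_smul, map_zero, LinearMap.zero_apply]
          · have hle := hmin (a, j) (Finset.mem_filter.2 ⟨Finset.mem_univ _, hc0⟩)
            have hne' : (j : ℕ) ≠ (y₀.2 : ℕ) := fun e => hj' (Fin.ext e)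
            rw [Herm.smul_left]
            refine mul_eq_zero_of_right _ (hzero _ _ ?_ _ (hw a) _ (hw b))
            simp only at hle ⊢
            omega
      rw [Finset.sum_congr rfl fun a _ => h3 a] at h2
      have h4 : (-1 : F) ^ (k - 1 - (y₀.2 : ℕ)) * ∑ a, σ (c (a, y₀.2)) * B ((N ^ (k - 1)) (w a)) (w b) = 0 := by
        rw [Finset.mul_sum, ← h2]
        exact Finset.sum_congr rfl fun a _ => by ring
      exact (mul_eq_zero.1 h4).resolve_left (pow_ne_zero _ (neg_ne_zero.2 one_ne_zero))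
    exact (Finset.mem_filter.1 hy₀).2 (congrFun h1 y₀.1)
  have hli : LinearIndependent F f := Fintype.linearIndependent_iff.2 fun c hc x =>
    congrFun (key c fun y => by rw [hc, map_zero, LinearMap.zero_apply]) x
  set U := Submodule.span F (Set.range f)
  have hUd : finrank F U = l * k := by
    rw [finrank_span_eq_card hli, Fintype.card_prod, Fintype.card_fin, Fintype.card_fin]
  have hfN : ∀ a j, (N ^ j) (w a) ∈ U := fun a j => by
    rcases Nat.lt_or_ge j k with hj | hj
    · exact Submodule.subset_span ⟨(a, ⟨j, hj⟩), rfl⟩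
    · obtain ⟨c, rfl⟩ := Nat.exists_eq_add_of_le hj
      rw [pow_add, Module.End.mul_apply, hk _ (nilp_mem hW c _ (hw a))]
      exact U.zero_mem
  refine ⟨U, ?_, ?_, ?_, hUd, fun j => ?_⟩
  · rw [Submodule.span_le]
    rintro _ ⟨x, rfl⟩
    exact nilp_mem hW _ _ (hw _)
  · intro x hx hall
    obtain ⟨c, rfl⟩ := (Submodule.mem_span_range_iff_exists_fun F).1 hx
    rw [key c fun y => hall _ (Submodule.subset_span ⟨y, rfl⟩)]
    simp
  · show U ≤ U.comap g
    rw [Submodule.span_le]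
    rintro _ ⟨x, rfl⟩
    show g (f x) ∈ U
    have h1 : g (f x) = (N ^ ((x.2 : ℕ) + 1)) (w x.1) + f x := by
      rw [pow_succ', Module.End.mul_apply]
      show g (f x) = (g - 1) (f x) + f x
      rw [LinearMap.sub_apply, Module.End.one_apply, sub_add_cancel]
    rw [h1]
    exact U.add_mem (hfN _ _) (Submodule.subset_span ⟨x, rfl⟩)
  · let ι : Fin l × Fin (k - j) → Fin l × Fin k := fun x => (x.1, ⟨(x.2 : ℕ) + j, by omega⟩)
    have hι : Function.Injective ι := fun a b hab => by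
      have h1 := congrArg (fun x : Fin l × Fin k => ((x.1 : ℕ), (x.2 : ℕ))) hab
      simp only [ι, Prod.mk.injEq] at h1
      exact Prod.ext (Fin.ext h1.1) (Fin.ext (by omega))
    have heq : U.map (N ^ j) = Submodule.span F (Set.range (f ∘ ι)) := by
      refine le_antisymm ?_ ?_
      · rw [Submodule.map_span, Submodule.span_le]
        rintro _ ⟨_, ⟨x, rfl⟩, rfl⟩
        show (N ^ j) ((N ^ (x.2 : ℕ)) (w x.1)) ∈ _
        rw [← Module.End.mul_apply, ← pow_add]
        rcases Nat.lt_or_ge (j + (x.2 : ℕ)) k with hj | hj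
        · refine Submodule.subset_span ⟨(x.1, ⟨(x.2 : ℕ), by omega⟩), ?_⟩
          show (N ^ ((x.2 : ℕ) + j)) (w x.1) = _
          rw [add_comm]
        · obtain ⟨c, hc⟩ := Nat.exists_eq_add_of_le hj
          rw [hc, pow_add, Module.End.mul_apply, hk _ (nilp_mem hW c _ (hw _))]
          exact Submodule.zero_mem _
      · rw [Submodule.span_le]
        rintro _ ⟨x, rfl⟩
        refine ⟨(N ^ (x.2 : ℕ)) (w x.1), hfN _ _, ?_⟩
        rw [← Module.End.mul_apply, ← pow_add, add_comm]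
        rfl
    rw [rk, heq, finrank_span_eq_card (hli.comp ι hι), Fintype.card_prod, Fintype.card_fin, Fintype.card_fin]

/-- The kinds of pieces. -/
theorem exists_top_piece {W : Submodule F V} (hWn : ND B W) (hW : ∀ v ∈ W, g v ∈ W) {k : ℕ} (hk0 : 1 ≤ k)
    (hk : ∀ v ∈ W, ((g - 1) ^ k) v = 0) (htop : ∃ v ∈ W, ((g - 1) ^ (k - 1)) v ≠ 0) :
    ∃ (l : ℕ) (U : Submodule F V), U ≤ W ∧ ND B U ∧ (∀ v ∈ U, g v ∈ U) ∧ finrank F U = l * k ∧
      (∀ j, rk g U j = l * (k - j)) ∧ (l = 1 ∨ l = 2) ∧ (σ = RingHom.id F → Odd k → l = 2) ∧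
      ((σ ≠ RingHom.id F ∨ (Even k ∧ (2 : F) ≠ 0)) → l = 1) ∧
      (l = 1 → ∃ u ∈ W, B (((g - 1) ^ (k - 1)) u) u ≠ 0) := by
  classical
  obtain ⟨hzero, hsign⟩ := nilp_pairing hg hW hk
  obtain ⟨u, hu, hu0⟩ := htop
  obtain ⟨v, hv, huv⟩ : ∃ v ∈ W, B (((g - 1) ^ (k - 1)) u) v ≠ 0 := by
    by_contra! hc
    exact hu0 (hWn _ (nilp_mem hW _ u hu) hc)
  set ψ : V → V → F := fun a b => B (((g - 1) ^ (k - 1)) a) b with hψ
  obtain ⟨ε, hε, hs⟩ := h.exists_sign
  have hswap : ∀ a ∈ W, ∀ b ∈ W, ψ b a = ε * (-1) ^ (k - 1) * σ (ψ a b) := fun a ha b hb => by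
    have h1 := hsign 0 (k - 1) (by omega) a ha b hb
    rw [pow_zero, Module.End.one_apply, zero_add] at h1
    show B (((g - 1) ^ (k - 1)) b) a = _
    rw [hs a (((g - 1) ^ (k - 1)) b), h1, map_mul, map_pow, map_neg, map_one]
    ring
  have hodd0 : σ = RingHom.id F → Odd k → ∀ a ∈ W, ψ a a = 0 := by
    rintro hid ⟨i, rfl⟩ a ha
    rcases h.kind with ⟨-, hA⟩ | ⟨hσ, -⟩
    · have h1 := hsign i i (by omega) a ha a ha
      rw [hA, ← two_mul] at h1
      rw [hψ]
      simpa using h1.symm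
    · exact absurd hid hσ.ne_id
  by_cases hall : ∀ a ∈ W, ψ a a = 0
  · have hnot : ¬ (σ ≠ RingHom.id F ∨ (Even k ∧ (2 : F) ≠ 0)) := by
      intro hcase
      refine huv ?_
      show ψ u v = 0
      have hadd : ∀ (a : F), σ a * ψ u v + a * ψ v u = 0 := fun a => by
        have h1 := hall (a • u + v) (W.add_mem (W.smul_mem a hu) hv)
        have h2 : ψ (a • u + v) (a • u + v) = σ a * a * ψ u u + σ a * ψ u v + (a * ψ v u + ψ v v) := by
          simp only [hψ, map_add, map_smul, LinearMap.add_apply, smul_left, smul_right]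
          ring
        rw [h2, hall u hu, hall v hv] at h1
        linear_combination h1
      rcases hcase with hid | ⟨hev, h2⟩
      · have h1 := hadd 1
        rw [map_one, one_mul, one_mul] at h1
        by_contra hne
        refine hid (RingHom.ext fun a => ?_)
        have h3 : (σ a - a) * ψ u v = 0 := by linear_combination hadd a - a * h1
        exact sub_eq_zero.1 ((mul_eq_zero.1 h3).resolve_right hne)
      · have h1 := hadd 1
        rw [map_one, one_mul, one_mul] at h1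
        rcases h.kind with ⟨hid, hA⟩ | ⟨hσ, hsym⟩
        · have hε' : ε = -1 := by
            obtain ⟨z, hz⟩ : ∃ z, B (((g - 1) ^ (k - 1)) u) z ≠ 0 := ⟨v, huv⟩
            have h4 := hA (((g - 1) ^ (k - 1)) u + z)
            simp only [map_add, LinearMap.add_apply, hA, zero_add, add_zero] at h4
            have h5 := hs (((g - 1) ^ (k - 1)) u) z
            have h5' : B z (((g - 1) ^ (k - 1)) u) = ε * B (((g - 1) ^ (k - 1)) u) z := by
              rw [h5]; congr 1; exact RingHom.congr_fun hid _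
            clear h5; have h5 := h5'
            rw [h5] at h4
            exact eq_neg_of_add_eq_zero_left ((mul_eq_zero.1
              (show (ε + 1) * B (((g - 1) ^ (k - 1)) u) z = 0 by linear_combination h4)).resolve_right hz)
          have hodd : Odd (k - 1) := Nat.Even.sub_odd hk0 hev odd_one
          have h4 := hswap u hu v hv
          rw [show σ (ψ u v) = ψ u v from RingHom.congr_fun hid _, hε', hodd.neg_one_pow] at h4
          rw [h4] at h1
          exact (mul_eq_zero.1 (show (2 : F) * ψ u v = 0 by linear_combination h1)).resolve_left h2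
        · have h6 : ∀ a : F, (σ a - a) * ψ u v = 0 := fun a => by linear_combination hadd a - a * h1
          obtain ⟨a, ha⟩ := hσ.exists_ne
          exact (mul_eq_zero.1 (h6 a)).resolve_left (sub_ne_zero.2 ha)
    have hvu : ψ v u ≠ 0 := by
      rw [hswap u hu v hv]
      refine mul_ne_zero (mul_ne_zero (fun h0 => ?_) (pow_ne_zero _ (neg_ne_zero.2 one_ne_zero))) fun h0 => huv ?_
      · rw [h0, zero_mul] at hε; exact zero_ne_one hε
      · exact (map_eq_zero σ).1 h0
    obtain ⟨U, hUW, hUn, hUi, hUd, hUr⟩ := exists_piece h hg hW hk ![u, v]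
      (fun a => by fin_cases a <;> assumption) fun c hc => by
        have h1 := hc 0
        have h2 := hc 1
        simp only [Fin.sum_univ_two, Matrix.cons_val_zero, Matrix.cons_val_one] at h1 h2
        have e1 : ψ u u = 0 := hall u hu
        have e2 : ψ v v = 0 := hall v hv
        simp only [hψ] at e1 e2 hvu
        rw [e1, mul_zero, zero_add, mul_eq_zero, map_eq_zero] at h1
        rw [e2, mul_zero, add_zero, mul_eq_zero, map_eq_zero] at h2
        funext a
        fin_cases a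
        · exact h2.resolve_right huv
        · exact h1.resolve_right hvu
    exact ⟨2, U, hUW, hUn, hUi, hUd, hUr, Or.inr rfl, fun _ _ => rfl, fun hc => absurd hc hnot,
      fun h12 => absurd h12 (by norm_num)⟩
  · push Not at hall
    obtain ⟨a, ha, haa⟩ := hall
    obtain ⟨U, hUW, hUn, hUi, hUd, hUr⟩ := exists_piece h hg hW hk ![a] (fun x => by fin_cases x; exact ha)
      fun c hc => by
        have h1 := hc 0
        simp only [Fin.sum_univ_one, Matrix.cons_val_zero, mul_eq_zero, map_eq_zero] at h1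
        funext x
        fin_cases x
        exact h1.resolve_right haa
    exact ⟨1, U, hUW, hUn, hUi, hUd, hUr, Or.inl rfl, fun hid ho => absurd (hodd0 hid ho a ha) haa, fun _ => rfl,
      fun _ => ⟨a, ha, haa⟩⟩

/-- The decomposition into pieces, with invariant subspaces for every selection. -/
theorem exists_type {p : ℕ} (n : ℕ) : ∀ {W : Submodule F V}, finrank F W = n → ND B W → (∀ v ∈ W, g v ∈ W) →
    (∀ v ∈ W, ((g - 1) ^ p) v = 0) →
    ∃ μ : Multiset (ℕ × ℕ), typeDim μ = n ∧ (∀ j, rk g W j = typeRank μ j) ∧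
      (∀ a ∈ μ, (a.1 = 1 ∨ a.1 = 2) ∧ 1 ≤ a.2 ∧ a.2 ≤ p ∧ (σ = RingHom.id F → Odd a.2 → a.1 = 2) ∧
        ((σ ≠ RingHom.id F ∨ (Even a.2 ∧ (2 : F) ≠ 0)) → a.1 = 1) ∧
        (a.1 = 1 → ∃ u ∈ W, B (((g - 1) ^ (a.2 - 1)) u) u ≠ 0)) ∧
      ∀ ν ≤ μ, ∃ U ≤ W, ND B U ∧ (∀ v ∈ U, g v ∈ U) ∧ finrank F U = typeDim ν := by
  induction n using Nat.strong_induction_on with
  | h n ih =>
    intro W hWd hWn hWi hp
    classical
    rcases Nat.eq_zero_or_pos n with rfl | hn
    · obtain rfl := Submodule.finrank_eq_zero.1 hWd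
      refine ⟨0, by simp [typeDim], fun j => ?_, by simp, fun ν hν => ?_⟩
      · simp [rk, typeRank]
      · rw [Multiset.le_zero.1 hν]
        exact ⟨⊥, le_rfl, hWn, hWi, by simp [typeDim]⟩
    have hex : ∃ k : ℕ, ∀ v ∈ W, ((g - 1) ^ k) v = 0 := ⟨p, hp⟩
    set k := Nat.find hex with hkdef
    have hk : ∀ v ∈ W, ((g - 1) ^ k) v = 0 := Nat.find_spec hex
    have hkp : k ≤ p := Nat.find_min' hex hp
    have hk0 : 1 ≤ k := by
      by_contra h0
      obtain ⟨x, hx, hx0⟩ := W.exists_mem_ne_zero_of_ne_bot fun hb => by rw [hb, finrank_bot] at hWd; omega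
      exact hx0 (by simpa [show k = 0 by omega] using hk x hx)
    have htop : ∃ v ∈ W, ((g - 1) ^ (k - 1)) v ≠ 0 := by
      have h1 := Nat.find_min hex (show k - 1 < k by omega)
      push Not at h1
      exact h1
    obtain ⟨l, U, hUW, hUn, hUi, hUd, hUr, hl, hl1, hl2, hl3⟩ := exists_top_piece h hg hWn hWi hk0 hk htop
    obtain ⟨hW', hsup, hdim⟩ := h.nd_inf_orth hUn hWn hUW
    have hlk : 0 < l * k := Nat.mul_pos (by omega) hk0
    have hW'i : ∀ v ∈ W ⊓ orth B U, g v ∈ W ⊓ orth B U := fun v hv =>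
      ⟨hWi v hv.1, h.orth_invariant hg hUi v hv.2⟩
    obtain ⟨μ, hμd, hμr, hμp, hμs⟩ := ih (finrank F ↥(W ⊓ orth B U)) (by omega) rfl hW' hW'i fun v hv => hp v hv.1
    have ho : ∀ a ∈ U, ∀ b ∈ W ⊓ orth B U, B a b = 0 := fun a ha b hb => mem_orth.1 hb.2 a ha
    refine ⟨(l, k) ::ₘ μ, ?_, fun j => ?_, fun a ha => ?_, fun ν hν => ?_⟩
    · simp only [typeDim, Multiset.map_cons, Multiset.sum_cons] at hμd ⊢
      omega
    · simp only [typeRank, Multiset.map_cons, Multiset.sum_cons] at hμr ⊢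
      rw [← hUr, ← hμr, ← rk_sup hUi hW'i (h.nd_disjoint hUn ho), hsup]
    · rcases Multiset.mem_cons.1 ha with rfl | ha
      · exact ⟨hl, hk0, hkp, hl1, hl2, hl3⟩
      · obtain ⟨a1, a2, a3, a4, a5, a6⟩ := hμp a ha
        exact ⟨a1, a2, a3, a4, a5, fun e => let ⟨x, hx, hx'⟩ := a6 e; ⟨x, hx.1, hx'⟩⟩
    · by_cases hmem : (l, k) ∈ ν
      · obtain ⟨X, hXW, hXn, hXi, hXd⟩ := hμs (ν.erase (l, k)) (Multiset.erase_le_iff_le_cons.2 hν)
        have ho' : ∀ a ∈ U, ∀ b ∈ X, B a b = 0 := fun a ha b hb => ho a ha b (hXW hb)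
        refine ⟨U ⊔ X, sup_le hUW (hXW.trans inf_le_left), h.nd_sup hUn hXn ho', fun v hv => ?_, ?_⟩
        · obtain ⟨a, ha, b, hb, rfl⟩ := Submodule.mem_sup.1 hv
          rw [map_add]
          exact Submodule.add_mem_sup (hUi a ha) (hXi b hb)
        · rw [h.finrank_sup_nd hUn ho', hUd, hXd]
          conv_rhs => rw [← Multiset.cons_erase hmem]
          simp [typeDim]
      · obtain ⟨X, hXW, hX⟩ := hμs ν ((Multiset.le_cons_of_notMem hmem).1 hν)
        exact ⟨X, hXW.trans inf_le_left, hX⟩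

end CfsgLib.Geo.Refl
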