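/-
Types of unipotent isometries: uniqueness, selections and existence.
-/
import Cfsg.Agent.Lib.Geo.Refl.Unipotent

set_option autoImplicit false
set_option maxHeartbeats 400000
set_option linter.unusedSectionVars false

namespace CfsgLib.Geo.Refl

open Module Polynomial CfsgLib.Classical CfsgLib.Classical.Herm

universe u

/-- The chain lengths with multiplicity. -/
def expandType (μ : Multiset (ℕ × ℕ)) : Multiset ℕ := μ.bind fun a => Multiset.replicate a.1 a.2

theorem expandType_cons (a : ℕ × ℕ) (μ : Multiset (ℕ × ℕ)) :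
    expandType (a ::ₘ μ) = Multiset.replicate a.1 a.2 + expandType μ := by
  rw [expandType, expandType, Multiset.cons_bind]

theorem expandType_sum (μ : Multiset (ℕ × ℕ)) : (expandType μ).sum = typeDim μ := by
  induction μ using Multiset.induction_on with
  | empty => simp [expandType, typeDim]
  | cons a μ ih =>
    rw [expandType_cons, Multiset.sum_add, ih]
    simp [typeDim]

theorem typeRank_expand (μ : Multiset (ℕ × ℕ)) (j : ℕ) :
    typeRank μ j = ((expandType μ).map fun a => a - j).sum := by
  induction μ using Multiset.induction_on with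
  | empty => simp [expandType, typeRank]
  | cons a μ ih =>
    rw [expandType_cons, Multiset.map_add, Multiset.sum_add, ← ih]
    simp [typeRank]

theorem count_of_ranks (s : Multiset ℕ) {a : ℕ} (ha : 1 ≤ a) :
    (s.map fun x => x - (a - 1)).sum + (s.map fun x => x - (a + 1)).sum =
      2 * (s.map fun x => x - a).sum + s.count a := by
  induction s using Multiset.induction_on with
  | empty => simp
  | cons x s ih =>
    simp only [Multiset.map_cons, Multiset.sum_cons, Multiset.count_cons]
    split_ifs with hx <;> omega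

theorem eq_of_ranks {s t : Multiset ℕ} (hs : 0 ∉ s) (ht : 0 ∉ t)
    (h : ∀ j, (s.map fun x => x - j).sum = (t.map fun x => x - j).sum) : s = t := by
  refine Multiset.ext.2 fun a => ?_
  rcases Nat.eq_zero_or_pos a with rfl | ha
  · rw [Multiset.count_eq_zero.2 hs, Multiset.count_eq_zero.2 ht]
  · have h1 := count_of_ranks s ha
    have h2 := count_of_ranks t ha
    rw [h, h, h] at h1
    omega

/-- Selections of chains realised by pieces. -/
theorem exists_selection (μ : Multiset (ℕ × ℕ)) (P : ℕ → Prop) (hl : ∀ a ∈ μ, a.1 = 1 ∨ a.1 = 2)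
    (h1 : ∀ a ∈ μ, a.1 = 1 → ¬ P a.2) (h2 : ∀ a ∈ μ, a.1 = 2 → P a.2) :
    ∀ ν ≤ expandType μ, (∀ a, P a → Even (ν.count a)) → ∃ ν' ≤ μ, typeDim ν' = ν.sum := by
  classical
  induction μ using Multiset.induction_on with
  | empty =>
    intro ν hν _
    rw [show ν = 0 from Multiset.le_zero.1 (by simpa [expandType] using hν)]
    exact ⟨0, le_rfl, by simp [typeDim]⟩
  | cons c μ ih =>
    intro ν hν hev
    rw [expandType_cons] at hν
    have ih' := ih (fun a ha => hl a (Multiset.mem_cons_of_mem ha)) (fun a ha => h1 a (Multiset.mem_cons_of_mem ha))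
      (fun a ha => h2 a (Multiset.mem_cons_of_mem ha))
    by_cases hle : Multiset.replicate c.1 c.2 ≤ ν
    · obtain ⟨ν', hν', hd⟩ := ih' (ν - Multiset.replicate c.1 c.2) (by
          rw [Multiset.sub_le_iff_le_add, add_comm]; exact hν) fun a ha => by
        rw [Multiset.count_sub, Multiset.count_replicate]
        split_ifs with he
        · subst he
          rcases hl c (Multiset.mem_cons_self c μ) with e | e
          · exact absurd ha (h1 c (Multiset.mem_cons_self c μ) e)
          · have hc := Multiset.count_le_of_le c.2 hle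
            rw [Multiset.count_replicate_self, e] at hc
            rw [e, Nat.even_sub hc]
            exact iff_of_true (hev _ ha) even_two
        · simpa using hev a ha
      refine ⟨c ::ₘ ν', Multiset.cons_le_cons c hν', ?_⟩
      have h3 := congrArg Multiset.sum (Multiset.sub_add_cancel hle)
      simp only [Multiset.sum_add, Multiset.sum_replicate, smul_eq_mul] at h3
      simp only [typeDim, Multiset.map_cons, Multiset.sum_cons] at hd ⊢
      omega
    · have hle' : ν ≤ expandType μ := by
        refine Multiset.le_iff_count.2 fun a => ?_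
        have hca := Multiset.count_le_of_le a hν
        rw [Multiset.count_add, Multiset.count_replicate] at hca
        split_ifs at hca with he
        · have hlt : ν.count a < c.1 := by
            by_contra hge
            exact hle (Multiset.le_iff_count.2 fun b => by
              rw [Multiset.count_replicate]
              split_ifs with hb
              · rw [← hb, he]; omega
              · exact Nat.zero_le _)
          have h0 : ν.count a = 0 := by
            rcases hl c (Multiset.mem_cons_self c μ) with e | e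
            · omega
            · obtain ⟨t, ht⟩ := hev a (he ▸ h2 c (Multiset.mem_cons_self c μ) e)
              omega
          omega
        · omega
      obtain ⟨ν', hν', hd⟩ := ih' ν hle' hev
      exact ⟨ν', hν'.trans (Multiset.le_cons_self μ c), hd⟩

variable {F : Type u} [Field F] [Finite F] {V : Type*} [AddCommGroup V] [Module F V] [FiniteDimensional F V]
variable {σ : F →+* F} {B : V →ₛₗ[σ] V →ₗ[F] F}

/-- Nondegenerate spaces of dimension `l * k` have isometries with `l` chains of length `k`. -/
def HasPiece (B : V →ₛₗ[σ] V →ₗ[F] F) (l k : ℕ) (flat : Prop) : Prop :=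
  ∀ U : Submodule F V, ND B U → finrank F U = l * k →
    ∃ e : U ≃ₗ[F] U, (∀ u v : U, B (e u : V) (e v) = B (u : V) v) ∧
      (∀ G : Module.End F V, (∀ u : U, G u = (e u : V)) →
        (∀ v ∈ U, ((G - 1) ^ k) v = 0) ∧ (∀ j, rk G U j = l * (k - j)) ∧ (flat → ∀ v ∈ U, B ((G - 1) v) v = 0))

/-- Gluing pieces. -/
theorem exists_of_type (h : IsRefl B) {p : ℕ} (flat : Prop) (μ : Multiset (ℕ × ℕ))
    (hpiece : ∀ a ∈ μ, a.2 ≤ p ∧ Par σ (a.1 * a.2) ∧ HasPiece B a.1 a.2 flat) :
    typeDim μ ≤ finrank F V →
    ∃ (G : Module.End F V) (Y : Submodule F V), Pres B G ∧ ND B Y ∧ finrank F Y = typeDim μ ∧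
      (∀ v ∈ Y, G v ∈ Y) ∧ (∀ v ∈ orth B Y, G v = v) ∧ (∀ v ∈ Y, ((G - 1) ^ p) v = 0) ∧
      (∀ j, rk G Y j = typeRank μ j) ∧ (flat → ∀ v ∈ Y, B ((G - 1) v) v = 0) := by
  induction μ using Multiset.induction_on with
  | empty =>
    intro _
    refine ⟨1, ⊥, fun u v => rfl, nd_bot, by simp [typeDim], fun v hv => hv, fun v _ => rfl,
      fun v hv => by rw [(Submodule.mem_bot F).1 hv, map_zero], fun j => by simp [rk, typeRank],
      fun _ v hv => by rw [(Submodule.mem_bot F).1 hv, map_zero]⟩
  | cons a μ ih =>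
    intro hle
    have hd : typeDim (a ::ₘ μ) = a.1 * a.2 + typeDim μ := by simp [typeDim]
    rw [hd] at hle
    obtain ⟨G, Y, hG, hY, hYd, hYi, hfix, hnil, hrank, hflat⟩ :=
      ih (fun b hb => hpiece b (Multiset.mem_cons_of_mem hb)) (by omega)
    obtain ⟨hap, hpar, hP⟩ := hpiece a (Multiset.mem_cons_self a μ)
    have h0 := h.finrank_orth Y
    obtain ⟨U, hUY, hU, hUd⟩ := h.exists_nd_sub (a.1 * a.2) (h.nd_orth hY) hpar (by omega)
    obtain ⟨e, he, hprop⟩ := hP U hU hUd
    obtain ⟨g', hg', hg'U, hg'o⟩ := h.exists_glue hU hU e he (LinearEquiv.refl F _) fun u v => rfl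
    set G' : Module.End F V := (g' : V →ₗ[F] V) * G with hG'
    have horth : ∀ x ∈ U, ∀ y ∈ Y, B x y = 0 := fun x hx y hy => h.eq_zero_symm (mem_orth.1 (hUY hx) y hy)
    have hYo : Y ≤ orth B U := fun y hy => mem_orth.2 fun w hw => horth w hw y hy
    have hGY : ∀ v ∈ Y, G' v = G v := fun v hv => hg'o ⟨G v, hYo (hYi v hv)⟩
    have hGU : ∀ u : U, G' u = (e u : V) := fun u => by
      rw [hG', Module.End.mul_apply, hfix u (hUY u.2)]; exact hg'U u
    obtain ⟨hUnil, hUrk, hUflat⟩ := hprop G' hGU
    have hinvY : ∀ v ∈ Y, G' v ∈ Y := fun v hv => hGY v hv ▸ hYi v hv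
    have hinvU : ∀ v ∈ U, G' v ∈ U := fun v hv => hGU ⟨v, hv⟩ ▸ (e _).2
    have hN : ∀ j : ℕ, ∀ v ∈ Y, ((G' - 1) ^ j) v = ((G - 1) ^ j) v := fun j => by
      induction j with
      | zero => intro v _; rfl
      | succ j ih =>
        intro v hv
        rw [pow_succ', pow_succ', Module.End.mul_apply, Module.End.mul_apply, ih v hv, LinearMap.sub_apply,
          LinearMap.sub_apply, hGY _ (nilp_mem hYi j v hv)]
    have hrY : ∀ j, rk G' Y j = rk G Y j := fun j => by
      have heq : Y.map ((G' - 1) ^ j) = Y.map ((G - 1) ^ j) := by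
        ext z
        simp only [Submodule.mem_map]
        exact ⟨fun ⟨y, hy, e⟩ => ⟨y, hy, (hN j y hy) ▸ e⟩, fun ⟨y, hy, e⟩ => ⟨y, hy, (hN j y hy).symm ▸ e⟩⟩
      rw [rk, rk, heq]
    refine ⟨G', U ⊔ Y, fun u v => ?_, h.nd_sup hU hY horth, ?_, ?_, ?_, ?_, fun j => ?_, fun hf v hv => ?_⟩
    · rw [hG', Module.End.mul_apply, Module.End.mul_apply]
      exact (hg' _ _).trans (hG u v)
    · rw [h.finrank_sup_nd hU horth, hUd, hYd, hd]
    · intro v hv
      obtain ⟨x, hx, y, hy, rfl⟩ := Submodule.mem_sup.1 hv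
      rw [map_add]
      exact Submodule.add_mem_sup (hinvU x hx) (hinvY y hy)
    · intro v hv
      rw [hG', Module.End.mul_apply, hfix v (orth_anti le_sup_right hv)]
      exact hg'o ⟨v, orth_anti le_sup_left hv⟩
    · intro v hv
      obtain ⟨x, hx, y, hy, rfl⟩ := Submodule.mem_sup.1 hv
      obtain ⟨c, hc⟩ := Nat.exists_eq_add_of_le hap
      rw [map_add, hN p y hy, hnil y hy, add_zero, hc, pow_add, Module.End.mul_apply,
        hUnil _ (nilp_mem hinvU c x hx)]
    · rw [rk_sup hinvU hinvY (h.nd_disjoint hU horth), hUrk, hrY, hrank]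
      simp [typeRank]
    · obtain ⟨x, hx, y, hy, rfl⟩ := Submodule.mem_sup.1 hv
      have hNx : (G' - 1) x ∈ U := U.sub_mem (hinvU x hx) hx
      have hNy : (G' - 1) y ∈ Y := Y.sub_mem (hinvY y hy) hy
      have e1 : B ((G' - 1) y) y = 0 := by
        have h2 := hN 1 y hy
        rw [pow_one, pow_one] at h2
        rw [h2]; exact hflat hf y hy
      rw [map_add (G' - 1), add_left, map_add, map_add, hUflat hf x hx, e1, horth _ hNx y hy,
        h.eq_zero_symm (horth x hx _ hNy)]
      simp

end CfsgLib.Geo.Refl
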