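/-
When all unipotent isometries of small nilpotency fix a nondegenerate subspace of given dimension.
-/
import Cfsg.Agent.Lib.Geo.Refl.UnipotentTypes
import Cfsg.Agent.Lib.Geo.Refl.PairModel

set_option autoImplicit false
set_option maxHeartbeats 400000
set_option linter.unusedSectionVars false

namespace CfsgLib.Geo.Refl

open Module Polynomial Matrix CfsgLib.Classical CfsgLib.Classical.Herm

universe u

variable {F : Type u} [Field F] [Finite F] {V : Type*} [AddCommGroup V] [Module F V] [FiniteDimensional F V]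
variable {σ : F →+* F} {B : V →ₛₗ[σ] V →ₗ[F] F} {p : ℕ}

/-- The chain lengths which occur with even multiplicity. -/
def Paired (σ : F →+* F) (a : ℕ) : Prop := σ = RingHom.id F ∧ Odd a

/-- Every partition of `n` has a part summing to `m`. -/
def PartCrit (σ : F →+* F) (p n m : ℕ) : Prop :=
  ∀ μ : Multiset ℕ, (∀ a ∈ μ, 0 < a ∧ a ≤ p) → (∀ a, Paired σ a → Even (μ.count a)) → μ.sum = n →
    ∃ ν : Multiset ℕ, ν ≤ μ ∧ ν.sum = m ∧ ∀ a, Paired σ a → Even (ν.count a)

/-- All unipotent isometries fix a nondegenerate `m`-space. -/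
def UnipFix (B : V →ₛₗ[σ] V →ₗ[F] F) (p m : ℕ) : Prop :=
  ∀ g : Module.End F V, Pres B g → (g - 1) ^ p = 0 → ∃ W, Member B true m W ∧ ∀ v ∈ W, g v ∈ W

theorem rk_eq_range (g : Module.End F V) (U : Submodule F V) (j : ℕ) :
    rk g U j = finrank F (LinearMap.range (((g - 1) ^ j).comp U.subtype)) := by
  rw [rk, LinearMap.range_comp, Submodule.range_subtype]

theorem exists_jordan (k : ℕ) (hk : 1 ≤ k) :
    ∃ N : Matrix (Fin k) (Fin k) F, N ^ k = 0 ∧ N ^ (k - 1) ≠ 0 := by
  have hm : (X ^ k : F[X]).Monic := monic_X_pow k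
  let b := ((AdjoinRoot.powerBasis hm.ne_zero).basis).reindex
    (finCongr (show (AdjoinRoot.powerBasis hm.ne_zero).dim = k by simp))
  refine ⟨Algebra.leftMulMatrix b (AdjoinRoot.root _), ?_, ?_⟩
  · rw [← map_pow, ← AdjoinRoot.mk_X, ← map_pow, AdjoinRoot.mk_self, map_zero]
  · rw [← map_pow, Ne, map_eq_zero_iff _ (Algebra.leftMulMatrix_injective b), ← AdjoinRoot.mk_X, ← map_pow,
      AdjoinRoot.mk_eq_zero]
    intro hd
    have h1 := natDegree_le_of_dvd hd (pow_ne_zero _ X_ne_zero)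
    rw [natDegree_X_pow, natDegree_X_pow] at h1
    omega

theorem pairMap_sub_one_pow {ι : Type*} [Fintype ι] [DecidableEq ι] (H : Matrix ι ι F) (j : ℕ)
    (u : (ι → F) × (ι → F)) :
    ((pairMap σ H - 1) ^ j) u = (((H - 1) ^ j) *ᵥ u.1, (((((H.map σ)ᵀ)⁻¹) - 1) ^ j) *ᵥ u.2) := by
  induction j with
  | zero => simp
  | succ j ih =>
    rw [pow_succ', Module.End.mul_apply, ih, LinearMap.sub_apply, pairMap_apply, Module.End.one_apply, pow_succ',
      pow_succ', ← Matrix.mulVec_mulVec, ← Matrix.mulVec_mulVec, Matrix.sub_mulVec (H) 1,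
      Matrix.sub_mulVec (((H.map σ)ᵀ)⁻¹) 1, Matrix.one_mulVec, Matrix.one_mulVec]
    rfl

/-- Models of pieces: a single chain or a pair. -/
theorem hasPiece_model (h : IsRefl B) {k : ℕ} (hk : 1 ≤ k) :
    ∃ l, (l = 1 ∨ l = 2) ∧ (σ = RingHom.id F → Odd k → l = 2) ∧
      ((σ ≠ RingHom.id F ∨ (Even k ∧ (2 : F) ≠ 0)) → l = 1) ∧ HasPiece B l k False ∧
      (σ = RingHom.id F → k = 2 → (2 : F) = 0 → l = 2 ∧ HasPiece B 2 2 True) := by
  classical
  obtain ⟨N, hN, hN'⟩ := exists_jordan (F := F) k hk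
  set H := 1 + N with hHdef
  have hHsub : H - 1 = N := by rw [hHdef]; abel
  have hH : IsUnit H.det := (Matrix.isUnit_iff_isUnit_det _).1 (IsNilpotent.isUnit_one_add ⟨k, hN⟩)
  obtain ⟨ε, hε, hkind⟩ := exists_pairSign h
  have h' := pairForm_isRefl (ι := Fin k) ε hε hkind
  set g := pairMap σ H
  set B' := pairForm σ ε (Fin k)
  have hg : Pres B' g := pairMap_pres hH h.invol ε
  set T := (H.map σ)ᵀ with hT
  have hTT := Matrix.mul_nonsing_inv _ (isUnit_conjTranspose (σ := σ) hH)
  have hT' := Matrix.nonsing_inv_mul _ (isUnit_conjTranspose (σ := σ) hH)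
  rw [← hT] at hTT hT'
  have hT1 : T - 1 = (N.map σ)ᵀ := by
    rw [hT, hHdef, Matrix.map_add σ (map_add σ), Matrix.map_one σ (map_zero σ) (map_one σ), Matrix.transpose_add,
      Matrix.transpose_one]
    abel
  have hT1k : (T - 1) ^ k = 0 := by
    rw [hT1, ← Matrix.transpose_pow, ← RingHom.mapMatrix_apply, ← map_pow, hN, map_zero, Matrix.transpose_zero]
  have hKk : (T⁻¹ - 1) ^ k = 0 := by
    have h1 : T⁻¹ - 1 = -T⁻¹ * (T - 1) := by rw [mul_sub, mul_one, neg_mul, hT']; abel
    have hc : Commute (-T⁻¹) (T - 1) := by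
      refine Commute.sub_right (Commute.neg_left ?_) (Commute.one_right _)
      rw [Commute, SemiconjBy, hT', hTT]
    rw [h1, hc.mul_pow, hT1k, mul_zero]
  have hgk : ∀ v ∈ (⊤ : Submodule F ((Fin k → F) × (Fin k → F))), ((g - 1) ^ k) v = 0 := fun v _ => by
    rw [pairMap_sub_one_pow, hHsub, hN, ← hT, hKk, Matrix.zero_mulVec, Matrix.zero_mulVec]
    rfl
  have htop : ∃ v ∈ (⊤ : Submodule F ((Fin k → F) × (Fin k → F))), ((g - 1) ^ (k - 1)) v ≠ 0 := by
    by_contra! hc
    refine hN' (Matrix.toLin'.injective (LinearMap.ext fun x => ?_))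
    have h1 := congrArg Prod.fst (hc (x, 0) Submodule.mem_top)
    rw [pairMap_sub_one_pow, hHsub] at h1
    simp only [Prod.fst_zero] at h1
    rw [map_zero, LinearMap.zero_apply, Matrix.toLin'_apply]
    exact h1
  obtain ⟨l, U, -, hU, hUi, hUd, hUr, hl, hl1, hl2, hl3⟩ :=
    exists_top_piece h' hg h'.nd_top (fun _ _ => trivial) hk hgk htop
  have hpiece : ∀ flat : Prop, (flat → ∀ v, B' ((g - 1) v) v = 0) → HasPiece B l k flat := by
    intro flat hflat U' hU' hU'd
    obtain ⟨φ, hφ⟩ := (h'.restrict_isRefl hU).exists_isometry (h.restrict_isRefl hU') (hUd.trans hU'd.symm)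
    have hinj : Function.Injective (g.restrict hUi) := fun a b hab =>
      Subtype.ext (h'.injective_of_pres hg (congrArg Subtype.val hab))
    let k' : U ≃ₗ[F] U := LinearEquiv.ofBijective _ ⟨hinj, LinearMap.injective_iff_surjective.1 hinj⟩
    refine ⟨(φ.symm.trans k').trans φ, fun u v => ?_, fun G hG => ?_⟩
    · obtain ⟨a, rfl⟩ := φ.surjective u
      obtain ⟨b, rfl⟩ := φ.surjective v
      simp only [LinearEquiv.trans_apply, LinearEquiv.symm_apply_apply]
      exact ((hφ (k' a) (k' b)).trans (hg _ _)).trans (hφ a b).symm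
    have hGφ : ∀ a : U, G (φ a : V) = (φ ⟨g a, hUi a a.2⟩ : V) := fun a => by
      rw [hG]
      simp only [LinearEquiv.trans_apply, LinearEquiv.symm_apply_apply]
      rfl
    have hpow : ∀ (j : ℕ) (a : U), ((G - 1) ^ j) (φ a : V) =
        (φ ⟨((g - 1) ^ j) (a : (Fin k → F) × (Fin k → F)), nilp_mem hUi j _ a.2⟩ : V) := fun j => by
      induction j with
      | zero => intro a; rfl
      | succ j ih =>
        intro a
        rw [pow_succ', Module.End.mul_apply, ih, LinearMap.sub_apply, hGφ, Module.End.one_apply,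
          ← Submodule.coe_sub, ← map_sub]
        refine congrArg (fun z => (φ z : V)) (Subtype.ext ?_)
        show g _ - _ = ((g - 1) ^ (j + 1)) _
        rw [pow_succ', Module.End.mul_apply, LinearMap.sub_apply, Module.End.one_apply]
    refine ⟨fun v hv => ?_, fun j => ?_, fun hf v hv => ?_⟩
    · obtain ⟨a, ha⟩ := φ.surjective ⟨v, hv⟩
      rw [show v = (φ a : V) by rw [ha], hpow]
      have h0 : (⟨_, nilp_mem hUi k _ a.2⟩ : U) = 0 := Subtype.ext (hgk _ Submodule.mem_top)
      rw [h0, map_zero, Submodule.coe_zero]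
    · rw [← hUr j, rk_eq_range, rk_eq_range]
      let L : U →ₗ[F] U := ((g - 1) ^ j).restrict (nilp_mem hUi j)
      have e1 : (((G - 1) ^ j).comp U'.subtype) = (U'.subtype.comp φ.toLinearMap).comp (L.comp φ.symm.toLinearMap) := by
        refine LinearMap.ext fun u => ?_
        obtain ⟨a, rfl⟩ := φ.surjective u
        simp only [LinearMap.comp_apply, Submodule.subtype_apply, LinearEquiv.coe_coe, φ.symm_apply_apply]
        exact hpow j a
      have e2 : (((g - 1) ^ j).comp U.subtype) = U.subtype.comp L := rfl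
      rw [e1, e2, LinearMap.range_comp, LinearMap.range_comp L U.subtype, LinearMap.range_comp,
        LinearEquiv.range, Submodule.map_top]
      rw [← LinearEquiv.finrank_eq (Submodule.equivMapOfInjective (U'.subtype.comp φ.toLinearMap) (U'.injective_subtype.comp φ.injective) _),
        Submodule.finrank_map_subtype_eq]
    · obtain ⟨a, ha⟩ := φ.surjective ⟨v, hv⟩
      rw [show v = (φ a : V) by rw [ha]]
      have h1 := hpow 1 a
      rw [pow_one] at h1
      rw [h1]
      exact (hφ _ a).trans (by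
        have h2 := hflat hf (a : (Fin k → F) × (Fin k → F))
        simpa using h2)
  refine ⟨l, hl, hl1, hl2, hpiece False False.elim, fun hid hk2 h20 => ?_⟩
  subst hk2
  have hflat : ∀ v, B' ((g - 1) v) v = 0 := fun v => by
    have h1 : T⁻¹ - 1 = T - 1 := by
      have hsq : T * T = 1 := by
        have e1 : (T - 1) * (T - 1) = 0 := by rw [← pow_two]; exact hT1k
        have e2 : T + T = 0 := by rw [← two_smul F, h20, zero_smul]
        have e3 : (1 : Matrix (Fin 2) (Fin 2) F) + 1 = 0 := by rw [← two_smul F, h20, zero_smul]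
        calc T * T = (T - 1) * (T - 1) + (T + T) - 1 := by noncomm_ring
          _ = (-1 : Matrix (Fin 2) (Fin 2) F) := by rw [e1, e2]; abel
          _ = 1 := neg_eq_of_add_eq_zero_right e3
      rw [Matrix.inv_eq_right_inv hsq]
    have h2 := pairMap_sub_one_pow (σ := σ) H 1 v
    rw [pow_one, pow_one, pow_one, hHsub, ← hT, h1, hT1] at h2
    show pairForm σ ε (Fin 2) ((g - 1) v) v = 0
    rw [h2, pairForm_apply]
    rcases hkind with ⟨-, rfl⟩ | ⟨hσ, -⟩
    · subst hid
      simp only [RingHom.id_apply, Matrix.mulVec, dotProduct, Fin.sum_univ_two, Matrix.transpose_apply,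
        Matrix.map_apply]
      ring
    · exact absurd hid hσ.ne_id
  refine (hl.resolve_left fun hl' => ?_).symm ▸ ⟨rfl, ?_⟩
  · obtain ⟨u, -, hu⟩ := hl3 hl'
    exact hu (by rw [show (2 - 1 : ℕ) = 1 from rfl, pow_one]; exact hflat u)
  · have hl' : l = 2 := hl.resolve_left fun hl' => by
      obtain ⟨u, -, hu⟩ := hl3 hl'
      exact hu (by rw [show (2 - 1 : ℕ) = 1 from rfl, pow_one]; exact hflat u)
    exact hl' ▸ hpiece True fun _ => hflat

theorem exists_pieces (σ : F →+* F) (n : ℕ) : ∀ μ : Multiset ℕ, Multiset.card μ = n →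
    (∀ a, Paired σ a → Even (μ.count a)) →
    ∃ μ₂ : Multiset (ℕ × ℕ), expandType μ₂ = μ ∧ ∀ c ∈ μ₂, c.2 ∈ μ ∧ ((Paired σ c.2 ∧ c.1 = 2) ∨ (¬ Paired σ c.2 ∧ c.1 = 1)) := by
  classical
  induction n using Nat.strong_induction_on with
  | h n ih =>
    intro μ hn hev
    rcases Multiset.empty_or_exists_mem μ with rfl | ⟨a, ha⟩
    · exact ⟨0, by simp [expandType], by simp⟩
    set l := if Paired σ a then 2 else 1 with hl
    have hle : Multiset.replicate l a ≤ μ := Multiset.le_count_iff_replicate_le.1 (by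
      have h1 := Multiset.one_le_count_iff_mem.2 ha
      by_cases hP : Paired σ a
      · obtain ⟨t, ht⟩ := hev a hP
        rw [hl, if_pos hP]; omega
      · rw [hl, if_neg hP]; exact h1)
    have hl0 : 0 < l := by rw [hl]; split <;> omega
    obtain ⟨μ₂, h1, h2⟩ := ih (Multiset.card (μ - Multiset.replicate l a)) (by
        have hc := Multiset.card_le_card hle
        rw [Multiset.card_sub hle, Multiset.card_replicate] at *
        omega) _ rfl fun b hb => by
      have h3 := hev b hb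
      rw [Multiset.count_sub, Multiset.count_replicate]
      split_ifs with he
      · subst he
        have h4 := Multiset.count_le_of_le a hle
        rw [Multiset.count_replicate_self] at h4
        rw [Nat.even_sub h4, hl, if_pos hb]
        exact iff_of_true h3 even_two
      · simpa using h3
    refine ⟨(l, a) ::ₘ μ₂, ?_, fun c hc => ?_⟩
    · rw [expandType_cons, h1, add_comm]
      exact Multiset.sub_add_cancel hle
    · rcases Multiset.mem_cons.1 hc with rfl | hc
      · refine ⟨ha, ?_⟩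
        by_cases hP : Paired σ a
        · exact Or.inl ⟨hP, by simp [hl, hP]⟩
        · exact Or.inr ⟨hP, by simp [hl, hP]⟩
      · exact ⟨Multiset.mem_of_le (Multiset.sub_le_self _ _) (h2 c hc).1, (h2 c hc).2⟩

theorem zero_notMem_expand {μ : Multiset (ℕ × ℕ)} (h : ∀ a ∈ μ, 1 ≤ a.2) : 0 ∉ expandType μ := by
  intro h0
  rw [expandType, Multiset.mem_bind] at h0
  obtain ⟨a, ha, h1⟩ := h0
  have := h a ha
  have := Multiset.eq_of_mem_replicate h1
  omega

theorem mem_expand {μ : Multiset (ℕ × ℕ)} {x : ℕ} (hx : x ∈ expandType μ) : ∃ a ∈ μ, x = a.2 := by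
  rw [expandType, Multiset.mem_bind] at hx
  obtain ⟨a, ha, h1⟩ := hx
  exact ⟨a, ha, Multiset.eq_of_mem_replicate h1⟩

theorem even_count_expand {μ : Multiset (ℕ × ℕ)} {x : ℕ} (h : ∀ a ∈ μ, a.2 = x → a.1 = 2) :
    Even ((expandType μ).count x) := by
  induction μ using Multiset.induction_on with
  | empty => simp [expandType]
  | cons a μ ih =>
    rw [expandType_cons, Multiset.count_add]
    refine Even.add ?_ (ih fun b hb => h b (Multiset.mem_cons_of_mem hb))
    rw [Multiset.count_replicate]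
    split_ifs with he
    · rw [h a (Multiset.mem_cons_self a μ) he]; exact even_two
    · exact Even.zero

/-- The criterion away from alternating forms in characteristic two. -/
theorem unipFix_iff (h : IsRefl B) (hodd : σ ≠ RingHom.id F ∨ (2 : F) ≠ 0) {m : ℕ} :
    UnipFix B p m ↔ PartCrit σ p (finrank F V) m := by
  classical
  constructor
  · intro hall μ hparts hev hsum
    obtain ⟨μ₂, hμ₂, hmem⟩ := exists_pieces σ _ μ rfl hev
    obtain ⟨G, Y, hG, -, hYd, -, -, hnil, hrank, -⟩ := exists_of_type h (p := p) (B := B) False μ₂ (fun c hc => by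
      obtain ⟨hcμ, hcl⟩ := hmem c hc
      obtain ⟨l, -, hl1, hl2, hP, -⟩ := hasPiece_model (B := B) h (k := c.2) (hparts _ hcμ).1
      refine ⟨(hparts _ hcμ).2, ?_, ?_⟩
      · intro hid
        rcases hcl with ⟨hp, e⟩ | ⟨hp, e⟩
        · rw [e]; exact even_two_mul _
        · rw [e, one_mul]
          exact Nat.not_odd_iff_even.1 fun ho => hp ⟨hid, ho⟩
      · rcases hcl with ⟨hp, e⟩ | ⟨hp, e⟩
        · rw [e, ← hl1 hp.1 hp.2]; exact hP
        · have hl' : l = 1 := hl2 (by
            by_cases hid : σ = RingHom.id F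
            · exact Or.inr ⟨Nat.not_odd_iff_even.1 fun ho => hp ⟨hid, ho⟩, hodd.resolve_left (not_not_intro hid)⟩
            · exact Or.inl hid)
          rw [e, ← hl']; exact hP) (by rw [← expandType_sum, hμ₂, hsum])
    have htop : Y = ⊤ := Submodule.eq_top_of_finrank_eq (by rw [hYd, ← expandType_sum, hμ₂, hsum])
    subst htop
    have hGp : (G - 1) ^ p = 0 := LinearMap.ext fun v => hnil v Submodule.mem_top
    obtain ⟨W, ⟨hWd, hWn⟩, hWi⟩ := hall G hG hGp
    have hWo := h.orth_invariant hG hWi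
    obtain ⟨ν₁, hν₁d, hν₁r, hν₁p, -⟩ := exists_type h hG (p := p) _ rfl hWn hWi fun v _ => by rw [hGp]; rfl
    obtain ⟨ν₂, -, hν₂r, hν₂p, -⟩ := exists_type h hG (p := p) _ rfl (h.nd_orth hWn) hWo fun v _ => by rw [hGp]; rfl
    have hc := h.isCompl_orth hWn
    have hsum' : expandType ν₁ + expandType ν₂ = μ := by
      refine eq_of_ranks ?_ (fun h0 => absurd (hparts 0 h0).1 (lt_irrefl 0)) fun j => ?_
      · rw [Multiset.mem_add]
        rintro (h0 | h0)
        · exact zero_notMem_expand (fun a ha => (hν₁p a ha).2.1) h0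
        · exact zero_notMem_expand (fun a ha => (hν₂p a ha).2.1) h0
      · rw [Multiset.map_add, Multiset.sum_add, ← typeRank_expand, ← typeRank_expand, ← hμ₂, ← typeRank_expand,
          ← hν₁r, ← hν₂r, ← rk_sup hWi hWo hc.disjoint, hc.sup_eq_top, hrank]
    refine ⟨expandType ν₁, hsum' ▸ Multiset.le_add_right _ _, by rw [expandType_sum, hν₁d, hWd], fun a ha => ?_⟩
    exact even_count_expand fun b hb hba => (hν₁p b hb).2.2.2.1 ha.1 (hba.symm ▸ ha.2)
  · intro hcrit g hg hgp
    obtain ⟨μ₂, hd, -, hp', hsel⟩ := exists_type h hg (p := p) _ rfl h.nd_top (fun _ _ => trivial) fun v _ => by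
      rw [hgp]; rfl
    rw [finrank_top] at hd
    obtain ⟨ν, hν, hνs, hνe⟩ := hcrit (expandType μ₂) (fun x hx => by
        obtain ⟨a, ha, rfl⟩ := mem_expand hx
        exact ⟨(hp' a ha).2.1, (hp' a ha).2.2.1⟩)
      (fun x hx => even_count_expand fun a ha hax => (hp' a ha).2.2.2.1 hx.1 (hax.symm ▸ hx.2))
      (by rw [expandType_sum, hd])
    obtain ⟨ν', hν', hν'd⟩ := exists_selection μ₂ (Paired σ) (fun a ha => (hp' a ha).1)
      (fun a ha e hp => by rw [(hp' a ha).2.2.2.1 hp.1 hp.2] at e; exact absurd e (by norm_num))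
      (fun a ha e => by
        by_contra hnp
        have h1 := (hp' a ha).2.2.2.2.1 (by
          by_cases hid : σ = RingHom.id F
          · exact Or.inr ⟨Nat.not_odd_iff_even.1 fun ho => hnp ⟨hid, ho⟩, hodd.resolve_left (not_not_intro hid)⟩
          · exact Or.inl hid)
        omega) ν hν hνe
    obtain ⟨U, -, hUn, hUi, hUd⟩ := hsel ν' hν'
    exact ⟨U, ⟨by rw [hUd, hν'd, hνs], hUn⟩, hUi⟩

/-- Sums of twos and fours. -/
theorem exists_two_four (μ : Multiset ℕ) (hμ : ∀ a ∈ μ, a = 2 ∨ a = 4) :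
    ∀ m, Even m → m ≤ μ.sum → (m % 4 = 0 ∨ 2 ∈ μ) → ∃ ν ≤ μ, ν.sum = m := by
  induction μ using Multiset.induction_on with
  | empty => exact fun m _ hm _ => ⟨0, le_rfl, by simp at hm; simp [hm]⟩
  | cons c μ ih =>
    intro m hev hm hcond
    have hμ' : ∀ a ∈ μ, a = 2 ∨ a = 4 := fun a ha => hμ a (Multiset.mem_cons_of_mem ha)
    have hsev : Even μ.sum := Multiset.sum_induction Even μ (fun a b ha hb => ha.add hb) Even.zero
      fun a ha => by rcases hμ' a ha with rfl | rfl <;> decide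
    rw [Multiset.sum_cons] at hm
    obtain ⟨t, rfl⟩ := hev
    obtain ⟨s, hs⟩ := hsev
    rcases hμ c (Multiset.mem_cons_self c μ) with rfl | rfl
    · by_cases h4 : (t + t) % 4 = 0
      · by_cases hle : t + t ≤ μ.sum
        · obtain ⟨ν, hν, hsum⟩ := ih hμ' _ ⟨t, rfl⟩ hle (Or.inl h4)
          exact ⟨ν, hν.trans (Multiset.le_cons_self μ 2), hsum⟩
        · exact ⟨2 ::ₘ μ, le_rfl, by rw [Multiset.sum_cons]; omega⟩
      · obtain ⟨ν, hν, hsum⟩ := ih hμ' (t + t - 2) ⟨t - 1, by omega⟩ (by omega) (Or.inl (by omega))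
        exact ⟨2 ::ₘ ν, Multiset.cons_le_cons 2 hν, by rw [Multiset.sum_cons, hsum]; omega⟩
    · have hcond' : (t + t) % 4 = 0 ∨ 2 ∈ μ := hcond.imp_right fun h2 =>
        (Multiset.mem_cons.1 h2).resolve_left (by norm_num)
      by_cases h4 : 4 ≤ t + t
      · obtain ⟨ν, hν, hsum⟩ := ih hμ' (t + t - 4) ⟨t - 2, by omega⟩ (by omega) (hcond'.imp_left fun h => by omega)
        exact ⟨4 ::ₘ ν, Multiset.cons_le_cons 4 hν, by rw [Multiset.sum_cons, hsum]; omega⟩
      · rcases hcond' with h | h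
        · exact ⟨0, Multiset.zero_le _, by rw [Multiset.sum_zero]; omega⟩
        · rcases Nat.eq_zero_or_pos t with rfl | ht
          · exact ⟨0, Multiset.zero_le _, by simp⟩
          · exact ⟨{2}, Multiset.singleton_le.2 (Multiset.mem_cons_of_mem h), by rw [Multiset.sum_singleton]; omega⟩

theorem exists_le_map {α β : Type*} (f : α → β) (μ : Multiset α) :
    ∀ ν ≤ μ.map f, ∃ ν' ≤ μ, ν'.map f = ν := by
  classical
  induction μ using Multiset.induction_on with
  | empty => exact fun ν hν => ⟨0, le_rfl, by rw [Multiset.map_zero] at hν ⊢; exact (Multiset.le_zero.1 hν).symm⟩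
  | cons a μ ih =>
    intro ν hν
    rw [Multiset.map_cons] at hν
    by_cases hmem : f a ∈ ν
    · obtain ⟨ν', hν', he⟩ := ih (ν.erase (f a)) (Multiset.erase_le_iff_le_cons.2 hν)
      exact ⟨a ::ₘ ν', Multiset.cons_le_cons a hν', by rw [Multiset.map_cons, he, Multiset.cons_erase hmem]⟩
    · obtain ⟨ν', hν', he⟩ := ih ν ((Multiset.le_cons_of_notMem hmem).1 hν)
      exact ⟨ν', hν'.trans (Multiset.le_cons_self μ a), he⟩

/-- Alternating forms in characteristic two. -/
theorem unipFix_two (h : IsRefl B) (hid : σ = RingHom.id F) (h20 : (2 : F) = 0) {m : ℕ} (hm : Even m)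
    (hmn : m ≤ finrank F V) : UnipFix B 2 m ↔ (finrank F V % 4 = 2 ∨ m % 4 = 0) := by
  constructor
  · intro hall
    by_contra hcon
    push Not at hcon
    obtain ⟨t, ht⟩ := h.par_finrank (B := B) hid
    obtain ⟨l, hl⟩ := hm
    have hn4 : finrank F V % 4 = 0 := by omega
    obtain ⟨l', -, -, -, -, htwo⟩ := hasPiece_model (B := B) h (k := 2) (by norm_num)
    obtain ⟨-, hP⟩ := htwo hid rfl h20
    set q := finrank F V / 4
    have hdim : typeDim (Multiset.replicate q ((2, 2) : ℕ × ℕ)) = finrank F V := by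
      simp [typeDim, Multiset.map_replicate, Multiset.sum_replicate]
      omega
    obtain ⟨G, Y, hG, -, hYd, -, -, hnil, hrank, hflat⟩ := exists_of_type h (p := 2) (B := B) True
      (Multiset.replicate q ((2, 2) : ℕ × ℕ)) (fun c hc => by
        rw [Multiset.eq_of_mem_replicate hc]
        exact ⟨le_rfl, fun _ => by decide, hP⟩) hdim.le
    have htop : Y = ⊤ := Submodule.eq_top_of_finrank_eq (by rw [hYd, hdim])
    subst htop
    have hGp : (G - 1) ^ 2 = 0 := LinearMap.ext fun v => hnil v Submodule.mem_top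
    obtain ⟨W, ⟨hWd, hWn⟩, hWi⟩ := hall G hG hGp
    have hWo := h.orth_invariant hG hWi
    obtain ⟨ν₁, hν₁d, hν₁r, hν₁p, -⟩ := exists_type h hG (p := 2) _ rfl hWn hWi fun v _ => by rw [hGp]; rfl
    obtain ⟨ν₂, hν₂d, hν₂r, hν₂p, -⟩ := exists_type h hG (p := 2) _ rfl (h.nd_orth hWn) hWo fun v _ => by rw [hGp]; rfl
    have hc := h.isCompl_orth hWn
    have h1 : typeRank ν₁ 1 + typeRank ν₂ 1 = 2 * q := by
      rw [← hν₁r, ← hν₂r, ← rk_sup hWi hWo hc.disjoint, hc.sup_eq_top, hrank]
      simp [typeRank, Multiset.map_replicate, Multiset.sum_replicate, mul_comm]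
    have key : ∀ ν : Multiset (ℕ × ℕ), (∀ a ∈ ν, 1 ≤ a.2 ∧ a.2 ≤ 2) →
        2 * typeRank ν 1 ≤ typeDim ν ∧ (2 * typeRank ν 1 = typeDim ν → (∀ a ∈ ν, a.1 = 2) → 4 ∣ typeDim ν) := by
      intro ν hν
      induction ν using Multiset.induction_on with
      | empty => simp [typeRank, typeDim]
      | cons a ν ih =>
        obtain ⟨i1, i2⟩ := ih fun b hb => hν b (Multiset.mem_cons_of_mem hb)
        obtain ⟨a1, a2⟩ := hν a (Multiset.mem_cons_self a ν)
        simp only [typeRank, typeDim, Multiset.map_cons, Multiset.sum_cons] at i1 i2 ⊢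
        rcases (show a.2 = 1 ∨ a.2 = 2 by omega) with e | e <;> rw [e]
        · refine ⟨by omega, fun heq hall2 => ?_⟩
          have := hall2 a (Multiset.mem_cons_self a ν)
          omega
        · refine ⟨by omega, fun heq hall2 => ?_⟩
          obtain ⟨c, hc⟩ := i2 (by omega) fun b hb => hall2 b (Multiset.mem_cons_of_mem hb)
          have := hall2 a (Multiset.mem_cons_self a ν)
          omega
    obtain ⟨k1, k1'⟩ := key ν₁ fun a ha => ⟨(hν₁p a ha).2.1, (hν₁p a ha).2.2.1⟩
    obtain ⟨k2, -⟩ := key ν₂ fun a ha => ⟨(hν₂p a ha).2.1, (hν₂p a ha).2.2.1⟩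
    have h2 := h.finrank_orth W
    rw [hν₁d] at k1 k1'
    rw [hν₂d] at k2
    have h4 := k1' (by omega) fun a ha => by
      rcases (hν₁p a ha).1 with e | e
      · obtain ⟨u, hu, hu0⟩ := (hν₁p a ha).2.2.2.2.2 e
        rcases (show a.2 = 1 ∨ a.2 = 2 by have := (hν₁p a ha).2.1; have := (hν₁p a ha).2.2.1; omega) with e2 | e2
        · exact absurd ((hν₁p a ha).2.2.2.1 hid (e2 ▸ odd_one)) (by omega)
        · rw [e2, show (2 - 1 : ℕ) = 1 from rfl, pow_one] at hu0
          exact absurd (hflat trivial u Submodule.mem_top) hu0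
      · exact e
    omega
  · intro hcond g hg hgp
    obtain ⟨μ, hd, -, hp', hsel⟩ := exists_type h hg (p := 2) _ rfl h.nd_top (fun _ _ => trivial) fun v _ => by
      rw [hgp]; rfl
    rw [finrank_top] at hd
    have hval : ∀ a ∈ μ, a.1 * a.2 = 2 ∨ a.1 * a.2 = 4 := fun a ha => by
      obtain ⟨a1, a2, a3, a4, -⟩ := hp' a ha
      rcases (show a.2 = 1 ∨ a.2 = 2 by omega) with e | e
      · rw [a4 hid (e ▸ odd_one), e]; exact Or.inl rfl
      · rcases a1 with e1 | e1 <;> rw [e1, e]
        · exact Or.inl rfl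
        · exact Or.inr rfl
    have hs : (μ.map fun a => a.1 * a.2).sum = finrank F V := hd
    obtain ⟨ν, hν, hνs⟩ := exists_two_four (μ.map fun a => a.1 * a.2) (fun x hx => by
        obtain ⟨a, ha, rfl⟩ := Multiset.mem_map.1 hx
        exact hval a ha) m hm (hs ▸ hmn) (hcond.symm.imp_right fun h2 => by
      by_contra hno
      have hall4 : ∀ x ∈ μ.map (fun a => a.1 * a.2), x = 4 := fun x hx => by
        obtain ⟨a, ha, rfl⟩ := Multiset.mem_map.1 hx
        exact (hval a ha).resolve_left fun e => hno (e ▸ Multiset.mem_map_of_mem (fun a => a.1 * a.2) ha)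
      rw [← hs, Multiset.eq_replicate_card.2 hall4, Multiset.sum_replicate, smul_eq_mul] at h2
      omega)
    obtain ⟨ν', hν', rfl⟩ : ∃ ν' ≤ μ, ν'.map (fun a => a.1 * a.2) = ν := exists_le_map _ μ ν hν
    obtain ⟨U, -, hUn, hUi, hUd⟩ := hsel ν' hν'
    exact ⟨U, ⟨hUd.trans hνs, hUn⟩, hUi⟩

end CfsgLib.Geo.Refl
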