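/-
The special unitary group as isometries of determinant one of a Hermitian form.
-/
import Cfsg.Agent.Lib.Geo.Refl.Criterion
import Cfsg.Agent.Lib.Geo.Refl.UnipotentCrit
import Cfsg.Agent.Lib.Classical.Unitary.Matrix

set_option autoImplicit false
set_option maxHeartbeats 400000
set_option linter.unusedSectionVars false

namespace CfsgLib.Geo.Refl

open Module Polynomial Matrix CfsgLib.Classical CfsgLib.Classical.Herm CfsgLib.Geo.PrimeAct

universe u

variable {F : Type u} [Field F] [Fintype F] {q n : ℕ} (hF : Fintype.card F = q ^ 2)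

local notation "𝔼" => (Fin n → F)
local notation "𝔹" => hermStd n hF

include hF

theorem unit_isRefl : IsRefl 𝔹 :=
  ⟨Or.inr ⟨powHom_isInvol hF, (hermStd_isHerm hF).symm⟩, (hermStd_isHerm hF).nondeg⟩

theorem unit_par (d : ℕ) : Par (powHom hF) d := fun h => absurd h (powHom_isInvol hF).ne_id

theorem unit_member_ti_iff (m : ℕ) (W : Submodule F 𝔼) :
    (finrank F W = m ∧ ∀ u ∈ W, ∀ v ∈ W, Cfsg.hermForm n F q u v = 0) ↔ Member 𝔹 false m W :=
  and_congr_right fun _ => ⟨fun h x hx y hy => h y hy x hx, fun h x hx y hy => h y hy x hx⟩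

theorem unit_member_nd_iff (m : ℕ) (W : Submodule F 𝔼) :
    (finrank F W = m ∧ ∀ u ∈ W, u ≠ 0 → ∃ v ∈ W, Cfsg.hermForm n F q u v ≠ 0) ↔ Member 𝔹 true m W := by
  refine and_congr_right fun _ => ⟨fun h x hx hall => ?_, fun h x hx hx0 => ?_⟩
  · by_contra hx0
    obtain ⟨v, hv, hne⟩ := h x hx hx0
    exact hne ((unit_isRefl hF).eq_zero_symm (hall v hv))
  · by_contra! hc
    exact hx0 (h x hx fun y hy => (unit_isRefl hF).eq_zero_symm (hc y hy))

theorem hermStd_single (i : Fin n) (a : F) (v : 𝔼) : 𝔹 (Pi.single i a) v = a ^ q * v i := by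
  have hq : q ≠ 0 := by have := two_le_of_card_sq hF; omega
  rw [hermStd_apply, Cfsg.hermForm, Finset.sum_eq_single i (fun j _ hj => by simp [hj, hq]) (by simp)]
  rw [Pi.single_eq_same, mul_comm]

theorem unit_pow_of_scalar (hn : 0 < n) {z : F} (h : Pres 𝔹 (z • (1 : Module.End F 𝔼))) : z ^ (q + 1) = 1 := by
  have h1 := h (Pi.single ⟨0, hn⟩ 1) (Pi.single ⟨0, hn⟩ 1)
  rw [LinearMap.smul_apply, Module.End.one_apply, Herm.smul_left, map_smul, smul_eq_mul, hermStd_single,
    one_pow, Pi.single_eq_same, one_mul, mul_one, powHom_apply] at h1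
  rw [pow_succ, h1]

theorem unit_pres_smul {w : F} (hw : w ^ (q + 1) = 1) {T : Module.End F 𝔼} (hT : Pres 𝔹 T) : Pres 𝔹 (w • T) :=
  fun u v => by
    rw [LinearMap.smul_apply, LinearMap.smul_apply, Herm.smul_left, map_smul, hT u v, powHom_apply, smul_eq_mul,
      ← mul_assoc, ← pow_succ, hw, one_mul]

theorem unit_det_pow {T : Module.End F 𝔼} (hT : Pres 𝔹 T) : LinearMap.det T ^ (q + 1) = 1 := by
  have h := unit_isRefl (n := n) hF
  let e : 𝔼 ≃ₗ[F] 𝔼 := LinearEquiv.ofInjectiveEndo T (h.injective_of_pres hT)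
  have h1 := (hermStd_isHerm (n := n) hF).det_norm_one ⟨e, fun u v => hT u v⟩
  rw [powHom_apply] at h1
  have h2 : (HU.det 𝔹 ⟨e, fun u v => hT u v⟩ : F) = LinearMap.det T := by
    show ((LinearEquiv.det e : Fˣ) : F) = _
    rw [LinearEquiv.coe_det]
    rfl
  rw [h2] at h1
  rw [pow_succ', h1]

omit hF in
theorem eq_smul_one_inj (hn : 0 < n) {a b : F} (h : a • (1 : Module.End F 𝔼) = b • 1) : a = b := by
  have h1 := congrFun (LinearMap.congr_fun h (Pi.single ⟨0, hn⟩ 1)) ⟨0, hn⟩
  simpa using h1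

/-- All determinant-one isometries of order `r` modulo scalars fix a member of the class. -/
def SUFix (r : ℕ) (nd : Bool) (m : ℕ) : Prop :=
  ∀ T : Module.End F 𝔼, Pres 𝔹 T → LinearMap.det T = 1 → (∃ z : F, T ^ r = z • 1) →
    (∀ z : F, T ≠ z • 1) → ∃ W, Member 𝔹 nd m W ∧ ∀ v ∈ W, T v ∈ W

/-- The matrices of the statements as isometries. -/
theorem suFix_iff {r m : ℕ} {nd : Bool} (P : Submodule F 𝔼 → Prop)
    (hP : ∀ W : Submodule F 𝔼, (finrank F W = m ∧ P W) ↔ Member 𝔹 nd m W) :
    (∀ x : Matrix.SpecialLinearGroup (Fin n) F, x ∈ Cfsg.SU n F q →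
      (∃ z : F, ((x ^ r : Matrix.SpecialLinearGroup (Fin n) F) : Matrix (Fin n) (Fin n) F) = z • (1 : Matrix (Fin n) (Fin n) F)) →
      (∀ z : F, (x : Matrix (Fin n) (Fin n) F) ≠ z • (1 : Matrix (Fin n) (Fin n) F)) →
      ∃ W : Submodule F 𝔼, finrank F W = m ∧ P W ∧
        W.map (Matrix.toLin' (x : Matrix (Fin n) (Fin n) F)) ≤ W) ↔
    SUFix hF (n := n) r nd m := by
  constructor
  · intro h T hT hd ⟨z, hz⟩ hns
    let x : Matrix.SpecialLinearGroup (Fin n) F :=
      ⟨LinearMap.toMatrix' T, by rw [LinearMap.det_toMatrix', hd]⟩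
    have hxT : Matrix.toLinAlgEquiv' (x : Matrix (Fin n) (Fin n) F) = T := Matrix.toLin'_toMatrix' T
    have hmv : ∀ v, (x : Matrix (Fin n) (Fin n) F) *ᵥ v = T v := fun v => LinearMap.congr_fun hxT v
    obtain ⟨W, hWd, hWP, hWi⟩ := h x (fun u v => by
        show Cfsg.hermForm n F q ((x : Matrix (Fin n) (Fin n) F) *ᵥ u) ((x : Matrix (Fin n) (Fin n) F) *ᵥ v) = _
        rw [hmv, hmv]
        exact hT v u)
      ⟨z, by
        rw [Matrix.SpecialLinearGroup.coe_pow]
        apply Matrix.toLinAlgEquiv'.injective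
        rw [map_pow, hxT, hz, map_smul, map_one]⟩
      fun c hc => hns c (by rw [← hxT, hc, map_smul, map_one])
    refine ⟨W, (hP W).1 ⟨hWd, hWP⟩, fun v hv => ?_⟩
    rw [← hxT]
    exact hWi ⟨v, hv, rfl⟩
  · rintro h x hx ⟨z, hz⟩ hns
    obtain ⟨W, hW, hWi⟩ := h (Matrix.toLinAlgEquiv' (x : Matrix (Fin n) (Fin n) F)) (fun u v => hx v u)
      (by
        show LinearMap.det (Matrix.toLin' (x : Matrix (Fin n) (Fin n) F)) = 1
        rw [LinearMap.det_toLin']
        exact x.det_coe)
      ⟨z, by rw [← map_pow, ← Matrix.SpecialLinearGroup.coe_pow, hz, map_smul, map_one]⟩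
      fun c hc => hns c (Matrix.toLinAlgEquiv'.injective (by rw [hc, map_smul, map_one]))
    obtain ⟨hWd, hWP⟩ := (hP W).2 hW
    exact ⟨W, hWd, hWP, by rintro _ ⟨v, hv, rfl⟩; exact hWi v hv⟩

/-- A primitive root of unity of order `k` dividing `q ^ 2 - 1`. -/
theorem exists_primitive {k : ℕ} (hk : k ∣ q ^ 2 - 1) : ∃ η : F, IsPrimitiveRoot η k := by
  classical
  obtain ⟨ξ, hξ⟩ := IsCyclic.exists_generator (α := Fˣ)
  have hord : orderOf ξ = q ^ 2 - 1 := by
    rw [orderOf_eq_card_of_forall_mem_zpowers hξ, Nat.card_units, Nat.card_eq_fintype_card, hF]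
  have hq := two_le_of_card_sq hF
  have hne : q ^ 2 - 1 ≠ 0 := by have := Nat.pow_le_pow_left hq 2; omega
  refine ⟨((ξ ^ ((q ^ 2 - 1) / k) : Fˣ) : F), IsPrimitiveRoot.coe_units_iff.2 ?_⟩
  exact (hord ▸ IsPrimitiveRoot.orderOf ξ).pow (Nat.pos_of_ne_zero hne) (Nat.div_mul_cancel hk).symm

omit hF in
theorem succ_dvd_sq_sub_one : q + 1 ∣ q ^ 2 - 1 := ⟨q - 1, by rw [← Nat.sq_sub_sq q 1, one_pow]⟩

/-- Roots in the norm-one torus. -/
theorem exists_root {k : ℕ} (hk : k ∣ q + 1) {z : F} (hz : z ^ ((q + 1) / k) = 1) :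
    ∃ w, w ^ k = z ∧ w ^ (q + 1) = 1 := by
  obtain ⟨η, hη⟩ := exists_primitive hF succ_dvd_sq_sub_one
  obtain ⟨c, hc⟩ := hk
  have hk0 : 0 < k := Nat.pos_of_ne_zero fun e => by rw [e, zero_mul] at hc; omega
  rw [hc, Nat.mul_div_cancel_left _ hk0] at hz
  haveI : NeZero (q + 1) := ⟨by omega⟩
  obtain ⟨j, -, rfl⟩ := hη.eq_pow_of_pow_eq_one (ξ := z) (by rw [hc, mul_comm, pow_mul, hz, one_pow])
  rw [← pow_mul, hη.pow_eq_one_iff_dvd] at hz
  obtain ⟨e, rfl⟩ : k ∣ j := (Nat.mul_dvd_mul_iff_right (show 0 < c from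
    Nat.pos_of_ne_zero fun e => by rw [e, mul_zero] at hc; omega)).1 (hc ▸ hz)
  exact ⟨η ^ e, by rw [← pow_mul, mul_comm], by rw [← pow_mul, mul_comm, pow_mul, hη.pow_eq_one, one_pow]⟩

theorem exists_root_coprime {r : ℕ} (hc : Nat.Coprime r (q + 1)) {z : F} (hz : z ^ (q + 1) = 1) :
    ∃ w, w ^ r = z ∧ w ^ (q + 1) = 1 := by
  obtain ⟨t, -, ht⟩ := Nat.exists_mul_mod_eq_one_of_coprime hc (by have := two_le_of_card_sq hF; omega)
  refine ⟨z ^ t, ?_, by rw [← pow_mul, mul_comm, pow_mul, hz, one_pow]⟩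
  rw [← pow_mul, mul_comm, ← Nat.mod_add_div (r * t) (q + 1), ht, pow_add, pow_one, pow_mul, hz, one_pow, mul_one]

section Fix

variable {r : ℕ} [Fact r.Prime] {nd : Bool} {m : ℕ}

/-- Elements with a root of the scalar in the torus. -/
theorem fix_of_root (h : AllFix 𝔹 r nd m) {T : Module.End F 𝔼} (hT : Pres 𝔹 T) {w : F} (hw : w ^ (q + 1) = 1)
    (hTr : T ^ r = w ^ r • (1 : Module.End F 𝔼)) (hns : ∀ z : F, T ≠ z • 1) :
    ∃ W, Member 𝔹 nd m W ∧ ∀ v ∈ W, T v ∈ W := by
  have hw0 : w ≠ 0 := by rintro rfl; rw [zero_pow (by omega)] at hw; exact zero_ne_one hw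
  obtain ⟨W, hW, hWi⟩ := h (w⁻¹ • T) (unit_pres_smul hF (by rw [inv_pow, hw, inv_one]) hT)
    (by rw [_root_.smul_pow, hTr, smul_smul, inv_pow, inv_mul_cancel₀ (pow_ne_zero _ hw0), one_smul])
    fun h1 => hns w (by rw [← h1, smul_smul, mul_inv_cancel₀ hw0, one_smul])
  refine ⟨W, hW, fun v hv => ?_⟩
  have h1 := W.smul_mem w (hWi v hv)
  rwa [LinearMap.smul_apply, smul_inv_smul₀ hw0] at h1

/-- Orders prime to `q + 1`. -/
theorem suFix_iff_allFix (hn : 0 < n) (hc : Nat.Coprime r (q + 1)) :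
    SUFix hF (n := n) r nd m ↔ AllFix 𝔹 r nd m := by
  constructor
  · intro h g hg hr hne
    refine h g hg ?_ ⟨1, by rw [one_smul, hr]⟩ fun z hz => hne ?_
    · have h1 : LinearMap.det g ^ r = 1 := by rw [← map_pow, hr, map_one]
      have h2 := pow_gcd_eq_one.2 ⟨h1, unit_det_pow hF hg⟩
      rwa [show Nat.gcd r (q + 1) = 1 from hc, pow_one] at h2
    · rw [hz, _root_.smul_pow, one_pow] at hr
      have h1 : z ^ r = 1 := eq_smul_one_inj hn (hr.trans (one_smul F 1).symm)
      have h2 : z ^ (q + 1) = 1 := unit_pow_of_scalar hF hn (hz ▸ hg)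
      have h3 := pow_gcd_eq_one.2 ⟨h1, h2⟩
      rw [show Nat.gcd r (q + 1) = 1 from hc, pow_one] at h3
      rw [hz, h3, one_smul]
  · rintro h T hT - ⟨z, hz⟩ hns
    obtain ⟨w, rfl, hw⟩ := exists_root_coprime hF hc (unit_pow_of_scalar hF hn (hz ▸ hT.pow r))
    exact fix_of_root hF h hT hw hz hns

end Fix

theorem expand_map_pow {b : ℕ} (hb : Odd b) (P : F[X]) : expand F (q ^ b) (P.map (powHom hF)) = P ^ (q ^ b) := by
  obtain ⟨p, f, hpr, hp, hqf⟩ := exists_prime_pow_root hF
  haveI := Fact.mk hpr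
  induction P using Polynomial.induction_on' with
  | add P Q hP hQ => rw [Polynomial.map_add, map_add, hP, hQ, hqf, ← pow_mul, add_pow_char_pow]
  | monomial k a =>
    obtain ⟨t, rfl⟩ := hb
    have ha : a ^ q ^ (2 * t + 1) = a ^ q := by
      rw [pow_succ, pow_mul q 2 t, ← hF, pow_mul, FiniteField.pow_card_pow]
    rw [Polynomial.map_monomial, expand_monomial, monomial_pow, powHom_apply, ha]

/-- Inversion on `r`-th roots by an odd power of `q`. -/
theorem unit_sdReg {r b : ℕ} (hb : Odd b) (hdvd : r ∣ q ^ b + 1) : SDReg (powHom hF) r :=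
  ⟨q ^ b, pow_pos (by have := two_le_of_card_sq hF; omega) b, hdvd, expand_map_pow hF hb⟩

section Regs

variable {r : ℕ} [Fact r.Prime] {i : ℕ} (hr0 : (q : ZMod r) ≠ 0) (hi : i = orderOf (q : ZMod r))
include hr0 hi

omit hF in
theorem unit_ord_pos : 0 < i := by
  rw [hi, orderOf_pos_iff]
  exact (isUnit_iff_ne_zero.2 hr0).isOfFinOrder

theorem unit_ordq : orderOf (Nat.card F : ZMod r) = if Even i then i / 2 else i := by
  rw [Nat.card_eq_fintype_card, hF, Nat.cast_pow, orderOf_pow' _ two_ne_zero, ← hi]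
  split_ifs with h
  · rw [Nat.gcd_eq_right (even_iff_two_dvd.1 h)]
  · rw [Nat.Coprime.gcd_eq_one (Nat.coprime_two_right.2 (Nat.not_even_iff_odd.1 h)), Nat.div_one]

omit hF hr0 in
theorem unit_pow_half (hev : Even i) (hi0 : 0 < i) : (q : ZMod r) ^ (i / 2) = -1 := by
  obtain ⟨b, rfl⟩ := hev
  have h1 : (q : ZMod r) ^ b * (q : ZMod r) ^ b = 1 := by rw [← pow_add, hi]; exact pow_orderOf_eq_one _
  rw [show (b + b) / 2 = b by omega]
  exact (mul_self_eq_one_iff.1 h1).resolve_left (pow_ne_one_of_lt_orderOf (by omega) (by omega))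

theorem unit_sdReg_of (h4 : i % 4 = 2) : SDReg (powHom hF) r := by
  refine unit_sdReg hF (b := i / 2) (Nat.odd_iff.2 (by omega)) ?_
  rw [← ZMod.natCast_eq_zero_iff]
  push_cast
  rw [unit_pow_half hi (Nat.even_iff.2 (by omega)) (unit_ord_pos hr0 hi), neg_add_cancel]

theorem unit_gapReg (hr2 : r ≠ 2) (h4 : i % 4 ≠ 2) :
    GapReg (powHom hF) r (orderOf (Nat.card F : ZMod r)) := by
  haveI : Fact (2 < r) := ⟨lt_of_le_of_ne (Fact.out : r.Prime).two_le (Ne.symm hr2)⟩
  refine Or.inr ⟨powHom_isInvol hF, by rwa [card_fixed_powHom hF], ?_⟩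
  rw [card_fixed_powHom hF, unit_ordq hF hr0 hi]
  split_ifs with h
  · obtain ⟨k, hk⟩ := h
    rw [Even.neg_pow (Nat.even_iff.2 (show i / 2 % 2 = 0 by omega)),
      unit_pow_half hi ⟨k, hk⟩ (unit_ord_pos hr0 hi)]
    exact ZMod.neg_one_ne_one
  · rw [Odd.neg_pow (Nat.not_even_iff_odd.1 h), hi, pow_orderOf_eq_one]
    exact ZMod.neg_one_ne_one

end Regs

/-- Unipotent elements: the order is the characteristic. -/
theorem unit_allFix_unip (p : ℕ) [Fact p.Prime] [CharP F p] (hn : 0 < n) {m : ℕ} (hm : m ≤ n) :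
    AllFix 𝔹 p true m ↔ PartCrit (powHom hF) p n m := by
  haveI : Nonempty (Fin n) := ⟨⟨0, hn⟩⟩
  haveI : CharP (Module.End F 𝔼) p :=
    charP_of_injective_algebraMap (FaithfulSMul.algebraMap_injective F (Module.End F 𝔼)) p
  have h := unit_isRefl (n := n) hF
  have key : ∀ g : Module.End F 𝔼, (g - 1) ^ p = g ^ p - 1 := fun g => by
    rw [sub_pow_char_of_commute (p := p) (Commute.one_right g), one_pow]
  have hu := unipFix_iff (p := p) (m := m) h (Or.inl (powHom_isInvol hF).ne_id)
  rw [finrank_std (n := n)] at hu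
  rw [← hu]
  constructor
  · intro hall g hg hgp
    by_cases h1 : g = 1
    · obtain ⟨W, -, hWn, hWd⟩ := h.exists_nd_sub m h.nd_top (unit_par hF m) (by rwa [finrank_top, finrank_std])
      exact ⟨W, ⟨hWd, hWn⟩, fun v hv => by rw [h1]; exact hv⟩
    · exact hall g hg (by rwa [key, sub_eq_zero] at hgp) h1
  · intro hall g hg hgp _
    exact hall g hg (by rw [key, hgp, sub_self])

theorem partCrit_unit (p m : ℕ) : PartCrit (powHom hF) p n m ↔
    ∀ μ : Multiset ℕ, (∀ a ∈ μ, 0 < a ∧ a ≤ p) → μ.sum = n → ∃ ν : Multiset ℕ, ν ≤ μ ∧ ν.sum = m := by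
  have hnp : ∀ a, ¬ Paired (powHom hF) a := fun a h => (powHom_isInvol hF).ne_id h.1
  constructor
  · intro h μ h1 h2
    obtain ⟨ν, hν, hs, -⟩ := h μ h1 (fun a ha => absurd ha (hnp a)) h2
    exact ⟨ν, hν, hs⟩
  · intro h μ h1 _ h2
    obtain ⟨ν, hν, hs⟩ := h μ h1 h2
    exact ⟨ν, hν, hs, fun a ha => absurd ha (hnp a)⟩

omit hF in
/-- Sums of ones and twos. -/
theorem parts_two {m : ℕ} (hm : m ≤ n) :
    (∀ μ : Multiset ℕ, (∀ a ∈ μ, 0 < a ∧ a ≤ 2) → μ.sum = n → ∃ ν : Multiset ℕ, ν ≤ μ ∧ ν.sum = m) ↔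
      (Odd n ∨ Even m) := by
  classical
  constructor
  · intro h
    by_contra! hc
    obtain ⟨hn, hm'⟩ := hc
    rw [Nat.not_odd_iff_even] at hn
    obtain ⟨k, hk⟩ := hn
    obtain ⟨ν, hν, hs⟩ := h (Multiset.replicate k 2) (fun a ha => by rw [Multiset.eq_of_mem_replicate ha]; omega)
      (by rw [Multiset.sum_replicate]; simp; omega)
    refine hm' ?_
    rw [← hs]
    refine Multiset.sum_induction Even ν (fun a b ha hb => ha.add hb) Even.zero fun a ha => ?_
    rw [Multiset.eq_of_mem_replicate (Multiset.mem_of_le hν ha)]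
    exact even_two
  · intro hcond μ hμ hs
    set j := μ.count 2 with hj
    set k := μ.count 1 with hk
    have hμe : μ = Multiset.replicate j 2 + Multiset.replicate k 1 := by
      ext a
      rw [Multiset.count_add, Multiset.count_replicate, Multiset.count_replicate]
      by_cases ha : a ∈ μ
      · obtain ⟨h1, h2⟩ := hμ a ha
        rcases (show a = 1 ∨ a = 2 by omega) with rfl | rfl <;> simp [hj, hk]
      · rw [Multiset.count_eq_zero.2 ha]
        split_ifs with e1 e2 e2 <;> subst_vars <;> simp [hj, hk, Multiset.count_eq_zero.2 ha] at *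
    rw [hμe, Multiset.sum_add, Multiset.sum_replicate, Multiset.sum_replicate, smul_eq_mul, smul_eq_mul, mul_one] at hs
    have hbound : m - 2 * min j (m / 2) ≤ k := by
      rcases hcond with ⟨t, ht⟩ | ⟨t, ht⟩ <;> omega
    refine ⟨Multiset.replicate (min j (m / 2)) 2 + Multiset.replicate (m - 2 * min j (m / 2)) 1, ?_, ?_⟩
    · rw [hμe]
      exact add_le_add (Multiset.replicate_le_replicate 2 |>.2 (min_le_left _ _))
        (Multiset.replicate_le_replicate 1 |>.2 hbound)
    · rw [Multiset.sum_add, Multiset.sum_replicate, Multiset.sum_replicate, smul_eq_mul, smul_eq_mul, mul_one]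
      omega

/-! ### Determinants -/

omit hF in
/-- The determinant of a map killed by an irreducible polynomial. -/
theorem det_of_irreducible {f : F[X]} (hm : f.Monic) (hirr : Irreducible f) :
    ∀ (k : ℕ) (M : Type u) [AddCommGroup M] [Module F M] [FiniteDimensional F M] (g : Module.End F M),
      finrank F M = k → aeval g f = 0 →
        f.natDegree ∣ k ∧ LinearMap.det g = ((-1) ^ f.natDegree * f.coeff 0) ^ (k / f.natDegree) := by
  intro k
  induction k using Nat.strong_induction_on with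
  | h k ih =>
    intro M _ _ _ g hk hg
    have hd : 0 < f.natDegree := hirr.natDegree_pos
    rcases Nat.eq_zero_or_pos k with rfl | hk0
    · exact ⟨dvd_zero _, by rw [LinearMap.det_eq_one_of_finrank_eq_zero hk, Nat.zero_div, pow_zero]⟩
    haveI : Nontrivial M := Module.nontrivial_of_finrank_pos (R := F) (by omega)
    obtain ⟨v, hv0⟩ := exists_ne (0 : M)
    obtain ⟨S, -, hSi, hSd, -, -, -⟩ := exists_cyclic (g := g) hm hirr hv0 (by rw [hg]; rfl)
    have he : S ≤ S.comap g := hSi
    have hres : ∀ p : F[X], ∀ x : S, ((aeval (g.restrict he) p x : S) : M) = aeval g p x := fun p x => by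
      induction p using Polynomial.induction_on' with
      | add P Q hP hQ => simp only [map_add, LinearMap.add_apply, Submodule.coe_add, hP, hQ]
      | monomial j a =>
        simp only [aeval_monomial, Module.End.mul_apply, Module.algebraMap_end_apply, Submodule.coe_smul,
          restrict_pow_apply]
    have hdet : LinearMap.det (g.restrict he) = (-1) ^ f.natDegree * f.coeff 0 := by
      haveI : Nontrivial S := Module.nontrivial_of_finrank_pos (R := F) (by omega)
      have hker : aeval (g.restrict he) f = 0 := LinearMap.ext fun x => Subtype.ext (by rw [hres, hg]; rfl)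
      have h1 : f = minpoly F (g.restrict he) := minpoly.eq_of_irreducible_of_monic hirr hker hm
      have h2 : f = (g.restrict he).charpoly := Eq.symm <|
        eq_of_monic_of_dvd_of_natDegree_le hm (LinearMap.charpoly_monic _)
          (by rw [h1]; exact LinearMap.minpoly_dvd_charpoly _) (by rw [LinearMap.charpoly_natDegree, hSd])
      rw [LinearMap.det_eq_sign_charpoly_coeff, ← h2, hSd]
    have hq : aeval (S.mapQ S g he) f = 0 := by
      refine Submodule.linearMap_qext _ (LinearMap.ext fun x => ?_)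
      have hk : ∀ p : F[X], aeval (S.mapQ S g he) p (S.mkQ x) = S.mkQ (aeval g p x) := fun p => by
        induction p using Polynomial.induction_on' generalizing x with
        | add P Q hP hQ => simp only [map_add, LinearMap.add_apply, hP, hQ]
        | monomial j a =>
          simp only [aeval_monomial, Module.End.mul_apply, Module.algebraMap_end_apply, map_smul]
          congr 1
          induction j with
          | zero => rfl
          | succ j ihj =>
            rw [pow_succ', pow_succ', Module.End.mul_apply, Module.End.mul_apply, ihj]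
            rfl
      rw [LinearMap.comp_apply, hk, hg]
      simp
    have h1 := S.finrank_quotient_add_finrank
    obtain ⟨⟨c, hc⟩, hQ⟩ := ih (finrank F (M ⧸ S)) (by omega) (M ⧸ S) (S.mapQ S g he) rfl hq
    have hkc : k = f.natDegree * (c + 1) := by rw [mul_add, mul_one, ← hc]; omega
    refine ⟨⟨c + 1, hkc⟩, ?_⟩
    rw [LinearMap.det_eq_det_mul_det S g he, hdet, hQ, hc, hkc, Nat.mul_div_cancel_left _ hd,
      Nat.mul_div_cancel_left _ hd, pow_succ']

/-! ### Diagonal maps -/

omit hF in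
/-- The diagonal map with given entries. -/
noncomputable def diagEnd (d : Fin n → F) : Module.End F 𝔼 := Matrix.toLin' (Matrix.diagonal d)

omit hF in
theorem diagEnd_apply (d : Fin n → F) (v : 𝔼) (i : Fin n) : diagEnd d v i = d i * v i := by
  rw [diagEnd, Matrix.toLin'_apply, Matrix.mulVec_diagonal]

omit hF in
theorem diagEnd_det (d : Fin n → F) : LinearMap.det (diagEnd d) = ∏ i, d i := by
  rw [diagEnd, LinearMap.det_toLin', Matrix.det_diagonal]

theorem diagEnd_pres {d : Fin n → F} (hd : ∀ i, d i ^ (q + 1) = 1) : Pres 𝔹 (diagEnd d) := fun u v => by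
  rw [hermStd_apply, hermStd_apply, Cfsg.hermForm, Cfsg.hermForm]
  refine Finset.sum_congr rfl fun i _ => ?_
  rw [diagEnd_apply, diagEnd_apply, mul_pow]
  calc d i * v i * (d i ^ q * u i ^ q) = d i ^ (q + 1) * (v i * u i ^ q) := by rw [pow_succ]; ring
    _ = v i * u i ^ q := by rw [hd, one_mul]

omit hF in
theorem diagEnd_pow (d : Fin n → F) (k : ℕ) : diagEnd d ^ k = diagEnd (fun i => d i ^ k) := by
  induction k with
  | zero => ext v i; simp [diagEnd_apply]
  | succ k ih =>
    refine LinearMap.ext fun v => funext fun i => ?_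
    rw [pow_succ', Module.End.mul_apply, ih, diagEnd_apply, diagEnd_apply, diagEnd_apply, pow_succ', mul_assoc]

omit hF in
theorem diagEnd_const (c : F) : diagEnd (fun _ : Fin n => c) = c • (1 : Module.End F 𝔼) := by
  ext v i
  simp [diagEnd_apply]

/-- Totally isotropic subspaces fixed by a diagonal map avoid the coordinates with a unique entry. -/
theorem diag_ti_bound {d : Fin n → F} {W : Submodule F 𝔼} (hW : TI 𝔹 W) (hWi : ∀ v ∈ W, diagEnd d v ∈ W)
    (S : Finset (Fin n)) (hS : ∀ i ∉ S, ∀ j, d j = d i → j = i) : 2 * finrank F W ≤ S.card := by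
  classical
  have hq : q ≠ 0 := by have := two_le_of_card_sq hF; omega
  have haev : ∀ (P : F[X]) (v : 𝔼) (k : Fin n), aeval (diagEnd d) P v k = P.eval (d k) * v k := fun P v k => by
    induction P using Polynomial.induction_on' with
    | add P Q hP hQ => rw [map_add, LinearMap.add_apply, Pi.add_apply, hP, hQ, eval_add, add_mul]
    | monomial j a =>
      rw [aeval_monomial, Module.End.mul_apply, Module.algebraMap_end_apply, Pi.smul_apply, diagEnd_pow,
        diagEnd_apply, smul_eq_mul, eval_monomial, mul_assoc]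
  let E : (S → F) →ₗ[F] 𝔼 :=
    { toFun := fun a i => if h : i ∈ S then a ⟨i, h⟩ else 0
      map_add' := fun a b => by ext i; by_cases h : i ∈ S <;> simp [h]
      map_smul' := fun c a => by ext i; by_cases h : i ∈ S <;> simp [h] }
  have hEi : Function.Injective E := fun a b hab => funext fun j => by
    have h1 := congrFun hab j
    simpa [E] using h1
  have hC : ND 𝔹 (LinearMap.range E) := by
    rintro _ ⟨a, rfl⟩ hall
    rw [show a = 0 from funext fun j => ?_, map_zero]
    have h1 := hall (E (Pi.single j 1)) ⟨_, rfl⟩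
    have h2 : E (Pi.single j 1) = Pi.single (j : Fin n) 1 := by
      ext i
      by_cases h : i ∈ S
      · simp [E, h, Pi.single_apply, Subtype.ext_iff]
      · have hne : i ≠ (j : Fin n) := fun e => h (e ▸ j.2)
        simp [E, h, hne]
    have h3 := (unit_isRefl hF).eq_zero_symm h1
    rw [h2, hermStd_single, one_pow, one_mul] at h3
    simpa [E] using h3
  have hWC : W ≤ LinearMap.range E := by
    intro w hw
    have hzero : ∀ i ∉ S, w i = 0 := fun i hi => by
      by_contra hwi
      let P : F[X] := ∏ c ∈ (Finset.univ.image d).erase (d i), (X - C c)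
      have hP : ∀ k, k ≠ i → P.eval (d k) = 0 := fun k hk => by
        rw [eval_prod]
        refine Finset.prod_eq_zero (i := d k) (Finset.mem_erase.2 ⟨fun e => hk (hS i hi k e),
          Finset.mem_image_of_mem d (Finset.mem_univ k)⟩) ?_
        simp
      have hPi : P.eval (d i) ≠ 0 := by
        rw [eval_prod, Finset.prod_ne_zero_iff]
        intro c hc
        simp only [eval_sub, eval_X, eval_C, ne_eq, sub_eq_zero]
        exact (Finset.mem_erase.1 hc).1.symm
      have hy : aeval (diagEnd d) P w = Pi.single i (P.eval (d i) * w i) := by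
        ext k
        rw [haev]
        rcases eq_or_ne k i with rfl | hk
        · rw [Pi.single_eq_same]
        · rw [Pi.single_eq_of_ne hk, hP k hk, zero_mul]
      have hyW : Pi.single i (P.eval (d i) * w i) ∈ W := hy ▸ aeval_apply_mem hWi P w hw
      have h0 := hW _ hyW _ hyW
      rw [hermStd_single, Pi.single_eq_same, mul_eq_zero] at h0
      rcases h0 with h0 | h0
      · exact mul_ne_zero hPi hwi (pow_eq_zero_iff hq |>.1 h0)
      · exact mul_ne_zero hPi hwi h0
    refine ⟨fun j => w j, funext fun i => ?_⟩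
    by_cases h : i ∈ S
    · simp [E, h]
    · simp [E, h, hzero i h]
  have h1 := (unit_isRefl hF).two_mul_le_of_ti hC hWC hW
  rwa [LinearMap.finrank_range_of_inj hEi, finrank_pi, Fintype.card_coe] at h1

end CfsgLib.Geo.Refl
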