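/-
Special unitary elements of odd prime order dividing `q + 1`.
-/
import Cfsg.Agent.Lib.Geo.Refl.UnitInstance

set_option autoImplicit false
set_option maxHeartbeats 400000
set_option linter.unusedSectionVars false

namespace CfsgLib.Geo.Refl

open Module Polynomial Matrix CfsgLib.Classical CfsgLib.Classical.Herm CfsgLib.Geo.PrimeAct

universe u

variable {F : Type u} [Field F] [Fintype F] {q n r : ℕ} [Fact r.Prime] (hF : Fintype.card F = q ^ 2)
variable (hr2 : r ≠ 2) (hdiv : r ∣ q + 1)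

local notation "𝔼" => (Fin n → F)
local notation "𝔹" => hermStd n hF

include hF hr2 hdiv

omit hF hr2 in
theorem torus_cast : (q : ZMod r) = -1 := by
  have h := (ZMod.natCast_eq_zero_iff (q + 1) r).2 hdiv
  push_cast at h
  exact eq_neg_of_add_eq_zero_left h

omit hr2 in
theorem torus_ne_zero : (r : F) ≠ 0 := by
  obtain ⟨p, f, hpr, hp, hqf⟩ := exists_prime_pow_root hF
  intro h
  have hrp : r = p := ((Nat.prime_dvd_prime_iff_eq hpr Fact.out).1 ((CharP.cast_eq_zero_iff F p r).1 h)).symm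
  subst hrp
  have hf : f ≠ 0 := by rintro rfl; have := two_le_of_card_sq hF; simp at hqf; omega
  exact (Fact.out : r.Prime).not_dvd_one ((Nat.dvd_add_right (hqf ▸ dvd_pow_self r hf)).1 hdiv)

omit hr2 in
theorem torus_ordq : orderOf (Nat.card F : ZMod r) = 1 := by
  rw [orderOf_eq_one_iff, Nat.card_eq_fintype_card, hF, Nat.cast_pow, torus_cast hdiv, neg_one_sq]

omit hr2 in
theorem torus_cyc : (ClassTheory.cycFactors F r).card = r - 1 := by
  have h := (ord_facts (torus_ne_zero hF hdiv)).2.2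
  rwa [torus_ordq hF hdiv, mul_one] at h

theorem torus_no_root {z : F} (hz : z ^ (q + 1) = 1) (hnr : ¬ ∃ w, w ^ r = z ∧ w ^ (q + 1) = 1) :
    ∀ b : F, b ^ r ≠ z := by
  intro b hb
  refine hnr ⟨b, hb, ?_⟩
  have hq := two_le_of_card_sq hF
  have hb0 : b ≠ 0 := by
    rintro rfl
    rw [zero_pow (Fact.out : r.Prime).ne_zero] at hb
    rw [← hb, zero_pow (by omega)] at hz
    exact zero_ne_one hz
  have h1 : (b ^ (q + 1)) ^ r = 1 := by rw [← pow_mul, mul_comm, pow_mul, hb, hz]
  have h2 : (b ^ (q + 1)) ^ (q - 1) = 1 := by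
    rw [← pow_mul, ← Nat.sq_sub_sq q 1, one_pow, ← hF]
    exact FiniteField.pow_card_sub_one_eq_one b hb0
  have h3 := pow_gcd_eq_one.2 ⟨h1, h2⟩
  rwa [show Nat.gcd r (q - 1) = 1 from ?_, pow_one] at h3
  refine (Fact.out : r.Prime).coprime_iff_not_dvd.2 fun hd => ?_
  have h4 := Nat.dvd_sub hdiv hd
  rw [show q + 1 - (q - 1) = 2 by omega, Nat.prime_dvd_prime_iff_eq Fact.out Nat.prime_two] at h4
  exact hr2 h4

theorem torus_irreducible {z : F} (hz : z ^ (q + 1) = 1) (hnr : ¬ ∃ w, w ^ r = z ∧ w ^ (q + 1) = 1) :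
    Irreducible (X ^ r - C z : F[X]) :=
  X_pow_sub_C_irreducible_of_prime Fact.out (torus_no_root hF hr2 hdiv hz hnr)

omit hF in
theorem torus_dvd : r * (q + 1) ∣ q ^ r + 1 := by
  obtain ⟨k, hk⟩ := (Fact.out : r.Prime).odd_of_ne_two hr2
  have h1 : ((q : ℤ) + 1) * ∑ j ∈ Finset.range r, (-(q : ℤ)) ^ j = (q : ℤ) ^ r + 1 := by
    have h2 := geom_sum_mul (-(q : ℤ)) r
    rw [Odd.neg_pow ⟨k, hk⟩] at h2
    linear_combination -h2
  have h3 : (r : ℤ) ∣ ∑ j ∈ Finset.range r, (-(q : ℤ)) ^ j := by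
    rw [← ZMod.intCast_zmod_eq_zero_iff_dvd]
    push_cast
    simp [torus_cast hdiv]
  obtain ⟨c, hc⟩ := h3
  have h4 : ((r * (q + 1) : ℕ) : ℤ) ∣ ((q ^ r + 1 : ℕ) : ℤ) := ⟨c, by push_cast; rw [← h1, hc]; ring⟩
  exact_mod_cast h4

/-- The structure of an element whose scalar has no root in the torus. -/
theorem torus_killed {T : Module.End F 𝔼} {z : F} (hz : z ^ (q + 1) = 1)
    (hnr : ¬ ∃ w, w ^ r = z ∧ w ^ (q + 1) = 1) (hTr : T ^ r = z • (1 : Module.End F 𝔼)) :
    Killed T ⊤ {(X ^ r - C z : F[X])} r ∧ SelfDual (powHom hF) T ∧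
      (∀ v ∈ (⊤ : Submodule F 𝔼), T (T v) = v → v = 0) ∧ aeval T (X ^ r - C z : F[X]) = 0 := by
  have hz0 : z ≠ 0 := by rintro rfl; rw [zero_pow (by omega)] at hz; exact zero_ne_one hz
  have hf : aeval T (X ^ r - C z : F[X]) = 0 := by simp [hTr, Algebra.algebraMap_eq_smul_one]
  refine ⟨⟨(Fact.out : r.Prime).pos, fun v _ => Submodule.mem_top, fun f hf' => ?_, fun v _ => ?_,
    semisimple_of_pow (torus_ne_zero hF hdiv) hz0 hTr⟩, ?_, fun v _ hv => ?_, hf⟩
  · rw [Finset.mem_singleton.1 hf']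
    exact ⟨monic_X_pow_sub_C z (Fact.out : r.Prime).ne_zero, torus_irreducible hF hr2 hdiv hz hnr,
      natDegree_X_pow_sub_C⟩
  · rw [Finset.prod_singleton, hf, LinearMap.zero_apply]
  · obtain ⟨t, ht⟩ := torus_dvd (q := q) hr2 hdiv
    refine ⟨q ^ r, pow_pos (by have := two_le_of_card_sq hF; omega) r, ?_,
      expand_map_pow hF ((Fact.out : r.Prime).odd_of_ne_two hr2)⟩
    rw [ht, mul_assoc, pow_mul, hTr, _root_.smul_pow, one_pow, pow_mul, hz, one_pow, one_smul]
  · by_contra hv0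
    have h2 : ∀ j, (T ^ (2 * j)) v = v := fun j => by
      induction j with
      | zero => rfl
      | succ j ih => rw [show 2 * (j + 1) = 2 + 2 * j by ring, pow_add, Module.End.mul_apply, ih, pow_two]; exact hv
    have h3 := h2 r
    rw [mul_comm, pow_mul, hTr, _root_.smul_pow, one_pow, LinearMap.smul_apply, Module.End.one_apply] at h3
    have hz2 : z * z = 1 := by
      have h4 : (z ^ 2 - 1) • v = 0 := by rw [sub_smul, h3, one_smul, sub_self]
      rw [smul_eq_zero, sub_eq_zero, pow_two] at h4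
      exact h4.resolve_right hv0
    obtain ⟨k, hk⟩ := (Fact.out : r.Prime).odd_of_ne_two hr2
    exact hnr ⟨z, by rw [hk, pow_succ, pow_mul, pow_two, hz2, one_pow, one_mul], hz⟩

/-- Determinant one forces a large `r`-part of the dimension. -/
theorem torus_padic (hn : 0 < n) {T : Module.End F 𝔼} {z : F} (hz : z ^ (q + 1) = 1)
    (hnr : ¬ ∃ w, w ^ r = z ∧ w ^ (q + 1) = 1) (hTr : T ^ r = z • (1 : Module.End F 𝔼))
    (hdet : LinearMap.det T = 1) : padicValNat r (q + 1) < padicValNat r n := by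
  obtain ⟨hk, -, -, hkill⟩ := torus_killed hF hr2 hdiv hz hnr hTr
  obtain ⟨hm, hi, hd⟩ := hk.deg _ (Finset.mem_singleton_self _)
  obtain ⟨hrn, hdet'⟩ := det_of_irreducible hm hi n 𝔼 T finrank_std hkill
  rw [hd] at hrn hdet'
  have hzn : z ^ (n / r) = 1 := by
    rw [hdet, ((Fact.out : r.Prime).odd_of_ne_two hr2).neg_one_pow] at hdet'
    simpa [(Fact.out : r.Prime).ne_zero.symm] using hdet'.symm
  by_contra! hle
  set g := Nat.gcd (n / r) (q + 1) with hg
  have hgz : z ^ g = 1 := pow_gcd_eq_one.2 ⟨hzn, hz⟩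
  obtain ⟨d, hd'⟩ := Nat.gcd_dvd_right (n / r) (q + 1)
  rw [← hg] at hd'
  have hrd : r ∣ d := by
    by_contra hnd
    have h1 : r ^ padicValNat r (q + 1) ∣ n / r :=
      ((((Fact.out : r.Prime).coprime_iff_not_dvd.2 hnd).pow_left _).dvd_of_dvd_mul_right
        (pow_padicValNat_dvd.trans (dvd_of_eq hd'))).trans (Nat.gcd_dvd_left _ _)
    have hn0 : n / r ≠ 0 := (Nat.div_pos (Nat.le_of_dvd hn hrn) (Fact.out : r.Prime).pos).ne'
    rw [padicValNat_dvd_iff_le hn0, padicValNat.div hrn] at h1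
    have h2 : 1 ≤ padicValNat r n := one_le_padicValNat_of_dvd hn.ne' hrn
    omega
  obtain ⟨e, rfl⟩ := hrd
  refine hnr (exists_root hF hdiv ?_)
  rw [hd', show g * (r * e) = r * (g * e) by ring, Nat.mul_div_cancel_left _ (Fact.out : r.Prime).pos, pow_mul,
    hgz, one_pow]

/-- Elements with all invariant subspaces of dimension divisible by `r`. -/
theorem exists_torus (hn : 0 < n) (hv : padicValNat r (q + 1) < padicValNat r n) :
    ∃ T : Module.End F 𝔼, Pres 𝔹 T ∧ LinearMap.det T = 1 ∧ (∃ z : F, T ^ r = z • 1) ∧ (∀ c : F, T ≠ c • 1) ∧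
      ∀ W : Submodule F 𝔼, (∀ v ∈ W, T v ∈ W) → r ∣ finrank F W := by
  have hrp : r.Prime := Fact.out
  set a := padicValNat r (q + 1) with ha
  have ha1 : 1 ≤ a := one_le_padicValNat_of_dvd (by omega) hdiv
  obtain ⟨η, hη⟩ := exists_primitive hF ((pow_padicValNat_dvd (p := r) (n := q + 1)).trans succ_dvd_sq_sub_one)
  rw [← ha] at hη
  have hz : η ^ (q + 1) = 1 := hη.pow_eq_one_iff_dvd _ |>.2 pow_padicValNat_dvd
  have hnr : ¬ ∃ w, w ^ r = η ∧ w ^ (q + 1) = 1 := by
    rintro ⟨w, hw, hw1⟩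
    have h1 : η ^ ((q + 1) / r) = 1 := by rw [← hw, ← pow_mul, Nat.mul_div_cancel' hdiv, hw1]
    have h2 : r ^ (a + 1) ∣ q + 1 := by
      rw [pow_succ]
      exact (Nat.mul_dvd_mul_right ((hη.pow_eq_one_iff_dvd _).1 h1) r).trans (Nat.div_mul_cancel hdiv).dvd
    exact pow_succ_padicValNat_not_dvd (by omega) h2
  have hm : (X ^ r - C η : F[X]).Monic := monic_X_pow_sub_C η hrp.ne_zero
  have hi := torus_irreducible hF hr2 hdiv hz hnr
  have hd : (X ^ r - C η : F[X]).natDegree = r := natDegree_X_pow_sub_C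
  have h := unit_isRefl (n := n) hF
  obtain ⟨t, ht⟩ := torus_dvd (q := q) hr2 hdiv
  have hmodel := hasModel_selfDual (B := 𝔹) h hm hi (M := q ^ r)
    (pow_pos (by have := two_le_of_card_sq hF; omega) r) (by
      have h1 := sub_dvd_pow_sub_pow ((X : F[X]) ^ r) (C η) ((q + 1) * t)
      rw [← pow_mul, ← C_pow, pow_mul η, hz, one_pow, C_1, ← mul_assoc, ← ht] at h1
      exact h1)
    (fun h2 => by
      have h3 := natDegree_le_of_dvd h2 (by
        rw [← C_1]
        exact X_pow_sub_C_ne_zero two_pos _)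
      rw [hd, ← C_1, natDegree_X_pow_sub_C] at h3
      have := hrp.two_le
      omega)
    (expand_map_pow hF (hrp.odd_of_ne_two hr2))
  rw [hd] at hmodel
  have hrn : r ^ (a + 1) ∣ n := (pow_dvd_pow r hv).trans pow_padicValNat_dvd
  have hrn1 : r ∣ n := (dvd_pow_self r (Nat.succ_ne_zero a)).trans hrn
  obtain ⟨T, Y, hT, -, hYd, -, -, hkill, -⟩ :=
    exists_element h (unit_par hF r) (n / r) (fun _ => (X ^ r - C η : F[X])) (fun _ => hmodel)
      (by rw [Nat.mul_div_cancel' hrn1, finrank_std])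
  have htop : Y = ⊤ := Submodule.eq_top_of_finrank_eq (by rw [hYd, Nat.mul_div_cancel' hrn1, finrank_std])
  have hT0 : aeval T (X ^ r - C η : F[X]) = 0 :=
    LinearMap.ext fun v => mem_polyKer.1 (hkill _ (fun _ => dvd_rfl) (htop ▸ Submodule.mem_top : v ∈ Y))
  have hTr : T ^ r = η • (1 : Module.End F 𝔼) := by
    rwa [map_sub, map_pow, aeval_X, aeval_C, Algebra.algebraMap_eq_smul_one, sub_eq_zero] at hT0
  obtain ⟨hk, -⟩ := torus_killed hF hr2 hdiv hz hnr hTr
  refine ⟨T, hT, ?_, ⟨η, hTr⟩, fun c hc => ?_, fun W hW => hk.dvd le_top hW⟩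
  · obtain ⟨-, hdet⟩ := det_of_irreducible hm hi n 𝔼 T finrank_std hT0
    rw [hdet, hd, (hrp.odd_of_ne_two hr2).neg_one_pow]
    have h1 : r ^ a ∣ n / r := Nat.dvd_div_of_mul_dvd (by rwa [← pow_succ'])
    simpa [hrp.ne_zero.symm] using (hη.pow_eq_one_iff_dvd _).2 h1
  · have h1 := hk.dvd (U := Submodule.span F {Pi.single (⟨0, hn⟩ : Fin n) (1 : F)}) le_top fun v hv => by
      rw [hc, LinearMap.smul_apply, Module.End.one_apply]
      exact Submodule.smul_mem _ _ hv
    rw [finrank_span_singleton (by simp)] at h1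
    exact hrp.not_dvd_one h1

/-- A diagonal element with few totally isotropic invariant subspaces. -/
theorem exists_torus_diag {m : ℕ} (hm : 1 ≤ m) (hmn : 2 * m ≤ n) (hs : n < r - 1 + 2 * m) :
    ∃ T : Module.End F 𝔼, Pres 𝔹 T ∧ LinearMap.det T = 1 ∧ (∃ z : F, T ^ r = z • 1) ∧ (∀ c : F, T ≠ c • 1) ∧
      ¬ ∃ W, Member 𝔹 false m W ∧ ∀ v ∈ W, T v ∈ W := by
  classical
  have hrp : r.Prime := Fact.out
  obtain ⟨ζ, hζ⟩ := exists_primitive hF (hdiv.trans succ_dvd_sq_sub_one)
  set D := n - 2 * m + 2 with hD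
  set S0 : ZMod r := ∑ j ∈ Finset.range D, (j : ZMod r)
  set a : ZMod r := -S0 * (D : ZMod r)⁻¹ with ha
  have hsum0 : (D : ZMod r) * a + S0 = 0 := by
    rw [ha]
    by_cases hD0 : (D : ZMod r) = 0
    · have h2 : (2 : ZMod r) ≠ 0 := fun h0 => by
        have h0' : ((2 : ℕ) : ZMod r) = 0 := by exact_mod_cast h0
        rw [ZMod.natCast_eq_zero_iff, Nat.prime_dvd_prime_iff_eq hrp Nat.prime_two] at h0'
        exact hr2 h0'
      have h3 : S0 * 2 = 0 := by
        have h4 := congrArg (Nat.cast : ℕ → ZMod r) (Finset.sum_range_id_mul_two D)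
        push_cast at h4
        rw [h4, hD0, zero_mul]
      rw [hD0, zero_mul, zero_add]
      exact (mul_eq_zero.1 h3).resolve_right h2
    · field_simp
      ring
  let e : Fin n → ZMod r := fun i => if (i : ℕ) < D then (i : ZMod r) + a else 0
  let d : Fin n → F := fun i => ζ ^ (e i).val
  have hde : ∀ i j, d i = d j → e i = e j := fun i j hij =>
    ZMod.val_injective r (hζ.pow_inj (ZMod.val_lt _) (ZMod.val_lt _) hij)
  have hsum : ∑ i, e i = 0 := by
    show (∑ i : Fin n, (fun j : ℕ => if j < D then (j : ZMod r) + a else 0) i) = 0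
    rw [Fin.sum_univ_eq_sum_range (fun j : ℕ => if j < D then (j : ZMod r) + a else 0), ← Finset.sum_filter,
      show (Finset.range n).filter (· < D) = Finset.range D from by ext j; simp; omega, Finset.sum_add_distrib,
      Finset.sum_const, Finset.card_range, nsmul_eq_mul, add_comm]
    exact hsum0
  have hdet : ∏ i, d i = 1 := by
    rw [Finset.prod_pow_eq_pow_sum, hζ.pow_eq_one_iff_dvd, ← ZMod.natCast_eq_zero_iff, Nat.cast_sum]
    rw [← hsum]
    exact Finset.sum_congr rfl fun i _ => ZMod.natCast_zmod_val _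
  have hdr : ∀ i, d i ^ r = 1 := fun i => by rw [← pow_mul, mul_comm, pow_mul, hζ.pow_eq_one, one_pow]
  have hdq : ∀ i, d i ^ (q + 1) = 1 := fun i => by
    obtain ⟨k, hk⟩ := hdiv
    rw [hk, pow_mul, hdr, one_pow]
  refine ⟨diagEnd d, diagEnd_pres hF hdq, by rw [diagEnd_det, hdet], ⟨1, ?_⟩, fun c hc => ?_, ?_⟩
  · rw [diagEnd_pow, show (fun i => d i ^ r) = fun _ => (1 : F) from funext hdr, diagEnd_const]
  · have h0 : ∀ i, d i = c := fun i => by
      have h1 := congrFun (LinearMap.congr_fun hc (Pi.single i 1)) i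
      simpa [diagEnd_apply] using h1
    have h01 := hde ⟨0, by omega⟩ ⟨1, by omega⟩ ((h0 _).trans (h0 _).symm)
    simp only [e] at h01
    rw [if_pos (by show 0 < D; omega), if_pos (by show 1 < D; omega)] at h01
    simp at h01
  · rintro ⟨W, ⟨hWd, hWt⟩, hWi⟩
    have huniq : ∀ i ∉ Finset.univ.filter (fun i => e i = 0), ∀ j, d j = d i → j = i := by
      intro i hi j hij
      simp only [Finset.mem_filter, Finset.mem_univ, true_and] at hi
      have he := hde j i hij
      simp only [e] at he hi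
      split_ifs at he hi with h1 h2
      · rw [add_left_inj, ZMod.natCast_eq_natCast_iff', Nat.mod_eq_of_lt (by omega), Nat.mod_eq_of_lt (by omega)] at he
        exact Fin.ext he
      all_goals first
        | exact absurd rfl hi
        | exact absurd he.symm hi
    have h1 := diag_ti_bound hF hWt hWi _ huniq
    have h2 : (Finset.univ.filter (fun i => e i = 0)).card ≤ (Finset.range (2 * m - 1)).card := by
      refine Finset.card_le_card_of_injOn (fun i => if (i : ℕ) < D then 0 else (i : ℕ) - D + 1) ?_ ?_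
      · intro i _
        simp only [Finset.coe_range, Set.mem_Iio]
        have := i.2
        split_ifs <;> omega
      · intro i hi j hj hij
        simp only [Finset.coe_filter, Finset.mem_univ, true_and, Set.mem_setOf_eq, e] at hi hj
        simp only at hij
        split_ifs at hij with h1 h2
        · rw [if_pos h1] at hi
          rw [if_pos h2] at hj
          have he := hi.trans hj.symm
          rw [add_left_inj, ZMod.natCast_eq_natCast_iff', Nat.mod_eq_of_lt (by omega),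
            Nat.mod_eq_of_lt (by omega)] at he
          exact Fin.ext he
        all_goals exact Fin.ext (by omega)
    rw [Finset.card_range, hWd] at *
    omega

/-- The criterion on isotropic subspaces. -/
theorem unit_torus_ti {m : ℕ} (hm : 1 ≤ m) (hmn : 2 * m ≤ n)
    (hdvd : r ∣ Nat.card {W : Submodule F 𝔼 // Member 𝔹 false m W}) :
    SUFix hF (n := n) r false m ↔
      (r - 1 + 2 * m ≤ n ∧ (r ∣ m ∨ padicValNat r n ≤ padicValNat r (q + 1))) := by
  have h := unit_isRefl (n := n) hF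
  have hn : 0 < n := by omega
  constructor
  · intro hall
    refine ⟨?_, ?_⟩
    · by_contra hc
      obtain ⟨T, hT, hdet, hz, hns, hno⟩ := exists_torus_diag hF hr2 hdiv hm hmn (not_le.1 hc)
      exact hno (hall T hT hdet hz hns)
    · by_contra! hc
      obtain ⟨T, hT, hdet, hz, hns, hdim⟩ := exists_torus hF hr2 hdiv hn hc.2
      obtain ⟨W, hW, hWi⟩ := hall T hT hdet hz hns
      exact hc.1 (hW.finrank_eq ▸ hdim W hWi)
  · rintro ⟨hs, hcond⟩ T hT hdet ⟨z, hTr⟩ hns
    have hz : z ^ (q + 1) = 1 := unit_pow_of_scalar hF hn (hTr ▸ hT.pow r)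
    by_cases hroot : ∃ w, w ^ r = z ∧ w ^ (q + 1) = 1
    · obtain ⟨w, rfl, hw⟩ := hroot
      refine fix_of_root hF ?_ hT hw hTr hns
      rw [crit_ti_selfDual h hr2 (torus_ne_zero hF hdiv) (unit_sdReg hF odd_one (by rwa [pow_one])) (unit_par hF _)
        (by rw [finrank_std]; omega) hdvd, torus_ordq hF hdiv, torus_cyc hF hdiv, finrank_std, Nat.div_one,
        Nat.div_one, Nat.mod_one, Nat.mod_one]
      exact ⟨hm, le_rfl, hs⟩
    · obtain ⟨hK, hsd, hfree, -⟩ := torus_killed hF hr2 hdiv hz hroot hTr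
      have hv := torus_padic hF hr2 hdiv hn hz hroot hTr hdet
      obtain ⟨j, rfl⟩ : r ∣ m := hcond.resolve_right (not_le.2 hv)
      obtain ⟨S, -, hSi, hSt, hSd⟩ := h.exists_ti_iterate hT 2
        (fun W' hW'W hW' hi hsize => h.exists_split_selfDual hT hK hsd hfree hW'W hW' hi (by simpa using hsize))
        j le_rfl h.nd_top (fun v _ => Submodule.mem_top) (Or.inr (by
          rw [finrank_top, finrank_std, mul_assoc]; omega))
      exact ⟨S, ⟨hSd, hSt⟩, hSi⟩

/-- The criterion on nondegenerate subspaces. -/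
theorem unit_torus_nd {m : ℕ} (hm : 1 ≤ m) (hmn : m ≤ n)
    (hdvd : r ∣ Nat.card {W : Submodule F 𝔼 // Member 𝔹 true m W}) :
    SUFix hF (n := n) r true m ↔ (r ∣ m ∨ padicValNat r n ≤ padicValNat r (q + 1)) := by
  have h := unit_isRefl (n := n) hF
  have hn : 0 < n := by omega
  constructor
  · intro hall
    by_contra! hc
    obtain ⟨T, hT, hdet, hz, hns, hdim⟩ := exists_torus hF hr2 hdiv hn hc.2
    obtain ⟨W, hW, hWi⟩ := hall T hT hdet hz hns
    exact hc.1 (hW.finrank_eq ▸ hdim W hWi)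
  · rintro hcond T hT hdet ⟨z, hTr⟩ hns
    have hz : z ^ (q + 1) = 1 := unit_pow_of_scalar hF hn (hTr ▸ hT.pow r)
    by_cases hroot : ∃ w, w ^ r = z ∧ w ^ (q + 1) = 1
    · obtain ⟨w, rfl, hw⟩ := hroot
      refine fix_of_root hF ?_ hT hw hTr hns
      rw [crit_nd h hr2 (torus_ne_zero hF hdiv)
        (Or.inl ⟨unit_sdReg hF odd_one (by rwa [pow_one]), unit_par hF _, rfl⟩) (unit_par hF m)
        (by rwa [finrank_std]) hdvd, torus_ordq hF hdiv, Nat.mod_one, Nat.mod_one]
      exact ⟨hm, le_rfl⟩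
    · obtain ⟨hK, hsd, hfree, -⟩ := torus_killed hF hr2 hdiv hz hroot hTr
      have hv := torus_padic hF hr2 hdiv hn hz hroot hTr hdet
      obtain ⟨j, rfl⟩ : r ∣ m := hcond.resolve_right (not_le.2 hv)
      have hB := h.hasBlocks_selfDual hT hK hsd fun _ => hfree
      obtain ⟨U, -, hU, hUi, hUd⟩ := hB.exists_sub h hT (Fact.out : r.Prime).pos j le_rfl h.nd_top
        (fun v _ => Submodule.mem_top) (by rw [finrank_top, finrank_std]; exact hmn)
      exact ⟨U, ⟨hUd, hU⟩, hUi⟩

end CfsgLib.Geo.Refl
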