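/-
Special unitary involutions modulo scalars, in odd characteristic.
-/
import Cfsg.Agent.Lib.Geo.Refl.UnitInstance
import Cfsg.Agent.Lib.Geo.Refl.Eigen

set_option autoImplicit false
set_option maxHeartbeats 400000
set_option linter.unusedSectionVars false

namespace CfsgLib.Geo.Refl

open Module Polynomial Matrix CfsgLib.Classical CfsgLib.Classical.Herm CfsgLib.Geo.PrimeAct

universe u

/-- The determinant of an involution. -/
theorem det_involution {F : Type*} [Field F] [Finite F] {V : Type*} [AddCommGroup V] [Module F V] [FiniteDimensional F V]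
    (h2 : (2 : F) ≠ 0) {T : Module.End F V} (hT : ∀ v, T (T v) = v) :
    LinearMap.det T = (-1) ^ finrank F (minusSp T) := by
  have hc := isCompl_eigen h2 hT
  have he : plusSp T ≤ (plusSp T).comap T := fun v hv => by
    rw [Submodule.mem_comap, mem_plusSp.1 hv]; exact hv
  have h1 : T.restrict he = LinearMap.id := LinearMap.ext fun v => Subtype.ext (mem_plusSp.1 v.2)
  have h3 : (plusSp T).mapQ (plusSp T) T he = (-1 : F) • LinearMap.id := by
    refine Submodule.linearMap_qext _ (LinearMap.ext fun v => ?_)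
    simp only [LinearMap.comp_apply, Submodule.mkQ_apply, Submodule.mapQ_apply, LinearMap.smul_apply,
      LinearMap.id_apply, neg_one_smul, ← Submodule.Quotient.mk_neg, Submodule.Quotient.eq, sub_neg_eq_add]
    rw [mem_plusSp, map_add, hT, add_comm]
  rw [LinearMap.det_eq_det_mul_det (plusSp T) T he, h1, h3, LinearMap.det_id, one_mul, LinearMap.det_smul,
    LinearMap.det_id, mul_one]
  have h4 := (plusSp T).finrank_quotient_add_finrank
  have h5 := finrank_eigen h2 hT
  congr 1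
  omega

variable {F : Type u} [Field F] [Fintype F] {q n : ℕ} (hF : Fintype.card F = q ^ 2) (h2 : (2 : F) ≠ 0)

local notation "𝔼" => (Fin n → F)
local notation "𝔹" => hermStd n hF

include hF h2

theorem unit_q_odd : q % 2 = 1 := by
  have h := FiniteField.odd_card_of_char_ne_two (F := F) fun hc => h2 (by
    haveI := ringChar.of_eq hc
    exact_mod_cast CharP.cast_eq_zero F 2)
  rw [hF, Nat.pow_mod] at h
  rcases Nat.mod_two_eq_zero_or_one q with e | e
  · rw [e] at h; simp at h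
  · exact e

theorem unit_sqrt {z : F} (hz : z ^ (q + 1) = 1) : ∃ w : F, w ^ 2 = z := by
  have hz0 : z ≠ 0 := by rintro rfl; rw [zero_pow (by omega)] at hz; exact zero_ne_one hz
  have hchar : ringChar F ≠ 2 := fun hc => h2 (by
    haveI := ringChar.of_eq hc
    exact_mod_cast CharP.cast_eq_zero F 2)
  obtain ⟨w, hw⟩ := (FiniteField.isSquare_iff hchar hz0).2 (by
    obtain ⟨t, rfl⟩ : ∃ t, q = 2 * t + 1 := ⟨q / 2, by have := unit_q_odd hF h2; omega⟩
    rw [hF, show (2 * t + 1) ^ 2 = 2 * ((2 * t + 1 + 1) * t) + 1 by ring,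
      show (2 * ((2 * t + 1 + 1) * t) + 1) / 2 = (2 * t + 1 + 1) * t by omega, pow_mul, hz, one_pow])
  exact ⟨w, by rw [hw, pow_two]⟩

omit hF in
theorem two_pow_val_ne_zero : padicValNat 2 (q + 1) = 0 → q % 2 = 0 := fun h => by
  rw [padicValNat.eq_zero_iff] at h
  rcases h with h | h | h <;> omega

/-- Normalising a square root of a scalar. -/
theorem two_cases (hn : 0 < n) {T : Module.End F 𝔼} (hT : Pres 𝔹 T) (hdet : LinearMap.det T = 1) {z : F}
    (hTr : T ^ 2 = z • (1 : Module.End F 𝔼)) :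
    ∃ (w : F) (S : Module.End F 𝔼), (∀ v, S (S v) = v) ∧ w ^ n * (-1) ^ finrank F (minusSp S) = 1 ∧
      (∀ W : Submodule F 𝔼, (∀ v ∈ W, S v ∈ W) → ∀ v ∈ W, T v ∈ W) ∧
      ((w ^ (q + 1) = 1 ∧ Pres 𝔹 S) ∨ (w ^ (q + 1) = -1 ∧ ∀ u v, 𝔹 (S u) (S v) = -𝔹 u v)) := by
  have hz : z ^ (q + 1) = 1 := unit_pow_of_scalar hF hn (hTr ▸ hT.pow 2)
  obtain ⟨w, rfl⟩ := unit_sqrt hF h2 hz
  have hw0 : w ≠ 0 := by rintro rfl; simp at hz
  have hS : ∀ v, (w⁻¹ • T) ((w⁻¹ • T) v) = v := fun v => by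
    have h1 := LinearMap.congr_fun hTr v
    rw [pow_two, Module.End.mul_apply] at h1
    rw [LinearMap.smul_apply, LinearMap.smul_apply, map_smul, h1, LinearMap.smul_apply, Module.End.one_apply,
      smul_smul, smul_smul, show w⁻¹ * w⁻¹ * w ^ 2 = 1 by field_simp, one_smul]
  have hB : ∀ u v, 𝔹 ((w⁻¹ • T) u) ((w⁻¹ • T) v) = (w⁻¹) ^ (q + 1) * 𝔹 u v := fun u v => by
    rw [LinearMap.smul_apply, LinearMap.smul_apply, Herm.smul_left, map_smul, hT, powHom_apply, smul_eq_mul,
      ← mul_assoc, ← pow_succ]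
  refine ⟨w, w⁻¹ • T, hS, ?_, fun W hW v hv => ?_, ?_⟩
  · have h1 : LinearMap.det (w • (w⁻¹ • T)) = 1 := by rw [smul_smul, mul_inv_cancel₀ hw0, one_smul, hdet]
    rwa [LinearMap.det_smul, det_involution h2 hS, finrank_std] at h1
  · have h1 := W.smul_mem w (hW v hv)
    rwa [LinearMap.smul_apply, smul_inv_smul₀ hw0] at h1
  · have hww : w ^ (q + 1) * w ^ (q + 1) = 1 := by rw [← pow_two, ← pow_mul, mul_comm, pow_mul, hz]
    rcases mul_self_eq_one_iff.1 hww with e | e
    · exact Or.inl ⟨e, fun u v => by rw [hB, inv_pow, e, inv_one, one_mul]⟩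
    · exact Or.inr ⟨e, fun u v => by rw [hB, inv_pow, e, inv_neg, inv_one, neg_one_mul]⟩

theorem two_ne_neg_one (hn : 0 < n) (hv : padicValNat 2 (q + 1) ≤ padicValNat 2 n) {w : F}
    (hw : w ^ (q + 1) = 1) : w ^ n ≠ -1 := by
  intro hwn
  set a := padicValNat 2 (q + 1) with ha
  obtain ⟨u, hu⟩ := (pow_padicValNat_dvd : 2 ^ a ∣ q + 1)
  obtain ⟨c, hc⟩ := (pow_dvd_pow 2 hv).trans (pow_padicValNat_dvd : 2 ^ padicValNat 2 n ∣ n)
  have hu2 : Odd u := by
    rw [← Nat.not_even_iff_odd]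
    rintro ⟨t, rfl⟩
    exact pow_succ_padicValNat_not_dvd (p := 2) (n := q + 1) (by omega) ⟨t, by rw [← ha, hu, pow_succ]; ring⟩
  have h1 : (w ^ n) ^ u = 1 := by
    rw [← pow_mul, hc, show 2 ^ a * c * u = 2 ^ a * u * c by ring, ← hu, pow_mul, hw, one_pow]
  rw [hwn, hu2.neg_one_pow] at h1
  exact h2 (by linear_combination -h1)

theorem two_three (hn : 0 < n) (hev : Even n) (hv : padicValNat 2 n ≤ padicValNat 2 (q + 1)) (hq : q % 4 = 3)
    {w : F} (hw : w ^ (q + 1) = -1) (hwn : w ^ n * (-1) ^ (n / 2) = 1) : False := by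
  set b := padicValNat 2 n with hb
  obtain ⟨c, hc⟩ := (pow_padicValNat_dvd : 2 ^ b ∣ n)
  obtain ⟨d, hd⟩ := (pow_dvd_pow 2 hv).trans (pow_padicValNat_dvd : 2 ^ padicValNat 2 (q + 1) ∣ q + 1)
  have hc2 : Odd c := by
    rw [← Nat.not_even_iff_odd]
    rintro ⟨t, rfl⟩
    exact pow_succ_padicValNat_not_dvd (p := 2) (n := n) hn.ne' ⟨t, by rw [← hb, hc, pow_succ]; ring⟩
  have h1 : (w ^ n) ^ d = -1 := by
    rw [← pow_mul, hc, show 2 ^ b * c * d = 2 ^ b * d * c by ring, ← hd, pow_mul, hw, hc2.neg_one_pow]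
  have hsq : (w ^ n) ^ 2 = 1 := by
    have h3 : (w ^ n * (-1) ^ (n / 2)) ^ 2 = 1 := by rw [hwn, one_pow]
    rwa [mul_pow, ← pow_mul (-1 : F), mul_comm (n / 2), pow_mul, neg_one_sq, one_pow, mul_one] at h3
  rcases hv.lt_or_eq with hlt | heq
  · obtain ⟨e, he⟩ : 2 ∣ d := by
      have h4 : 2 ^ (b + 1) ∣ 2 ^ b * d :=
        hd ▸ (pow_dvd_pow 2 hlt).trans (pow_padicValNat_dvd (p := 2) (n := q + 1))
      rw [pow_succ] at h4
      exact (Nat.mul_dvd_mul_iff_left (pow_pos two_pos b)).1 h4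
    rw [he, pow_mul, hsq, one_pow] at h1
    exact h2 (by linear_combination h1)
  · have h4 : 4 ∣ n := by
      have h5 : 2 ≤ padicValNat 2 (q + 1) := (padicValNat_dvd_iff_le (by omega)).1 (by show 4 ∣ q + 1; omega)
      exact (pow_dvd_pow 2 (heq ▸ h5 : 2 ≤ b)).trans pow_padicValNat_dvd
    have hw1 : w ^ n = 1 := by
      rwa [Even.neg_one_pow (Nat.even_iff.2 (by omega)), mul_one] at hwn
    rw [hw1, one_pow] at h1
    exact h2 (by linear_combination h1)

/-- An element without invariant totally isotropic halves. -/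
theorem exists_two_diag (hn : 0 < n) (hev : Even n) (hv : padicValNat 2 n < padicValNat 2 (q + 1)) :
    ∃ T : Module.End F 𝔼, Pres 𝔹 T ∧ LinearMap.det T = 1 ∧ (∃ z : F, T ^ 2 = z • 1) ∧ (∀ c : F, T ≠ c • 1) ∧
      ∀ W, TI 𝔹 W → (∀ v ∈ W, T v ∈ W) → 2 * finrank F W ≤ n - 1 := by
  classical
  set b := padicValNat 2 n with hb
  have hb1 : 2 ^ (b + 1) ∣ q + 1 := (pow_dvd_pow 2 hv).trans pow_padicValNat_dvd
  obtain ⟨w, hw⟩ := exists_primitive hF (hb1.trans succ_dvd_sq_sub_one)
  have hwq : w ^ (q + 1) = 1 := (hw.pow_eq_one_iff_dvd _).2 hb1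
  obtain ⟨c, hc⟩ := (pow_padicValNat_dvd : 2 ^ b ∣ n)
  have hc2 : Odd c := by
    rw [← Nat.not_even_iff_odd]
    rintro ⟨t, rfl⟩
    exact pow_succ_padicValNat_not_dvd (p := 2) (n := n) hn.ne' ⟨t, by rw [← hb, hc, pow_succ]; ring⟩
  have hwn : w ^ n = -1 := by
    rw [hc, pow_mul, ((hw.pow (by positivity) (pow_succ 2 b)).eq_neg_one_of_two_right), hc2.neg_one_pow]
  have hw0 : w ≠ 0 := by rintro rfl; rw [zero_pow (by omega)] at hwq; exact zero_ne_one hwq
  have hww : -w ≠ w := fun e => hw0 ((mul_eq_zero.1 (show (2 : F) * w = 0 by linear_combination -e)).resolve_left h2)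
  set i₀ : Fin n := ⟨0, hn⟩
  let d : Fin n → F := fun i => if i = i₀ then -w else w
  have hdq : ∀ i, d i ^ (q + 1) = 1 := fun i => by
    simp only [d]
    split_ifs
    · rw [Even.neg_pow (Nat.even_iff.2 (by have := unit_q_odd hF h2; omega)), hwq]
    · exact hwq
  have hdet : ∏ i, d i = 1 := by
    have h1 : ∀ i, d i = (if i = i₀ then (-1 : F) else 1) * w := fun i => by
      simp only [d]; split_ifs <;> ring
    rw [Finset.prod_congr rfl fun i _ => h1 i, Finset.prod_mul_distrib, Finset.prod_ite_eq' _ i₀,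
      if_pos (Finset.mem_univ _), Finset.prod_const, Finset.card_univ, Fintype.card_fin, hwn]
    ring
  refine ⟨diagEnd d, diagEnd_pres hF hdq, by rw [diagEnd_det, hdet], ⟨w ^ 2, ?_⟩, fun c hc' => ?_, fun W hW hWi => ?_⟩
  · rw [diagEnd_pow, show (fun i => d i ^ 2) = fun _ => w ^ 2 from funext fun i => by
      simp only [d]; split_ifs <;> ring, diagEnd_const]
  · have h0 : ∀ i, d i = c := fun i => by
      have h1 := congrFun (LinearMap.congr_fun hc' (Pi.single i 1)) i
      simpa [diagEnd_apply] using h1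
    have h2' : 2 ≤ n := by obtain ⟨t, ht⟩ := hev; omega
    have h01 := (h0 i₀).trans (h0 ⟨1, h2'⟩).symm
    simp only [d, if_true, if_neg (show (⟨1, h2'⟩ : Fin n) ≠ i₀ from fun e => by simp [i₀] at e)] at h01
    exact hww h01
  · have h1 := diag_ti_bound hF hW hWi (Finset.univ.erase i₀) fun i hi j hij => by
      have hi' : i = i₀ := by simpa using hi
      subst hi'
      by_contra hne
      simp only [d, if_true, if_neg hne] at hij
      exact hww hij.symm
    rwa [Finset.card_erase_of_mem (Finset.mem_univ _), Finset.card_univ, Fintype.card_fin] at h1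

/-- An element with invariant nondegenerate subspaces of even dimension only. -/
theorem exists_two_anti (hn : 0 < n) (hev : Even n)
    (hv : ¬ (padicValNat 2 n ≤ padicValNat 2 (q + 1) ∧ q % 4 = 3)) :
    ∃ T : Module.End F 𝔼, Pres 𝔹 T ∧ LinearMap.det T = 1 ∧ (∃ z : F, T ^ 2 = z • 1) ∧ (∀ c : F, T ≠ c • 1) ∧
      ∀ W, ND 𝔹 W → (∀ v ∈ W, T v ∈ W) → Even (finrank F W) := by
  classical
  have hqo := unit_q_odd hF h2
  obtain ⟨k, rfl⟩ := hev
  set a := padicValNat 2 (q + 1) with ha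
  have ha1 : 1 ≤ a := one_le_padicValNat_of_dvd (by omega) (by omega)
  obtain ⟨u, hu⟩ := (pow_padicValNat_dvd : 2 ^ a ∣ q + 1)
  have hu2 : Odd u := by
    rw [← Nat.not_even_iff_odd]
    rintro ⟨t, rfl⟩
    exact pow_succ_padicValNat_not_dvd (p := 2) (n := q + 1) (by omega) ⟨t, by rw [← ha, hu, pow_succ]; ring⟩
  obtain ⟨w, hw⟩ := exists_primitive hF (k := 2 ^ (a + 1)) (by
    rw [show q ^ 2 - 1 = (q + 1) * (q - 1) by rw [← Nat.sq_sub_sq, one_pow], pow_succ]
    exact Nat.mul_dvd_mul pow_padicValNat_dvd (by omega))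
  have hwa : w ^ 2 ^ a = -1 := (hw.pow (by positivity) (pow_succ 2 a)).eq_neg_one_of_two_right
  have hwq : w ^ (q + 1) = -1 := by rw [hu, pow_mul, hwa, hu2.neg_one_pow]
  have hw0 : w ≠ 0 := by rintro rfl; rw [zero_pow (by omega)] at hwq; exact one_ne_zero (neg_eq_zero.1 hwq.symm)
  have hwn : w ^ (k + k) * (-1) ^ k = 1 := by
    by_cases hlt : 2 ^ (a + 1) ∣ k + k
    · have hk : Even k := by
        have h4 : 4 ∣ k + k := (show (4 : ℕ) ∣ 2 ^ (a + 1) from pow_dvd_pow 2 (show 2 ≤ a + 1 by omega)).trans hlt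
        exact Nat.even_iff.2 (by omega)
      rw [(hw.pow_eq_one_iff_dvd _).2 hlt, one_mul, hk.neg_one_pow]
    · have hb : padicValNat 2 (k + k) ≤ a := by
        by_contra hc
        exact hlt ((pow_dvd_pow 2 (by omega)).trans pow_padicValNat_dvd)
      have hq : q % 4 ≠ 3 := fun e => hv ⟨hb, e⟩
      have ha2 : a = 1 := by
        by_contra hne
        have h4 : 2 ^ 2 ∣ q + 1 := (pow_dvd_pow 2 (show 2 ≤ a by omega)).trans pow_padicValNat_dvd
        omega
      rw [ha2] at hwa hlt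
      have hk : Odd k := by
        rw [← Nat.not_even_iff_odd]
        rintro ⟨t, rfl⟩
        exact hlt ⟨t, by ring⟩
      rw [show k + k = 2 ^ 1 * k by ring, pow_mul, hwa, hk.neg_one_pow]
      ring
  -- the anti-isometric involution
  let π : Fin (k + k) → Fin (k + k) := fun i =>
    if h : (i : ℕ) < k then ⟨i + k, by omega⟩ else ⟨i - k, by omega⟩
  have hπ : Function.Involutive π := fun i => by
    apply Fin.ext
    simp only [π]
    by_cases h : (i : ℕ) < k
    · rw [dif_pos h, dif_neg (show ¬ (i : ℕ) + k < k by omega)]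
      show (i : ℕ) + k - k = i
      omega
    · rw [dif_neg h, dif_pos (show (i : ℕ) - k < k by omega)]
      show (i : ℕ) - k + k = i
      omega
  let c : Fin (k + k) → F := fun i => if (i : ℕ) < k then w else w⁻¹
  have hcc : ∀ i, c i * c (π i) = 1 := fun i => by
    simp only [c, π]
    by_cases h : (i : ℕ) < k
    · rw [dif_pos h, if_pos h, if_neg (by simp), mul_inv_cancel₀ hw0]
    · rw [dif_neg h, if_neg h, if_pos (show (i : ℕ) - k < k by omega), inv_mul_cancel₀ hw0]
  have hcq : ∀ i, c i ^ (q + 1) = -1 := fun i => by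
    simp only [c]
    split_ifs
    · exact hwq
    · rw [inv_pow, hwq, inv_neg, inv_one]
  let S : Module.End F (Fin (k + k) → F) :=
    { toFun := fun v i => c i * v (π i)
      map_add' := fun u v => by ext i; simp [mul_add]
      map_smul' := fun t v => by ext i; simp; ring }
  have hS : ∀ v, S (S v) = v := fun v => funext fun i => by
    show c i * (c (π i) * v (π (π i))) = v i
    rw [hπ, ← mul_assoc, hcc, one_mul]
  have hSB : ∀ u v, hermStd (k + k) hF (S u) (S v) = -hermStd (k + k) hF u v := fun u v => by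
    rw [hermStd_apply, hermStd_apply, Cfsg.hermForm, Cfsg.hermForm, ← Finset.sum_neg_distrib,
      ← Equiv.sum_comp hπ.toPerm (fun i => -(v i * u i ^ q))]
    refine Finset.sum_congr rfl fun i _ => ?_
    show c i * v (π i) * (c i * u (π i)) ^ q = -(v (π i) * u (π i) ^ q)
    calc c i * v (π i) * (c i * u (π i)) ^ q = c i ^ (q + 1) * (v (π i) * u (π i) ^ q) := by rw [mul_pow, pow_succ]; ring
      _ = _ := by rw [hcq, neg_one_mul]
  have h := unit_isRefl (n := k + k) hF
  have hdim := (anti_eigen h2 hS h hSB).2.2.2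
  rw [finrank_std] at hdim
  refine ⟨w • S, fun u v => ?_, ?_, ⟨w ^ 2, ?_⟩, fun t ht => ?_, fun W hW hWi => ?_⟩
  · rw [LinearMap.smul_apply, LinearMap.smul_apply, Herm.smul_left, map_smul, hSB, powHom_apply, smul_eq_mul,
      ← mul_assoc, ← pow_succ, hwq, neg_one_mul, neg_neg]
  · rw [LinearMap.det_smul, finrank_std, det_involution h2 hS,
      show finrank F (minusSp S) = k by omega, hwn]
  · rw [_root_.smul_pow]
    congr 1
    exact LinearMap.ext fun v => by rw [pow_two, Module.End.mul_apply, hS, Module.End.one_apply]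
  · have hk : 0 < k := by omega
    have h1 := congrFun (LinearMap.congr_fun ht (Pi.single (⟨k, by omega⟩ : Fin (k + k)) 1)) ⟨0, by omega⟩
    have hπ0 : π ⟨0, by omega⟩ = ⟨k, by omega⟩ := by simp [π, hk]
    have hne : (⟨0, by omega⟩ : Fin (k + k)) ≠ ⟨k, by omega⟩ := fun e => by simp [Fin.ext_iff] at e; omega
    simp [S, c, hπ0, hk, hne, hw0] at h1
  · have hWS : ∀ v ∈ W, S v ∈ W := fun v hv => by
      have h1 := W.smul_mem w⁻¹ (hWi v hv)
      rwa [LinearMap.smul_apply, inv_smul_smul₀ hw0] at h1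
    have h' := h.restrict_isRefl hW
    have hd' := (anti_eigen h2 (T := S.restrict hWS) (fun v => Subtype.ext (hS v)) h'
      fun u v => hSB u v).2.2.1
    exact ⟨_, hd'.symm.trans (two_mul _)⟩

/-- The criterion on isotropic subspaces. -/
theorem unit_two_ti {m : ℕ} (hm : 1 ≤ m) (hmn : 2 * m ≤ n) :
    SUFix hF (n := n) 2 false m ↔ (2 * m < n ∨ padicValNat 2 (q + 1) ≤ padicValNat 2 n) := by
  have h := unit_isRefl (n := n) hF
  have hn : 0 < n := by omega
  constructor
  · intro hall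
    by_contra! hc
    obtain ⟨T, hT, hdet, hz, hns, hbd⟩ := exists_two_diag hF h2 hn ⟨m, by omega⟩ hc.2
    obtain ⟨W, ⟨hWd, hWt⟩, hWi⟩ := hall T hT hdet hz hns
    have := hbd W hWt hWi
    omega
  · rintro hcond T hT hdet ⟨z, hTr⟩ -
    obtain ⟨w, S, hS, hwn, hback, ⟨hw, hp⟩ | ⟨hw, hp⟩⟩ := two_cases hF h2 hn hT hdet hTr
    · have hsum := finrank_eigen h2 hS
      rw [finrank_std] at hsum
      have hev : 2 * m < n ∨ Even (finrank F (minusSp S)) := hcond.imp_right fun hv => by
        rw [← Nat.not_odd_iff_even]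
        intro ho
        rw [ho.neg_one_pow] at hwn
        exact two_ne_neg_one hF h2 hn hv hw (by linear_combination -hwn)
      set α := finrank F (plusSp S)
      set β := finrank F (minusSp S)
      obtain ⟨W, hW, hWi⟩ := exists_ti_eigen h2 hS h hp (a := min m (α / 2)) (b := m - min m (α / 2))
        (by omega) (by rcases hev with e | ⟨t, ht⟩ <;> omega)
      exact ⟨W, by rwa [show min m (α / 2) + (m - min m (α / 2)) = m by omega] at hW, hback W hWi⟩
    · obtain ⟨W, hW, hWi⟩ := exists_ti_anti h2 hS h hp (m := m) (by rw [finrank_std]; exact hmn)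
      exact ⟨W, hW, hback W hWi⟩

/-- The criterion on nondegenerate subspaces. -/
theorem unit_two_nd {m : ℕ} (hm : 1 ≤ m) (hmn : m ≤ n) :
    SUFix hF (n := n) 2 true m ↔
      (Odd n ∨ Even m ∨ (padicValNat 2 n ≤ padicValNat 2 (q + 1) ∧ q % 4 = 3)) := by
  have h := unit_isRefl (n := n) hF
  have hn : 0 < n := by omega
  constructor
  · intro hall
    by_contra hc
    rw [not_or, not_or, Nat.not_odd_iff_even] at hc
    obtain ⟨T, hT, hdet, hz, hns, hev⟩ := exists_two_anti hF h2 hn hc.1 hc.2.2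
    obtain ⟨W, ⟨hWd, hWn⟩, hWi⟩ := hall T hT hdet hz hns
    exact hc.2.1 (hWd ▸ hev W hWn hWi)
  · rintro hcond T hT hdet ⟨z, hTr⟩ -
    obtain ⟨w, S, hS, hwn, hback, ⟨hw, hp⟩ | ⟨hw, hp⟩⟩ := two_cases hF h2 hn hT hdet hTr
    · have hsum := finrank_eigen h2 hS
      rw [finrank_std] at hsum
      set α := finrank F (plusSp S)
      obtain ⟨W, hW, hWi⟩ := exists_nd_eigen h2 hS h hp (a := min m α) (b := m - min m α)
        (min_le_right _ _) (by omega) (unit_par hF _) (unit_par hF _)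
      exact ⟨W, by rwa [show min m α + (m - min m α) = m by omega] at hW, hback W hWi⟩
    · obtain ⟨-, -, -, hNd⟩ := anti_eigen h2 hS h hp
      rw [finrank_std] at hNd
      have hme : Even m := by
        rcases hcond with ho | he | ⟨hv, hq⟩
        · exact absurd ⟨_, hNd.symm.trans (two_mul _)⟩ (Nat.not_even_iff_odd.2 ho)
        · exact he
        · exact (two_three hF h2 hn ⟨_, hNd.symm.trans (two_mul _)⟩ hv hq hw
            (by rwa [show n / 2 = finrank F (minusSp S) by omega])).elim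
      obtain ⟨k, rfl⟩ := hme
      obtain ⟨W, hW, hWi⟩ := exists_nd_anti h2 hS h hp (k := k) (by rw [finrank_std]; omega)
      exact ⟨W, by rwa [show k + k = 2 * k by omega], hback W hWi⟩

end CfsgLib.Geo.Refl
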