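/-
Arithmetic of orders shared by the unitary criteria.
-/
import Cfsg.Agent.Lib.Geo.Refl.UnitTorus
import Cfsg.Agent.Lib.Geo.Refl.UnitTwo
import Cfsg.Agent.Lib.Geo.Refl.CharCount

set_option autoImplicit false
set_option linter.unusedSectionVars false

namespace CfsgLib.Geo.Refl

open Module CfsgLib.Classical CfsgLib.Classical.Herm

universe u

variable {F : Type u} [Field F] [Fintype F] {p q r : ℕ} [Fact p.Prime] [CharP F p] [Fact r.Prime]

theorem unit_card_pow (hF : Fintype.card F = q ^ 2) : ∃ f, 0 < f ∧ q = p ^ f := by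
  obtain ⟨p', f, hpr, hp, hqf⟩ := exists_prime_pow_root hF
  obtain rfl : p' = p := CharP.eq F hp ‹_›
  refine ⟨f, Nat.pos_of_ne_zero fun h => ?_, hqf⟩
  have := two_le_of_card_sq hF
  rw [h, pow_zero] at hqf
  omega

theorem unit_cast_ne_zero (hF : Fintype.card F = q ^ 2) (hrp : r ≠ p) : (q : ZMod r) ≠ 0 := by
  obtain ⟨f, -, hqf⟩ := unit_card_pow (p := p) hF
  rw [Ne, ZMod.natCast_eq_zero_iff, hqf]
  exact fun h => hrp ((Nat.prime_dvd_prime_iff_eq Fact.out Fact.out).1 ((Fact.out : r.Prime).dvd_of_dvd_pow h))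

theorem unit_coprime_char (hF : Fintype.card F = q ^ 2) : Nat.Coprime p (q + 1) := by
  obtain ⟨f, hf, hqf⟩ := unit_card_pow (p := p) hF
  refine (Fact.out : p.Prime).coprime_iff_not_dvd.2 fun h => (Fact.out : p.Prime).not_dvd_one ?_
  exact (Nat.dvd_add_right (hqf ▸ dvd_pow_self p hf.ne')).1 h

theorem unit_two_iff_dvd (hr2 : r ≠ 2) : orderOf (q : ZMod r) = 2 ↔ r ∣ q + 1 := by
  haveI : Fact (2 < r) := ⟨lt_of_le_of_ne (Fact.out : r.Prime).two_le (Ne.symm hr2)⟩
  rw [← ZMod.natCast_eq_zero_iff]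
  push_cast
  rw [add_eq_zero_iff_eq_neg, orderOf_eq_prime_iff]
  constructor
  · rintro ⟨h1, h2⟩
    exact (mul_self_eq_one_iff.1 (by rw [← pow_two, h1])).resolve_left h2
  · intro h
    rw [h]
    exact ⟨neg_one_sq, ZMod.neg_one_ne_one⟩

end CfsgLib.Geo.Refl
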